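import Mathlib.RingTheory.Smooth.NoetherianDescent
import Mathlib.RingTheory.RingHom.FaithfullyFlat
import Mathlib.RingTheory.RingHom.Etale
import Mathlib.RingTheory.Etale.Basic
import Mathlib.RingTheory.Etale.Kaehler
import Mathlib.RingTheory.Spectrum.Prime.Chevalley
import Mathlib.RingTheory.Flat.FaithfullyFlat.Algebra
import Mathlib.RingTheory.Extension.Presentation.Core

/-!
Finite type, finite presentation, and unramifiedness descend along faithfully flat etale maps of the source.
-/

universe u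

open TensorProduct

namespace Groth.Agent.AlgSpc

/-- Killing `m` after a flat base change makes its annihilator generate the unit ideal. -/
theorem annihilator_map_eq_top {R C : Type u} [CommRing R] [CommRing C] [Algebra R C] [Module.Flat R C]
    {M : Type u} [AddCommGroup M] [Module R M] (m : M) (h : m ⊗ₜ[R] (1 : C) = 0) :
    Ideal.map (algebraMap R C) (LinearMap.ker (LinearMap.toSpanSingleton R M m)) = ⊤ := by
  set I : Ideal R := LinearMap.ker (LinearMap.toSpanSingleton R M m) with hI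
  let φ : (R ⧸ I) →ₗ[R] M := Submodule.liftQ I (LinearMap.toSpanSingleton R M m) le_rfl
  have hφ : Function.Injective φ := by
    rw [← LinearMap.ker_eq_bot, Submodule.ker_liftQ]
    exact (Submodule.eq_bot_iff _).2 fun x ⟨y, hy, he⟩ => he ▸ (Submodule.Quotient.mk_eq_zero _).2 hy
  have h1 : ((1 : R ⧸ I) ⊗ₜ[R] (1 : C)) = 0 := by
    apply Module.Flat.rTensor_preserves_injective_linearMap φ hφ
    rw [map_zero, LinearMap.rTensor_tmul, show φ 1 = m from by change (1 : R) • m = m; exact one_smul _ _]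
    exact h
  let q : (R ⧸ I) ⊗[R] C →ₐ[R] C ⧸ I.map (algebraMap R C) :=
    Algebra.TensorProduct.lift
      (Ideal.quotientMapₐ (I.map (algebraMap R C)) (Algebra.ofId R C) Ideal.le_comap_map)
      (Ideal.Quotient.mkₐ R _) fun _ _ => Commute.all _ _
  have := congrArg q h1
  rw [map_zero] at this
  simp only [q, Algebra.TensorProduct.lift_tmul, map_one, mul_one] at this
  rwa [Ideal.eq_top_iff_one, ← Ideal.Quotient.eq_zero_iff_mem, map_one]

/-- Generators of the image of a flat finitely presented algebra. -/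
theorem exists_image_generators {B₁ C₁ B C : Type u} [CommRing B₁] [CommRing C₁] [CommRing B] [CommRing C]
    [Algebra B₁ C₁] [Module.Flat B₁ C₁] [Algebra.FinitePresentation B₁ C₁] [Algebra B₁ B] [Algebra B C]
    [Module.FaithfullyFlat B C] (k : C₁ →+* C)
    (hk : k.comp (algebraMap B₁ C₁) = (algebraMap B C).comp (algebraMap B₁ B)) :
    ∃ (g : Finset B₁), Ideal.span (algebraMap B₁ B '' (g : Set B₁)) = ⊤ ∧
      ∀ I : Ideal B₁, I.map (algebraMap B₁ C₁) = ⊤ → (g : Set B₁) ⊆ I.radical := by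
  have hop : IsOpenMap (PrimeSpectrum.comap (algebraMap B₁ C₁)) :=
    PrimeSpectrum.isOpenMap_comap_of_hasGoingDown_of_finitePresentation
  obtain ⟨t, ht⟩ : ∃ t : Finset B₁,
      Set.range (PrimeSpectrum.comap (algebraMap B₁ C₁)) = ⋃ f ∈ t, (PrimeSpectrum.basicOpen f : Set _) := by
    have hc : IsCompact (Set.range (PrimeSpectrum.comap (algebraMap B₁ C₁))) :=
      isCompact_range (PrimeSpectrum.continuous_comap _)
    obtain ⟨t, ht⟩ := PrimeSpectrum.isCompact_isOpen_iff.1 ⟨hc, hop.isOpen_range⟩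
    exact ⟨t, ht ▸ by ext p; simp [PrimeSpectrum.mem_zeroLocus, Set.not_subset]⟩
  refine ⟨t, ?_, fun I hI f hf => ?_⟩
  · by_contra hne
    obtain ⟨m, hm, hle⟩ := Ideal.exists_le_maximal _ hne
    obtain ⟨P, hP⟩ := PrimeSpectrum.comap_surjective_of_faithfullyFlat (A := B) (B := C) ⟨m, hm.isPrime⟩
    have hmem : PrimeSpectrum.comap (algebraMap B₁ B) ⟨m, hm.isPrime⟩ ∈
        Set.range (PrimeSpectrum.comap (algebraMap B₁ C₁)) := by
      refine ⟨PrimeSpectrum.comap k P, ?_⟩
      rw [← PrimeSpectrum.comap_comp_apply, hk, PrimeSpectrum.comap_comp_apply, hP]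
    simp only [ht, Set.mem_iUnion] at hmem
    obtain ⟨f, hf, hfm⟩ := hmem
    exact hfm (hle (Ideal.subset_span ⟨f, hf, rfl⟩))
  · rw [SetLike.mem_coe, Ideal.radical_eq_sInf, Submodule.mem_sInf]
    rintro q ⟨hIq, hq⟩
    by_contra hfq
    obtain ⟨P, hP⟩ : (⟨q, hq⟩ : PrimeSpectrum B₁) ∈ Set.range (PrimeSpectrum.comap (algebraMap B₁ C₁)) := by
      rw [ht]
      exact Set.mem_biUnion hf hfq
    have : I.map (algebraMap B₁ C₁) ≤ P.asIdeal :=
      Ideal.map_le_iff_le_comap.2 (hIq.trans (congrArg PrimeSpectrum.asIdeal hP).ge)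
    exact P.isPrime.ne_top (top_le_iff.1 (hI ▸ this))

theorem finiteType_of_etale_faithfullyFlat (A B C : Type u) [CommRing A] [CommRing B] [CommRing C]
    [Algebra A B] [Algebra A C] [Algebra B C] [IsScalarTower A B C] [Algebra.Etale B C]
    [Module.FaithfullyFlat B C] [Algebra.FiniteType A C] : Algebra.FiniteType A B := by
  classical
  obtain ⟨S, C₀, _, _, hS, hC₀, ⟨e⟩⟩ :=
    Algebra.Etale.exists_subalgebra_fg (R := A) (A := B) (B := C)
  obtain ⟨s, hs⟩ := (inferInstance : Algebra.FiniteType A C).out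
  choose m hm using fun c => TensorProduct.exists_finset (e c)
  let T : Set B := ⋃ c ∈ s, (Prod.fst '' (m c : Set (B × C₀)))
  have hT : T.Finite := s.finite_toSet.biUnion fun c _ => ((m c).finite_toSet.image _)
  let B₁ : Subalgebra A B := S ⊔ Algebra.adjoin A T
  let σ : C₀ →ₐ[S] B ⊗[S] C₀ := Algebra.TensorProduct.includeRight
  let k : C₀ →+* C := e.symm.toRingEquiv.toRingHom.comp σ.toRingHom
  have hk : k.comp (algebraMap S C₀) = (algebraMap B C).comp (algebraMap S B) := by
    ext x
    change e.symm (σ (algebraMap S C₀ x)) = _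
    rw [σ.commutes, IsScalarTower.algebraMap_apply S B (B ⊗[S] C₀)]
    exact e.symm.commutes _
  obtain ⟨g, hg, hrad⟩ := exists_image_generators (B := B) (C := C) k hk
  obtain ⟨g', hg', y₀, hy₀⟩ := (Submodule.mem_span_image_iff_exists_fun (R := B)).1
    (show (1 : B) ∈ Ideal.span _ from hg.symm ▸ Submodule.mem_top)
  obtain ⟨y, hy⟩ : ∃ y : _ → B, ∑ x ∈ g', y x * algebraMap _ B x = 1 := by
    refine ⟨fun x => if h : x ∈ g' then y₀ ⟨x, h⟩ else 0, ?_⟩
    rw [← Finset.sum_coe_sort, ← hy₀]
    exact Finset.sum_congr rfl fun x _ => by simp [x.2, smul_eq_mul]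
  let B₂ : Subalgebra A B := B₁ ⊔ Algebra.adjoin A (y '' (g' : Set S))
  -- every element of `C` comes from `B₁`
  let N : Submodule S B :=
    { carrier := B₁
      add_mem' := B₁.add_mem
      zero_mem' := B₁.zero_mem
      smul_mem' := fun r x hx => B₁.mul_mem ((le_sup_left : S ≤ B₁) r.2) hx }
  have key : ∀ b : B, (Submodule.Quotient.mk b : B ⧸ N) ⊗ₜ[S] (1 : C₀) = 0 := by
    intro b
    suffices ∀ c : C, LinearMap.rTensor C₀ N.mkQ (e c) = 0 by
      simpa [Algebra.TensorProduct.algebraMap_apply] using this (algebraMap B C b)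
    intro c
    have : ∃ z : N ⊗[S] C₀, LinearMap.rTensor C₀ N.subtype z = e c := by
      have hc : c ∈ Algebra.adjoin A (s : Set C) := hs ▸ trivial
      induction hc using Algebra.adjoin_induction with
      | mem x hx =>
        rw [hm x]
        refine ⟨∑ i ∈ (m x).attach, (⟨i.1.1, ?_⟩ : N) ⊗ₜ i.1.2, ?_⟩
        · exact (le_sup_right : Algebra.adjoin A T ≤ B₁) (Algebra.subset_adjoin
            (Set.mem_biUnion hx ⟨i.1, i.2, rfl⟩))
        · simp only [map_sum, LinearMap.rTensor_tmul, Submodule.subtype_apply]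
          exact Finset.sum_attach (m x) fun i => i.1 ⊗ₜ[S] i.2
      | algebraMap r =>
        refine ⟨(⟨algebraMap A B r, B₁.algebraMap_mem r⟩ : N) ⊗ₜ 1, ?_⟩
        rw [IsScalarTower.algebraMap_apply A B C, e.commutes, Algebra.TensorProduct.algebraMap_apply]
        simp
      | add x z _ _ hx hz =>
        obtain ⟨a, ha⟩ := hx
        obtain ⟨b, hb⟩ := hz
        exact ⟨a + b, by rw [map_add, map_add, ha, hb]⟩
      | mul x z _ _ hx hz =>
        obtain ⟨a, ha⟩ := hx
        obtain ⟨b, hb⟩ := hz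
        rw [map_mul, ← ha, ← hb]
        clear ha hb
        induction a using TensorProduct.induction_on with
        | zero => exact ⟨0, by simp⟩
        | add a₁ a₂ h₁ h₂ =>
          obtain ⟨z₁, hz₁⟩ := h₁
          obtain ⟨z₂, hz₂⟩ := h₂
          exact ⟨z₁ + z₂, by rw [map_add, map_add, add_mul, hz₁, hz₂]⟩
        | tmul a₁ c₁ =>
          induction b using TensorProduct.induction_on with
          | zero => exact ⟨0, by simp⟩
          | add b₁ b₂ h₁ h₂ =>
            obtain ⟨z₁, hz₁⟩ := h₁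
            obtain ⟨z₂, hz₂⟩ := h₂
            exact ⟨z₁ + z₂, by rw [map_add, map_add, mul_add, hz₁, hz₂]⟩
          | tmul b₁ c₂ => exact ⟨(⟨a₁.1 * b₁.1, B₁.mul_mem a₁.2 b₁.2⟩ : N) ⊗ₜ (c₁ * c₂), by simp⟩
    obtain ⟨z, hz⟩ := this
    rw [← hz, ← LinearMap.rTensor_comp_apply, show N.mkQ ∘ₗ N.subtype = 0 from
      LinearMap.ext fun x => (Submodule.Quotient.mk_eq_zero _).2 x.2, LinearMap.rTensor_zero]
    rfl
  have hB : B₂ = ⊤ := by
    refine eq_top_iff.2 fun b _ => ?_
    have hI := annihilator_map_eq_top (C := C₀) (Submodule.Quotient.mk b : B ⧸ N) (key b)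
    let J : Ideal B₂ :=
      { carrier := {r | r.1 * b ∈ B₂}
        add_mem' := fun {r t} hr ht => by simpa [add_mul] using B₂.add_mem hr ht
        zero_mem' := by simp
        smul_mem' := fun r t ht => by simpa [mul_assoc] using B₂.mul_mem r.2 ht }
    have hgJ : ∀ x ∈ g', (⟨x.1, (le_sup_left : B₁ ≤ B₂) ((le_sup_left : S ≤ B₁) x.2)⟩ : B₂) ∈ J.radical := by
      intro x hx
      obtain ⟨N', hN'⟩ := hrad _ hI (hg' hx)
      rw [LinearMap.mem_ker, LinearMap.toSpanSingleton_apply, ← Submodule.Quotient.mk_smul,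
        Submodule.Quotient.mk_eq_zero] at hN'
      exact ⟨N', (le_sup_left : B₁ ≤ B₂) hN'⟩
    have h1 : (1 : B₂) ∈ J.radical := by
      have e1 : (1 : B₂) = ∑ x ∈ g'.attach,
          (⟨y x.1, (le_sup_right : _ ≤ B₂) (Algebra.subset_adjoin ⟨x.1, x.2, rfl⟩)⟩ : B₂) *
            ⟨x.1.1, (le_sup_left : B₁ ≤ B₂) ((le_sup_left : S ≤ B₁) x.1.2)⟩ := by
        apply Subtype.ext
        push_cast
        rw [Finset.sum_attach g' fun x : S => y x * (x : B), ← hy]
        rfl
      rw [e1]
      exact Submodule.sum_mem _ fun x _ => Ideal.mul_mem_left _ _ (hgJ x.1 x.2)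
    obtain ⟨n, hn⟩ := h1
    simpa [J] using hn
  refine ⟨?_⟩
  rw [← hB]
  exact (hS.sup (Subalgebra.fg_def.2 ⟨T, hT, rfl⟩)).sup
    (Subalgebra.fg_def.2 ⟨_, g'.finite_toSet.image y, rfl⟩)

theorem exists_fp_cover (A : Type u) {B : Type u} [CommRing A] [CommRing B] [Algebra A B]
    [Algebra.FiniteType A B] (S : Subalgebra ℤ B) [Algebra.FinitePresentation ℤ S] :
    ∃ (B' : Type u) (_ : CommRing B') (_ : Algebra A B') (_ : Algebra S B') (π : B' →ₐ[A] B),
      Function.Surjective π ∧ (∀ x : S, π (algebraMap S B' x) = x) ∧ Algebra.FinitePresentation A B' := by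
  obtain ⟨n, f, hf⟩ := Algebra.FiniteType.iff_quotient_mvPolynomial''.1 ‹Algebra.FiniteType A B›
  let B' := MvPolynomial (Fin n) A ⊗[ℤ] S
  let π : B' →ₐ[A] B := Algebra.TensorProduct.lift f S.val fun _ _ => Commute.all _ _
  refine ⟨B', inferInstance, inferInstance, Algebra.TensorProduct.rightAlgebra, π, fun b => ?_,
    fun x => ?_, ?_⟩
  · obtain ⟨p, rfl⟩ := hf b
    exact ⟨p ⊗ₜ 1, (Algebra.TensorProduct.lift_tmul _ _ _ p 1).trans (by rw [map_one, mul_one])⟩
  · change π (1 ⊗ₜ x) = x
    exact (Algebra.TensorProduct.lift_tmul _ _ _ _ x).trans (by rw [map_one, one_mul]; rfl)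
  · exact Algebra.FinitePresentation.trans A (MvPolynomial (Fin n) A) _

theorem finitePresentation_aux {A B' B C C' : Type u} [CommRing A] [CommRing B'] [CommRing B]
    [CommRing C] [CommRing C'] [Algebra A B'] [Algebra A B] [Algebra A C] [Algebra B' B] [Algebra B' C]
    [Algebra B C] [Algebra B' C'] [IsScalarTower A B' B] [IsScalarTower A B' C] [IsScalarTower B' B C]
    [Algebra.FinitePresentation A B'] [Algebra.FinitePresentation A C] [Module.Flat B' C']
    [Algebra.FinitePresentation B' C'] [Module.FaithfullyFlat B C]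
    (hπ : Function.Surjective (algebraMap B' B)) (σ : C' →ₐ[B'] C) (hσs : Function.Surjective σ)
    (hσ : RingHom.ker σ.toRingHom = Ideal.map (algebraMap B' C') (RingHom.ker (algebraMap B' B))) :
    Algebra.FinitePresentation A B := by
  classical
  have : Algebra.FiniteType A B' := inferInstance
  have : Algebra.FinitePresentation B' C :=
    Algebra.FinitePresentation.of_restrict_scalars_finitePresentation A B' C
  obtain ⟨t, ht⟩ : (RingHom.ker σ.toRingHom).FG :=
    Algebra.FinitePresentation.ker_fG_of_surjective σ hσs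
  -- finitely many elements of the kernel suffice
  obtain ⟨K₁, hK₁, hK₁le, hK₁eq⟩ : ∃ K₁ : Ideal B', K₁.FG ∧ K₁ ≤ RingHom.ker (algebraMap B' B) ∧
      RingHom.ker σ.toRingHom ≤ Ideal.map (algebraMap B' C') K₁ := by
    have hmem : ∀ c ∈ t, ∃ u : Finset B', (u : Set B') ⊆ RingHom.ker (algebraMap B' B) ∧
        c ∈ Ideal.span (algebraMap B' C' '' u) := fun c hc => by
      have := ht ▸ Ideal.subset_span hc
      rw [hσ, Ideal.map] at this
      obtain ⟨u, hu, hcu⟩ := Submodule.mem_span_finite_of_mem_span this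
      obtain ⟨u', hu', rfl⟩ := Finset.subset_set_image_iff.1 hu
      exact ⟨u', hu', by simpa using hcu⟩
    choose u hu hcu using hmem
    refine ⟨Ideal.span (t.attach.biUnion fun c => u c.1 c.2 : Finset B'), ⟨_, rfl⟩, ?_, ?_⟩
    · rw [Ideal.span_le]
      intro x hx
      obtain ⟨c, -, hx⟩ := Finset.mem_biUnion.1 hx
      exact hu c.1 c.2 hx
    · rw [← ht, Ideal.span_le, Ideal.map_span]
      intro c hc
      exact Ideal.span_mono (Set.image_mono fun x hx => Finset.mem_biUnion.2 ⟨⟨c, hc⟩, Finset.mem_attach _ _, hx⟩)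
        (hcu c hc)
  obtain ⟨g, hg, hrad⟩ := exists_image_generators (B := B) (C := C) σ.toRingHom (σ.comp_algebraMap.trans (IsScalarTower.algebraMap_eq B' B C))
  obtain ⟨g', hg', y₀, hy₀⟩ := (Submodule.mem_span_image_iff_exists_fun (R := B)).1
    (show (1 : B) ∈ Ideal.span _ from hg.symm ▸ Submodule.mem_top)
  obtain ⟨y, hy⟩ : ∃ y : _ → B, ∑ x ∈ g', y x * algebraMap _ B x = 1 := by
    refine ⟨fun x => if h : x ∈ g' then y₀ ⟨x, h⟩ else 0, ?_⟩
    rw [← Finset.sum_coe_sort, ← hy₀]
    exact Finset.sum_congr rfl fun x _ => by simp [x.2, smul_eq_mul]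
  choose y' hy' using fun x => hπ (y x)
  let ε : B' := 1 - ∑ x ∈ g', y' x * x
  have hε : ε ∈ RingHom.ker (algebraMap B' B) := by
    change algebraMap B' B ε = 0
    simp only [ε, map_sub, map_one, map_sum, map_mul, hy']
    rw [sub_eq_zero, ← hy]
  refine Algebra.FinitePresentation.of_surjective (f := IsScalarTower.toAlgHom A B' B) hπ ?_
  change (RingHom.ker (algebraMap B' B)).FG
  suffices RingHom.ker (algebraMap B' B) = K₁ ⊔ Ideal.span {ε} by
    exact this ▸ Submodule.FG.sup hK₁ (Submodule.fg_span_singleton ε)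
  refine le_antisymm (fun x hx => ?_) (sup_le hK₁le (by simpa [Ideal.span_le] using hε))
  -- the annihilator of `x` modulo `K₁`
  have hx0 : (Submodule.Quotient.mk x : B' ⧸ K₁) ⊗ₜ[B'] (1 : C') = 0 := by
    let r : C' →ₐ[B'] (B' ⧸ K₁) ⊗[B'] C' := Algebra.TensorProduct.includeRight
    have h0 : Ideal.map (algebraMap B' C') K₁ ≤ RingHom.ker r.toRingHom := by
      rw [Ideal.map_le_iff_le_comap]
      intro z hz
      change r (algebraMap B' _ z) = 0
      rw [r.commutes, Algebra.TensorProduct.algebraMap_apply, Ideal.Quotient.algebraMap_eq,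
        Ideal.Quotient.eq_zero_iff_mem.2 hz, TensorProduct.zero_tmul]
    have h1 : r (algebraMap B' _ x) = 0 := h0 (hK₁eq (hσ ▸ Ideal.mem_map_of_mem _ hx))
    rwa [r.commutes, Algebra.TensorProduct.algebraMap_apply] at h1
  have hI := annihilator_map_eq_top (C := C') (Submodule.Quotient.mk x : B' ⧸ K₁) hx0
  set I : Ideal B' := LinearMap.ker (LinearMap.toSpanSingleton B' _ (Submodule.Quotient.mk x : B' ⧸ K₁))
  have h1 : (1 : B') ∈ (I ⊔ Ideal.span {ε}).radical := by
    rw [show (1 : B') = ε + ∑ x ∈ g', y' x * x from (sub_add_cancel _ _).symm]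
    exact add_mem (Ideal.le_radical (Ideal.mem_sup_right (Ideal.subset_span rfl)))
      (Submodule.sum_mem _ fun z hz =>
        Ideal.mul_mem_left _ _ (Ideal.radical_mono le_sup_left (hrad I hI (hg' hz))))
  obtain ⟨m, hm⟩ := h1
  rw [one_pow, Submodule.mem_sup] at hm
  obtain ⟨i, hi, j, hj, hij⟩ := hm
  rw [← one_mul x, ← hij, add_mul]
  refine add_mem (Ideal.mem_sup_left ?_) (Ideal.mem_sup_right (Ideal.mul_mem_right _ _ hj))
  rwa [LinearMap.mem_ker, LinearMap.toSpanSingleton_apply, ← Submodule.Quotient.mk_smul,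
    Submodule.Quotient.mk_eq_zero] at hi

theorem finitePresentation_of_etale_faithfullyFlat (A B C : Type u) [CommRing A] [CommRing B] [CommRing C]
    [Algebra A B] [Algebra A C] [Algebra B C] [IsScalarTower A B C] [Algebra.Etale B C]
    [Module.FaithfullyFlat B C] [Algebra.FinitePresentation A C] : Algebra.FinitePresentation A B := by
  have : Algebra.FiniteType A B := finiteType_of_etale_faithfullyFlat A B C
  obtain ⟨S, C₀, _, _, hS, hC₀, ⟨e⟩⟩ :=
    Algebra.Etale.exists_subalgebra_fg (R := ℤ) (A := B) (B := C)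
  have : Algebra.FiniteType ℤ S := (Subalgebra.fg_iff_finiteType S).1 hS
  have : Algebra.FinitePresentation ℤ S := Algebra.FinitePresentation.of_finiteType.1 this
  obtain ⟨B', _, _, _, π, hπ, hπS, hFP⟩ := exists_fp_cover A S
  algebraize [π.toRingHom]
  have : IsScalarTower S B' B := IsScalarTower.of_algebraMap_eq fun x => (hπS x).symm
  have : IsScalarTower A B' B := IsScalarTower.of_algebraMap_eq fun x => (π.commutes x).symm
  let : Algebra B' C := ((algebraMap B C).comp (algebraMap B' B)).toAlgebra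
  have : IsScalarTower B' B C := IsScalarTower.of_algebraMap_eq fun _ => rfl
  have : IsScalarTower A B' C := IsScalarTower.of_algebraMap_eq fun x => by
    rw [IsScalarTower.algebraMap_apply A B C, IsScalarTower.algebraMap_apply A B' B]
    exact (IsScalarTower.algebraMap_apply B' B C _).symm
  let q : B' ⊗[S] C₀ →ₐ[B'] B ⊗[S] C₀ :=
    Algebra.TensorProduct.map (Algebra.ofId B' B) (AlgHom.id S C₀)
  let σ : B' ⊗[S] C₀ →ₐ[B'] C := (e.symm.toAlgHom.restrictScalars B').comp q
  refine finitePresentation_aux (C' := B' ⊗[S] C₀) hπ σ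
    (e.symm.surjective.comp (show Function.Surjective (TensorProduct.map (IsScalarTower.toAlgHom S B' B).toLinearMap
      (LinearMap.id (R := S) (M := C₀))) from TensorProduct.map_surjective hπ Function.surjective_id)) ?_
  exact (RingHom.ker_comp_of_injective q.toRingHom (f := e.symm.toRingEquiv.toRingHom) e.symm.injective).trans
    (Algebra.TensorProduct.rTensor_ker (C := C₀) (IsScalarTower.toAlgHom S B' B) hπ)

theorem formallyUnramified_of_etale_faithfullyFlat (A B C : Type u) [CommRing A] [CommRing B] [CommRing C]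
    [Algebra A B] [Algebra A C] [Algebra B C] [IsScalarTower A B C] [Algebra.Etale B C]
    [Module.FaithfullyFlat B C] [Algebra.FormallyUnramified A C] : Algebra.FormallyUnramified A B := by
  have : Subsingleton (C ⊗[B] Ω[B⁄A]) :=
    (KaehlerDifferential.tensorKaehlerEquivOfFormallyEtale A B C).subsingleton
  exact ⟨Module.FaithfullyFlat.lTensor_reflects_triviality B C _⟩

end Groth.Agent.AlgSpc
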