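import Mathlib.RingTheory.Extension.Presentation.Core
import Mathlib.RingTheory.Etale.Kaehler
import Mathlib.RingTheory.Smooth.Fiber
import Mathlib.RingTheory.Etale.Locus
import Mathlib.RingTheory.Flat.EquationalCriterion
import Groth.Agent.AlgSpc.EtSourceRing

/-!
Etale algebras lift along surjections; formal smoothness descends along etale faithfully flat maps of the source.
-/

universe u

open TensorProduct

namespace Groth.Agent.AlgSpc

/-- An etale algebra over a quotient is the quotient of an etale algebra. -/
theorem exists_etale_lift (P B C : Type u) [CommRing P] [CommRing B] [CommRing C] [Algebra P B]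
    [Algebra P C] [Algebra B C] [IsScalarTower P B C] [Algebra.Etale B C]
    (hPB : Function.Surjective (algebraMap P B)) :
    ∃ (Q : Type u) (_ : CommRing Q) (_ : Algebra P Q) (σ : Q →ₐ[P] C), Algebra.Etale P Q ∧
      Function.Surjective σ ∧
      RingHom.ker σ.toRingHom = Ideal.map (algebraMap P Q) (RingHom.ker (algebraMap P B)) := by
  classical
  obtain ⟨ι, τ, _, _, S, hS⟩ :=
    (Algebra.Etale.iff_isStandardSmoothOfRelativeDimension_zero (R := B) (S := C)).1 inferInstance
  have hr : ((algebraMap P B).range : Set B) = Set.univ := hPB.range_eq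
  have : S.HasCoeffs P := ⟨by rw [hr]; exact Set.subset_univ _⟩
  let M := S.toPresentation.ModelOfHasCoeffs P
  let pre := S.toPreSubmersivePresentation.ofHasCoeffs P
  let e : B ⊗[P] M ≃ₐ[B] C := S.toPresentation.tensorModelOfHasCoeffsEquiv P
  let k : M →ₐ[P] C := (e.toAlgHom.restrictScalars P).comp Algebra.TensorProduct.includeRight
  have hinc : Function.Surjective (Algebra.TensorProduct.includeRight : M →ₐ[P] B ⊗[P] M) := by
    intro x
    induction x with
    | zero => exact ⟨0, map_zero _⟩
    | add x y hx hy =>
      obtain ⟨a, rfl⟩ := hx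
      obtain ⟨b, rfl⟩ := hy
      exact ⟨a + b, map_add _ _ _⟩
    | tmul b m =>
      obtain ⟨p, rfl⟩ := hPB b
      exact ⟨p • m, by simp [Algebra.algebraMap_eq_smul_one, TensorProduct.smul_tmul]⟩
  have hk : Function.Surjective k := e.surjective.comp hinc
  have hker : RingHom.ker k.toRingHom = Ideal.map (algebraMap P M) (RingHom.ker (algebraMap P B)) := by
    refine le_antisymm (fun m hm => ?_) ?_
    · have h0 : (1 : B) ⊗ₜ[P] m = 0 := e.injective (hm.trans (map_zero e).symm)
      let K := RingHom.ker (algebraMap P B)
      let ρ : B →ₐ[P] M ⧸ K.map (algebraMap P M) :=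
        (Ideal.quotientMapₐ (K.map (algebraMap P M)) (Algebra.ofId P M) Ideal.le_comap_map).comp
          (Ideal.quotientKerAlgEquivOfSurjective (f := Algebra.ofId P B) hPB).symm.toAlgHom
      let q : B ⊗[P] M →ₐ[P] M ⧸ K.map (algebraMap P M) :=
        Algebra.TensorProduct.lift ρ (Ideal.Quotient.mkₐ P _) fun x y => mul_comm (ρ x) _
      have := congrArg q h0
      exact Ideal.Quotient.eq_zero_iff_mem.1 (((Algebra.TensorProduct.lift_tmul ρ _ _ 1 m).trans (by rw [map_one]; exact one_mul (Ideal.Quotient.mkₐ P (K.map (algebraMap P M)) m))).symm.trans (this.trans (map_zero q)))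
    · rw [Ideal.map_le_iff_le_comap]
      intro p hp
      change k (algebraMap P M p) = 0
      rw [k.commutes, IsScalarTower.algebraMap_apply P B C, hp, map_zero]
  let Δ : M := pre.jacobian
  have hΔ : IsUnit (k Δ) := by
    have : k Δ = S.jacobian := by
      rw [← S.aeval_jacobianOfHasCoeffs P]
      let : Fintype τ := Fintype.ofFinite τ
      change k pre.jacobian = _
      rw [Algebra.PreSubmersivePresentation.jacobian_eq_jacobiMatrix_det]
      change e (1 ⊗ₜ Ideal.Quotient.mk _ _) = _
      rw [Algebra.Presentation.tensorModelOfHasCoeffsEquiv_tmul, map_one, one_mul]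
      rfl
    exact this ▸ S.jacobian_isUnit
  let Q := Localization.Away Δ
  have hΔQ : IsUnit (algebraMap M Q Δ) := IsLocalization.Away.algebraMap_isUnit _
  have : Algebra.Etale P Q := by
    let R : Algebra.SubmersivePresentation P Q _ _ :=
      { toPreSubmersivePresentation := .comp (.localizationAway Q Δ) pre
        jacobian_isUnit := by simpa [Algebra.smul_def, -isUnit_map_iff, Δ] using hΔQ }
    have : Algebra.IsStandardSmoothOfRelativeDimension 0 P Q :=
      ⟨_, _, _, inferInstance, R, by
        simp only [R, Algebra.PreSubmersivePresentation.dimension_comp_eq_dimension_add_dimension]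
        simpa [Algebra.Presentation.dimension] using hS⟩
    infer_instance
  have hu : ∀ y : Submonoid.powers Δ, IsUnit (k y) := by
    rintro ⟨_, n, rfl⟩
    rw [map_pow]
    exact hΔ.pow n
  let σ : Q →ₐ[P] C := IsLocalization.liftAlgHom hu
  refine ⟨Q, inferInstance, inferInstance, σ, this, fun c => ?_, ?_⟩
  · obtain ⟨m, rfl⟩ := hk c
    exact ⟨algebraMap M Q m, IsLocalization.lift_eq _ m⟩
  · refine le_antisymm (fun x hx => ?_) ?_
    · obtain ⟨m, y, rfl⟩ := IsLocalization.exists_mk'_eq (Submonoid.powers Δ) x
      have : k m = 0 := by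
        have h := (IsLocalization.lift_mk'_spec (S := Q) (g := k.toRingHom) (hg := hu) m 0 y).1 hx
        simpa using h
      have hm : m ∈ RingHom.ker k.toRingHom := this
      rw [hker] at hm
      rw [IsLocalization.mk'_eq_mul_mk'_one]
      refine Ideal.mul_mem_right _ _ ?_
      rw [IsScalarTower.algebraMap_eq P M Q, ← Ideal.map_map]
      exact Ideal.mem_map_of_mem _ hm
    · rw [Ideal.map_le_iff_le_comap]
      intro p hp
      change σ (algebraMap P Q p) = 0
      rw [σ.commutes, IsScalarTower.algebraMap_apply P B C, hp, map_zero]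

/-- Formal smoothness of a finitely presented algebra descends along etale faithfully flat maps of the source. -/
theorem formallySmooth_of_etale_faithfullyFlat (A B C : Type u) [CommRing A] [CommRing B] [CommRing C]
    [Algebra A B] [Algebra A C] [Algebra B C] [IsScalarTower A B C] [Algebra.Etale B C]
    [Module.FaithfullyFlat B C] [Algebra.FinitePresentation A B] [Algebra.FormallySmooth A C] :
    Algebra.FormallySmooth A B := by
  have h₁ : Module.Projective B Ω[B⁄A] := by
    have : Module.Flat C (C ⊗[B] Ω[B⁄A]) :=
      Module.Flat.of_linearEquiv (KaehlerDifferential.tensorKaehlerEquivOfFormallyEtale A B C)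
    have : Module.Flat B Ω[B⁄A] := Module.Flat.of_flat_tensorProduct B _ C
    exact Module.Flat.projective_of_finitePresentation
  refine ⟨h₁, ?_⟩
  let P : Algebra.Extension A B :=
    ((Algebra.Presentation.ofFinitePresentation A B).toGenerators).toExtension
  have : Algebra.FormallySmooth A P.Ring := inferInstanceAs (Algebra.FormallySmooth A (MvPolynomial _ A))
  let : Algebra P.Ring C := ((algebraMap B C).comp (algebraMap P.Ring B)).toAlgebra
  have : IsScalarTower P.Ring B C := .of_algebraMap_eq' rfl
  have : IsScalarTower A P.Ring C := .of_algebraMap_eq fun a => by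
    rw [IsScalarTower.algebraMap_apply A B C, IsScalarTower.algebraMap_apply A P.Ring B]
    exact (IsScalarTower.algebraMap_apply P.Ring B C _).symm
  obtain ⟨Q₀, _, _, σ, hQ, hσs, hσ⟩ := exists_etale_lift P.Ring B C P.algebraMap_surjective
  let : Algebra A Q₀ := ((algebraMap P.Ring Q₀).comp (algebraMap A P.Ring)).toAlgebra
  have : IsScalarTower A P.Ring Q₀ := .of_algebraMap_eq' rfl
  let Q : Algebra.Extension A C := .ofSurjective (σ.restrictScalars A) hσs
  have : Algebra.FormallySmooth A Q.Ring := Algebra.FormallySmooth.comp A P.Ring Q₀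
  let f : P.Hom Q :=
  { toRingHom := algebraMap P.Ring Q₀
    toRingHom_algebraMap := fun x => (IsScalarTower.algebraMap_apply A P.Ring Q₀ x).symm
    algebraMap_toRingHom := fun x => (σ.commutes x).trans (IsScalarTower.algebraMap_apply P.Ring B C x) }
  let : Algebra P.Ring Q.Ring := (inferInstance : Algebra P.Ring Q₀)
  have H₂ : Function.Bijective ((f.mapKer rfl).liftBaseChange Q.Ring) := by
    constructor
    · have hfl : Module.Flat P.Ring Q.Ring := inferInstanceAs (Module.Flat P.Ring Q₀)
      have hinj := Module.Flat.lTensor_preserves_injective_linearMap (M := Q.Ring) P.ker.subtype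
        P.ker.injective_subtype
      intro x y hxy
      apply hinj
      apply (TensorProduct.rid P.Ring Q.Ring).injective
      have key : ∀ z : Q.Ring ⊗[P.Ring] P.ker, TensorProduct.rid P.Ring Q.Ring (P.ker.subtype.lTensor Q.Ring z) =
          (((f.mapKer rfl).liftBaseChange Q.Ring z : Q.ker) : Q.Ring) := by
        intro z
        induction z with
        | zero => simp
        | add a b ha hb => simp [ha, hb]
        | tmul a b => simp [Algebra.smul_def, mul_comm, Algebra.Extension.Hom.mapKer]; rfl
      rw [key, key, hxy]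
    · rw [← LinearMap.range_eq_top, eq_top_iff]
      rintro ⟨x, hx⟩ -
      have hx' : x ∈ Ideal.map (algebraMap P.Ring Q₀) P.ker := hσ.le hx
      suffices ∀ h : x ∈ Q.ker, (⟨x, h⟩ : Q.ker) ∈ LinearMap.range ((f.mapKer rfl).liftBaseChange Q.Ring) from
        this hx
      induction hx' using Submodule.span_induction with
      | mem z hz =>
        obtain ⟨p, hp, rfl⟩ := hz
        exact fun h => ⟨1 ⊗ₜ ⟨p, hp⟩, Subtype.ext (by simp [Algebra.Extension.Hom.mapKer]; rfl)⟩
      | zero => exact fun h => ⟨0, (map_zero _).trans (Subtype.ext rfl)⟩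
      | add a b ha hb iha ihb =>
        intro h
        exact add_mem (iha (hσ.ge ha) (hσ.ge ha)) (ihb (hσ.ge hb) (hσ.ge hb))
      | smul c a ha iha =>
        intro h
        exact Submodule.smul_mem _ c (iha (hσ.ge ha) (hσ.ge ha))
  have e₁ := Algebra.Extension.tensorH1CotangentOfFormallyEtale f rfl
    (RingHom.formallyEtale_algebraMap.2 (inferInstanceAs (Algebra.FormallyEtale P.Ring Q₀))) H₂
  have : Subsingleton (C ⊗[B] P.H1Cotangent) := by
    have : Subsingleton Q.H1Cotangent := (Q.equivH1CotangentOfFormallySmooth).subsingleton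
    exact e₁.subsingleton
  have := Module.FaithfullyFlat.lTensor_reflects_triviality B C P.H1Cotangent
  exact (P.equivH1CotangentOfFormallySmooth).symm.subsingleton

end Groth.Agent.AlgSpc
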