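import Groth.Agent.AlgSpc.EtQuot

/-!
Etale equivalence relations: restriction, and kernel pairs of etale charts.
-/

set_option autoImplicit false
set_option linter.style.haveILetI false
set_option backward.isDefEq.respectTransparency false

universe u

open CategoryTheory CategoryTheory.Limits AlgebraicGeometry Opposite

namespace Groth.Agent.AlgSpc

open _root_.AlgSp Groth.Agent.AlgSpLoc

variable {S : Scheme.{u}}

theorem isEtaleEqvRel_of_isPullback {F : Sp S} {R U : Over S} {p : (yon S).obj U ⟶ F}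
    (he : RepWith @Etale p) {s t : R ⟶ U}
    (sq : IsPullback ((yon S).map t) ((yon S).map s) p p) : IsEtaleEqvRel s t where
  injective T r r' h₁ h₂ := (yon S).map_injective (sq.hom_ext
    (by rw [← Functor.map_comp, h₁, Functor.map_comp]) (by rw [← Functor.map_comp, h₂, Functor.map_comp]))
  equivalence T := by
    have hfac : ∀ a b : T ⟶ U, (yon S).map a ≫ p = (yon S).map b ≫ p → ∃ r : T ⟶ R, r ≫ t = a ∧ r ≫ s = b :=
      fun a b w => ⟨pre (sq.lift _ _ w), (yon S).map_injective (by simp), (yon S).map_injective (by simp)⟩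
    have hfac' : ∀ {a b : T ⟶ U}, (∃ r : T ⟶ R, r ≫ t = a ∧ r ≫ s = b) → (yon S).map a ≫ p = (yon S).map b ≫ p := by
      rintro a b ⟨r, rfl, rfl⟩
      rw [Functor.map_comp, Functor.map_comp, Category.assoc, Category.assoc, sq.w]
    exact ⟨fun a => hfac a a rfl, fun h => hfac _ _ (hfac' h).symm,
      fun h h' => hfac _ _ ((hfac' h).trans (hfac' h'))⟩
  etale_left := he.2 p _ s sq
  etale_right := he.2 p _ t sq.flip

/-- A map with etale surjective chart is the coequalizer of its kernel pair. -/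
theorem nonempty_isColimit_cofork {F : Sp S} {R U : Over S} {p : (yon S).obj U ⟶ F}
    (he : RepWith @Etale p) (hs : RepWith @Surjective p) {s t : R ⟶ U}
    (sq : IsPullback ((yon S).map t) ((yon S).map s) p p) : Nonempty (IsColimit (Cofork.ofπ p sq.w)) := by
  haveI : Sheaf.IsLocallySurjective p :=
    isLocallySurjective_of_repWith (repWith_mono (P := @Etale) (Q := @Flat) (fun _ _ f (h : Etale f) => inferInstance) he)
      (repWith_mono (P := @Etale) (Q := @LocallyOfFinitePresentation) (fun _ _ f (h : Etale f) => inferInstance) he) hs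
  haveI : Epi p := inferInstance
  haveI := effectiveEpi_of_epi p
  have key : ∀ c : Cofork ((yon S).map t) ((yon S).map s), ∀ {Z : Sp S} (g₁ g₂ : Z ⟶ (yon S).obj U),
      g₁ ≫ p = g₂ ≫ p → g₁ ≫ c.π = g₂ ≫ c.π := fun c Z g₁ g₂ w => by
    rw [← sq.lift_fst g₁ g₂ w, Category.assoc, c.condition, ← Category.assoc, sq.lift_snd]
  exact ⟨Cofork.IsColimit.mk _ (fun c => EffectiveEpi.desc p c.π (key c)) (fun c => EffectiveEpi.fac p c.π (key c))
    fun c m hm => EffectiveEpi.uniq p _ (key c) m hm⟩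

section Restrict

variable {R U R' U' : Over S} {s t : R ⟶ U} {g : U' ⟶ U} {s' t' : R' ⟶ U'} {r : R' ⟶ R}

theorem restrict_hom_ext (hsq : IsPullback (prod.lift t' s') r (prod.map g g) (prod.lift t s))
    {Z : Over S} {a b : Z ⟶ R'} (h₁ : a ≫ t' = b ≫ t') (h₂ : a ≫ s' = b ≫ s') (h₃ : a ≫ r = b ≫ r) : a = b :=
  hsq.hom_ext (by ext <;> simp [h₁, h₂]) h₃

theorem restrict_w₁ (hsq : IsPullback (prod.lift t' s') r (prod.map g g) (prod.lift t s)) :
    t' ≫ g = r ≫ t := by
  simpa using congrArg (· ≫ prod.fst) hsq.w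

theorem restrict_w₂ (hsq : IsPullback (prod.lift t' s') r (prod.map g g) (prod.lift t s)) :
    s' ≫ g = r ≫ s := by
  simpa using congrArg (· ≫ prod.snd) hsq.w

theorem restrict_exists_lift (hsq : IsPullback (prod.lift t' s') r (prod.map g g) (prod.lift t s))
    {Z : Over S} (a b : Z ⟶ U') (c : Z ⟶ R) (h₁ : a ≫ g = c ≫ t) (h₂ : b ≫ g = c ≫ s) :
    ∃ n : Z ⟶ R', n ≫ t' = a ∧ n ≫ s' = b ∧ n ≫ r = c := by
  have w : prod.lift a b ≫ prod.map g g = c ≫ prod.lift t s := by ext <;> simp [h₁, h₂]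
  refine ⟨hsq.lift _ _ w, ?_, ?_, hsq.lift_snd _ _ w⟩
  · simpa using congrArg (· ≫ prod.fst) (hsq.lift_fst _ _ w)
  · simpa using congrArg (· ≫ prod.snd) (hsq.lift_fst _ _ w)

/-- The projection of a restricted relation is a composite of base changes. -/
theorem restrict_prop (P : MorphismProperty Scheme.{u}) [P.IsStableUnderBaseChange] [P.IsStableUnderComposition]
    (hsq : IsPullback (prod.lift t' s') r (prod.map g g) (prod.lift t s))
    (hg : P g.left) (hs : P s.left) : P s'.left := by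
  have sq : IsPullback (pullback.lift t' r (restrict_w₁ hsq)) s' (pullback.snd g t ≫ s) g := by
    have w : pullback.lift t' r (restrict_w₁ hsq) ≫ pullback.snd g t ≫ s = s' ≫ g := by
      rw [pullback.lift_snd_assoc, restrict_w₂ hsq]
    have hlift : ∀ x : PullbackCone (pullback.snd g t ≫ s) g, ∃ n : x.pt ⟶ R',
        n ≫ t' = x.fst ≫ pullback.fst g t ∧ n ≫ s' = x.snd ∧ n ≫ r = x.fst ≫ pullback.snd g t := fun x =>
      restrict_exists_lift hsq _ _ _ (by rw [Category.assoc, Category.assoc, pullback.condition])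
        (by rw [← x.condition, Category.assoc])
    choose n h₁ h₂ h₃ using hlift
    refine IsPullback.of_isLimit' ⟨w⟩ (PullbackCone.IsLimit.mk _ n (fun x => ?_) h₂ fun x m hm₁ hm₂ => ?_)
    · apply pullback.hom_ext <;> simp [h₁, h₃]
    · refine restrict_hom_ext hsq ?_ (hm₂.trans (h₂ x).symm) ?_
      · rw [h₁, ← hm₁, Category.assoc, pullback.lift_fst]
      · rw [h₃, ← hm₁, Category.assoc, pullback.lift_snd]
  refine MorphismProperty.of_isPullback (sq.map (Over.forget S)) ?_
  change P ((pullback.snd g t).left ≫ s.left)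
  exact P.comp_mem _ _ (MorphismProperty.of_isPullback ((IsPullback.of_hasPullback g t).map (Over.forget S)) hg) hs

theorem restrict_swap (hsq : IsPullback (prod.lift t' s') r (prod.map g g) (prod.lift t s)) :
    IsPullback (prod.lift s' t') r (prod.map g g) (prod.lift s t) := by
  have hlift : ∀ x : PullbackCone (prod.map g g) (prod.lift s t), ∃ n : x.pt ⟶ R',
      n ≫ t' = x.fst ≫ prod.snd ∧ n ≫ s' = x.fst ≫ prod.fst ∧ n ≫ r = x.snd := fun x =>
    restrict_exists_lift hsq _ _ _ (by simpa using congrArg (· ≫ prod.snd) x.condition)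
      (by simpa using congrArg (· ≫ prod.fst) x.condition)
  choose n h₁ h₂ h₃ using hlift
  refine IsPullback.of_isLimit' ⟨by ext <;> simp [restrict_w₁ hsq, restrict_w₂ hsq]⟩
    (PullbackCone.IsLimit.mk _ n (fun x => by ext <;> simp [h₁, h₂]) h₃ fun x m hm₁ hm₂ => ?_)
  refine restrict_hom_ext hsq ?_ ?_ (hm₂.trans (h₃ x).symm)
  · rw [h₁, ← hm₁, Category.assoc, prod.lift_snd]
  · rw [h₂, ← hm₁, Category.assoc, prod.lift_fst]

theorem isEqvRel_restrict (hsq : IsPullback (prod.lift t' s') r (prod.map g g) (prod.lift t s))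
    (h : IsEqvRel s t) : IsEqvRel s' t' where
  injective T a b h₁ h₂ := restrict_hom_ext hsq h₁ h₂ (h.injective T _ _
    (by rw [Category.assoc, Category.assoc, ← restrict_w₁ hsq, reassoc_of% h₁])
    (by rw [Category.assoc, Category.assoc, ← restrict_w₂ hsq, reassoc_of% h₂]))
  equivalence T := by
    have hin : ∀ a b : T ⟶ U', (∃ n : T ⟶ R, n ≫ t = a ≫ g ∧ n ≫ s = b ≫ g) →
        ∃ n : T ⟶ R', n ≫ t' = a ∧ n ≫ s' = b := fun a b ⟨c, h₁, h₂⟩ => by
      obtain ⟨n, e₁, e₂, -⟩ := restrict_exists_lift hsq a b c h₁.symm h₂.symm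
      exact ⟨n, e₁, e₂⟩
    have hout : ∀ {a b : T ⟶ U'}, (∃ n : T ⟶ R', n ≫ t' = a ∧ n ≫ s' = b) →
        ∃ n : T ⟶ R, n ≫ t = a ≫ g ∧ n ≫ s = b ≫ g := by
      rintro a b ⟨n, rfl, rfl⟩
      exact ⟨n ≫ r, by rw [Category.assoc, Category.assoc, restrict_w₁ hsq],
        by rw [Category.assoc, Category.assoc, restrict_w₂ hsq]⟩
    exact ⟨fun a => hin a a ((h.equivalence T).refl _), fun k => hin _ _ ((h.equivalence T).symm (hout k)),
      fun k k' => hin _ _ ((h.equivalence T).trans (hout k) (hout k'))⟩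

theorem isEtaleEqvRel_restrict (hsq : IsPullback (prod.lift t' s') r (prod.map g g) (prod.lift t s))
    (h : IsEtaleEqvRel s t) [hg : Etale g.left] : IsEtaleEqvRel s' t' :=
  { isEqvRel_restrict hsq h.toIsEqvRel with
    etale_left := restrict_prop @Etale hsq hg h.etale_left
    etale_right := restrict_prop @Etale (restrict_swap hsq) hg h.etale_right }

end Restrict

/-- Fibre products of algebraic spaces over a sheaf with representable diagonal. -/
theorem isAlgSpace_pullback_of_diag {H : Sp S} (hH : Representable (Limits.diag H)) {X Y P : Sp S}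
    (hX : IsAlgSpace X) (hY : IsAlgSpace Y) {f : X ⟶ H} {g : Y ⟶ H} {fst : P ⟶ X} {snd : P ⟶ Y}
    (h : IsPullback fst snd f g) : IsAlgSpace P := by
  obtain ⟨U, p, hp, hps⟩ := hX.atlas
  obtain ⟨V, q, hq, hqs⟩ := hY.atlas
  -- `X ×_H V`
  have sQ := IsPullback.of_hasPullback snd q
  have sQH : IsPullback (pullback.fst snd q ≫ fst) (pullback.snd snd q) f (q ≫ g) :=
    sQ.flip.paste_vert h.flip |>.flip
  -- `U ×_H V`
  have sW := IsPullback.of_hasPullback p (pullback.fst snd q ≫ fst)
  have sWH : IsPullback (pullback.fst p (pullback.fst snd q ≫ fst))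
      (pullback.snd p (pullback.fst snd q ≫ fst) ≫ pullback.snd snd q) (p ≫ f) (q ≫ g) :=
    sW.paste_vert sQH
  obtain ⟨W, a, b, sq⟩ := exists_sq (Functor.relativelyRepresentable.of_diag hH (p ≫ f)) (q ≫ g)
  let i := sq.isoIsPullback _ _ sWH
  have h₁ : ∀ (Pr : MorphismProperty Scheme.{u}) [Pr.IsStableUnderBaseChange] [Pr.IsStableUnderComposition]
      [Pr.RespectsIso] [Pr.ContainsIdentities], RepWith Pr p → RepWith Pr q →
      RepWith Pr (i.hom ≫ pullback.snd p (pullback.fst snd q ≫ fst) ≫ pullback.fst snd q) := by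
    intro Pr _ _ _ _ hp hq
    exact repWith_comp (repWith_iso i.hom) (repWith_comp (repWith_of_isPullback sW hp)
      (repWith_of_isPullback sQ.flip hq))
  exact isAlgSpace_of_etale_atlas _ (h₁ @Etale hp hq) (h₁ @Surjective hps hqs)

end Groth.Agent.AlgSpc
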