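import Groth.Agent.AlgSpc.EtQuot
import Mathlib.CategoryTheory.Limits.MonoCoprod
import Mathlib.CategoryTheory.Sites.Subsheaf
import Mathlib.CategoryTheory.Extensive

/-!
Coproducts of sheaves of sets, and sheaves covered by open subspaces which are algebraic spaces.
-/

set_option autoImplicit false
set_option linter.style.haveILetI false
set_option backward.isDefEq.respectTransparency false

universe u v

open CategoryTheory CategoryTheory.Limits AlgebraicGeometry Opposite

namespace Groth.Agent.AlgSpc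

open _root_.AlgSp Groth.Agent.AlgSpLoc

variable {S : Scheme.{u}}

/-- The map to the final sheaf. -/
noncomputable def spToBase (F : Sp S) : F ⟶ (yon S).obj (Over.mk (𝟙 S)) :=
  ObjectProperty.homMk
    { app := fun T => TypeCat.ofHom fun _ => ⟨toBase T.unop⟩
      naturality := fun T T' f => by
        ext x
        exact congrArg ULift.up (toBase_unique _ _) }

theorem empty_hom_ext {F : Sp S} {W : Over S} [IsEmpty ↥W.left] (a b : (yon S).obj W ⟶ F) : a = b :=
  hom_ext_of_openCover (κ := PEmpty.{u + 1}) (fun k => k.elim) (fun k => k.elim) (fun k => k.elim)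
    (fun t => isEmptyElim t) fun k => k.elim

theorem exists_empty_hom (F : Sp S) {W : Over S} [IsEmpty ↥W.left] :
    Nonempty ((yon S).obj W ⟶ F) :=
  ⟨(existsUnique_glue (κ := PEmpty.{u + 1}) (fun k => k.elim) (fun k => k.elim) (fun k => k.elim)
    (fun t => isEmptyElim t) (fun k => k.elim) (fun k => k.elim)).exists.choose⟩

/-- A map which locally factors through a monomorphism of sheaves factors through it. -/
theorem exists_factor_of_mem_J {F G : Sp S} (m : F ⟶ G) [Mono m] {T : Over S} (g : (yon S).obj T ⟶ G)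
    {R : Sieve T} (hR : R ∈ J S T)
    (h : ∀ ⦃W : Over S⦄ (w : W ⟶ T), R w → ∃ a, a ≫ m = (yon S).map w ≫ g) : ∃ a, a ≫ m = g := by
  choose a ha using h
  let x : Presieve.FamilyOfElements F.obj R.arrows := fun W w hw => (J S).uliftYonedaEquiv (a w hw)
  have hx : x.Compatible := fun Y₁ Y₂ Z g₁ g₂ f₁ f₂ h₁ h₂ w => by
    simp only [x]
    rw [GrothendieckTopology.uliftYonedaEquiv_naturality, GrothendieckTopology.uliftYonedaEquiv_naturality]
    congr 1
    rw [← cancel_mono m, Category.assoc, Category.assoc, ha, ha, ← Category.assoc, ← Category.assoc,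
      ← Functor.map_comp, ← Functor.map_comp, w]
  obtain ⟨t, ht, -⟩ := ((isSheaf_iff_isSheaf_of_type _ _).1 F.property) R hR x hx
  refine ⟨(J S).uliftYonedaEquiv.symm t, (J S).uliftYonedaEquiv.injective ?_⟩
  refine (((isSheaf_iff_isSheaf_of_type _ _).1 G.property).isSeparated R hR).ext fun W w hw => ?_
  rw [GrothendieckTopology.uliftYonedaEquiv_naturality, GrothendieckTopology.uliftYonedaEquiv_naturality,
    ← Category.assoc, ← ha w hw]
  congr 2
  apply (J S).uliftYonedaEquiv.injective
  rw [← GrothendieckTopology.uliftYonedaEquiv_naturality, Equiv.apply_symm_apply]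
  exact ht w hw

variable {ι : Type v} {F : ι → Sp S} {c : Cofan F}

/-- Every section of a coproduct of sheaves lies locally in one of the summands. -/
theorem exists_mem_J_inj (hc : IsColimit c) {T : Over S} (g : (yon S).obj T ⟶ c.pt) :
    ∃ R ∈ J S T, ∀ ⦃W : Over S⦄ (w : W ⟶ T), R w →
      ∃ (j : ι) (a : (yon S).obj W ⟶ F j), a ≫ c.inj j = (yon S).map w ≫ g := by
  let U₀ : Subfunctor c.pt.obj := ⨆ j, Subfunctor.range (c.inj j).hom
  have hcp : Presieve.IsSheaf (J S) c.pt.obj := (isSheaf_iff_isSheaf_of_type _ _).1 c.pt.property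
  let G : Sp S := ⟨(U₀.sheafify (J S)).toFunctor,
    (isSheaf_iff_isSheaf_of_type _ _).2 (U₀.sheafify_isSheaf hcp)⟩
  let i : G ⟶ c.pt := ObjectProperty.homMk (U₀.sheafify (J S)).ι
  have hle : ∀ j, Subfunctor.range (c.inj j).hom ≤ U₀.sheafify (J S) := fun j =>
    (le_iSup (fun j => Subfunctor.range (c.inj j).hom) j).trans (U₀.le_sheafify (J S))
  let l : c.pt ⟶ G := Cofan.IsColimit.desc hc fun j =>
    ObjectProperty.homMk (Subfunctor.lift (c.inj j).hom (hle j))
  have hl : l ≫ i = 𝟙 c.pt := Cofan.IsColimit.hom_ext hc _ _ fun j => by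
    rw [Cofan.IsColimit.fac_assoc, Category.comp_id]
    rfl
  obtain ⟨s, rfl⟩ := (J S).uliftYonedaEquiv.{u + 1}.symm.surjective g
  have hs : s ∈ (U₀.sheafify (J S)).obj (op T) := by
    have h := congrArg (fun φ => φ.hom.app (op T) s) hl
    exact (show i.hom.app (op T) (l.hom.app (op T) s) = s from h) ▸ (l.hom.app (op T) s).2
  refine ⟨U₀.sieveOfSection s, hs, fun W w hw => ?_⟩
  have hw' : c.pt.obj.map w.op s ∈ (⨆ j, Subfunctor.range (c.inj j).hom).obj (op W) := hw
  rw [Subfunctor.iSup_obj, Set.mem_iUnion] at hw'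
  obtain ⟨j, a, ha⟩ := hw'
  refine ⟨j, (J S).uliftYonedaEquiv.symm a, (J S).uliftYonedaEquiv.injective ?_⟩
  rw [GrothendieckTopology.uliftYonedaEquiv_comp, Equiv.apply_symm_apply,
    ← GrothendieckTopology.uliftYonedaEquiv_naturality, Equiv.apply_symm_apply]
  exact ha

/-- The coprojections are jointly surjective on points. -/
theorem exists_points_inj (hc : IsColimit c) (x : Points c.pt) :
    ∃ j, x ∈ Set.range (Points.map (c.inj j)) := by
  obtain ⟨T, g, t, rfl⟩ := exists_ofPt x
  obtain ⟨R, hR, hlift⟩ := exists_mem_J_inj hc g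
  obtain ⟨W, w, hw, z, rfl⟩ := exists_arrow_of_mem_J hR t
  obtain ⟨j, a, ha⟩ := hlift w hw
  exact ⟨j, Points.ofPt a z, by rw [Points.map_ofPt, ha, ofPt_comp]⟩

/-- The summands are open and closed in the coproduct. -/
theorem repWith_inj (hc : IsColimit c) (i : ι) [Mono (c.inj i)] :
    RepWith (@IsOpenImmersion ⊓ @IsClosedImmersion) (c.inj i) := by
  classical
  refine repWith_mk fun T g => ?_
  let P2 : Over S := Over.mk (coprod.desc (𝟙 S) (𝟙 S))
  let il : Over.mk (𝟙 S) ⟶ P2 := Over.homMk coprod.inl (coprod.inl_desc _ _)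
  let ir : Over.mk (𝟙 S) ⟶ P2 := Over.homMk coprod.inr (coprod.inr_desc _ _)
  let χ : c.pt ⟶ (yon S).obj P2 :=
    Cofan.IsColimit.desc hc fun j => spToBase (F j) ≫ (yon S).map (if j = i then il else ir)
  have hχ : ∀ {W : Over S} (j : ι) (a : (yon S).obj W ⟶ F j),
      pre (a ≫ c.inj j ≫ χ) = toBase W ≫ (if j = i then il else ir) := by
    intro W j a
    apply (yon S).map_injective
    rw [map_pre, Functor.map_comp, Cofan.IsColimit.fac, ← Category.assoc, yon_toBase_unique (a ≫ spToBase (F j))]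
  let u : T ⟶ P2 := pre (g ≫ χ)
  let O : T.left.Opens := u.left ⁻¹ᵁ (coprod.inl : S ⟶ S ⨿ S).opensRange
  have hO : ∀ {W : Over S} (w : W ⟶ T) (j : ι) (a : (yon S).obj W ⟶ F j),
      a ≫ c.inj j = (yon S).map w ≫ g → ∀ z, (w.left z ∈ O ↔ j = i) := by
    intro W w j a ha z
    have hwu : w ≫ u = toBase W ≫ (if j = i then il else ir) := by
      rw [← hχ j a]
      apply (yon S).map_injective
      rw [Functor.map_comp, map_pre, map_pre, ← Category.assoc, ← ha, Category.assoc]
    have e : u.left (w.left z) = (if j = i then il else ir).left ((toBase W).left z) := by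
      rw [← Scheme.Hom.comp_apply, ← Over.comp_left, hwu]; rfl
    change u.left (w.left z) ∈ Set.range (coprod.inl : S ⟶ S ⨿ S) ↔ _
    rw [e]
    split_ifs with hj
    · exact ⟨fun _ => hj, fun _ => ⟨_, rfl⟩⟩
    · exact ⟨fun h => (Set.disjoint_left.1 (isCompl_range_inl_inr S S).disjoint h ⟨_, rfl⟩).elim,
        fun h => absurd h hj⟩
  let j₀ : openSub T O ⟶ T := openSubι T O
  have hclosed : IsClosedImmersion j₀.left := by
    refine IsClosedImmersion.of_isPreimmersion O.ι ?_
    rw [Scheme.Opens.range_ι]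
    change IsClosed (u.left ⁻¹' Set.range (coprod.inl : S ⟶ S ⨿ S))
    refine IsClosed.preimage u.left.continuous ?_
    rw [← (isCompl_range_inl_inr S S).symm.compl_eq]
    exact (coprod.inr : S ⟶ S ⨿ S).isOpenEmbedding.isOpen_range.isClosed_compl
  obtain ⟨R, hR, hlift⟩ := exists_mem_J_inj hc ((yon S).map j₀ ≫ g)
  obtain ⟨fst, hfst⟩ : ∃ fst, fst ≫ c.inj i = (yon S).map j₀ ≫ g := by
    refine exists_factor_of_mem_J (c.inj i) _ hR fun W w hw => ?_
    obtain ⟨j, a, ha⟩ := hlift w hw
    by_cases hj : j = i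
    · subst hj; exact ⟨a, ha⟩
    · haveI : IsEmpty ↥W.left := ⟨fun z => hj ((hO (w ≫ j₀) j a (by rw [ha, Functor.map_comp, Category.assoc]) z).1
        (w.left z).2)⟩
      obtain ⟨b⟩ := exists_empty_hom (F i) (W := W)
      exact ⟨b, empty_hom_ext _ _⟩
  haveI : Mono j₀ := (Over.forget S).mono_of_mono_map (inferInstanceAs (Mono O.ι))
  have hu : ∀ {W : Over S} (w : W ⟶ T) (a : (yon S).obj W ⟶ F i),
      a ≫ c.inj i = (yon S).map w ≫ g → ∃ b : W ⟶ openSub T O, b ≫ j₀ = w := fun w a ha =>
    exists_openSub_lift O w fun z => (hO w i a ha z).2 rfl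
  let k := pullback.lift fst ((yon S).map j₀) hfst
  have hk₁ : k ≫ pullback.fst _ _ = fst := pullback.lift_fst _ _ _
  have hk₂ : k ≫ pullback.snd _ _ = (yon S).map j₀ := pullback.lift_snd _ _ _
  haveI : Mono (k ≫ pullback.snd (c.inj i) g) := hk₂.symm ▸ inferInstance
  haveI : Mono k := mono_of_mono k (pullback.snd (c.inj i) g)
  haveI : IsIso k := isIso_of_mono_of_sq k fun W r => by
    obtain ⟨b, hb⟩ := hu (pre (r ≫ pullback.snd (c.inj i) g)) (r ≫ pullback.fst _ _)
      (by rw [map_pre, Category.assoc, Category.assoc, pullback.condition])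
    refine ⟨W, 𝟙 W, (yon S).map b, (inferInstance : Flat (𝟙 W.left)), (inferInstance : Surjective (𝟙 W.left)),
      (inferInstance : LocallyOfFinitePresentation (𝟙 W.left)), ?_⟩
    rw [CategoryTheory.Functor.map_id, Category.id_comp]
    have h2 : ((yon S).map b ≫ k) ≫ pullback.snd _ _ = r ≫ pullback.snd _ _ := by
      rw [Category.assoc, hk₂, ← Functor.map_comp, hb, map_pre]
    refine pullback.hom_ext ((cancel_mono (c.inj i)).1 ?_) h2
    simp only [Category.assoc, pullback.condition]
    simpa only [Category.assoc] using congrArg (· ≫ g) h2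
  exact ⟨openSub T O, fst, j₀, IsPullback.of_iso_pullback ⟨hfst⟩ (asIso k) hk₁ hk₂,
    inferInstanceAs (IsOpenImmersion O.ι), hclosed⟩

/-- Different summands are disjoint. -/
theorem isEmpty_of_two_inj (hc : IsColimit c) {i j : ι} (h : i ≠ j) {Z : Over S}
    (a : (yon S).obj Z ⟶ F i) (b : (yon S).obj Z ⟶ F j) (w : a ≫ c.inj i = b ≫ c.inj j) :
    IsEmpty ↥Z.left := by
  classical
  let P2 : Over S := Over.mk (coprod.desc (𝟙 S) (𝟙 S))
  let il : Over.mk (𝟙 S) ⟶ P2 := Over.homMk coprod.inl (coprod.inl_desc _ _)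
  let ir : Over.mk (𝟙 S) ⟶ P2 := Over.homMk coprod.inr (coprod.inr_desc _ _)
  let χ : c.pt ⟶ (yon S).obj P2 :=
    Cofan.IsColimit.desc hc fun k => spToBase (F k) ≫ (yon S).map (if k = i then il else ir)
  have key : ∀ {k : ι} (e : (yon S).obj Z ⟶ F k),
      e ≫ c.inj k ≫ χ = (yon S).map (toBase Z ≫ (if k = i then il else ir)) := fun {k} e => by
    rw [Cofan.IsColimit.fac, ← Category.assoc, Functor.map_comp,
      yon_toBase_unique (e ≫ spToBase (F k)) ((yon S).map (toBase Z))]
  have e := (key a).symm.trans ((reassoc_of% w) χ |>.trans (key b))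
  rw [if_pos rfl, if_neg (Ne.symm h)] at e
  have e' := congrArg CommaMorphism.left ((yon S).map_injective e)
  exact ⟨fun z => Set.disjoint_left.1 (isCompl_range_inl_inr S S).disjoint
    ⟨(toBase Z).left z, rfl⟩ ⟨(toBase Z).left z, congr($(e'.symm) z)⟩⟩

/-- Representability for a map out of a disjoint union of schemes. -/
theorem repWith_of_sigma {P : MorphismProperty Scheme.{u}} [IsZariskiLocalAtSource P]
    {κ : Type u} {X : Sp S} {U : Over S} {Ui : κ → Over S} (ι' : ∀ k, Ui k ⟶ U)
    (hι : ∀ k, IsOpenImmersion (ι' k).left) (hcov : ∀ z : ↥U.left, ∃ k, z ∈ Set.range (ι' k).left)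
    (q : (yon S).obj U ⟶ X) (h : ∀ k, RepWith P ((yon S).map (ι' k) ≫ q)) : RepWith P q := by
  refine repWith_mk fun T g => ?_
  have sqD := IsPullback.of_hasPullback q g
  choose V a b sqV using fun k => exists_sq (h k).1 g
  let e : ∀ k, (yon S).obj (V k) ⟶ pullback q g := fun k =>
    pullback.lift (a k ≫ (yon S).map (ι' k)) ((yon S).map (b k)) (by rw [Category.assoc]; exact (sqV k).w)
  have sqe : ∀ k, IsPullback (a k) (e k) ((yon S).map (ι' k)) (pullback.fst q g) := fun k => by
    refine (IsPullback.of_bot ?_ (pullback.lift_fst _ _ _).symm sqD)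
    rw [show e k ≫ pullback.snd q g = _ from pullback.lift_snd _ _ _]
    exact sqV k
  have he : ∀ k, RepWith @IsOpenImmersion (e k) := fun k =>
    repWith_of_isPullback (sqe k) ((repWith_yon_map_iff _ _).2 (hι k))
  obtain ⟨W, ⟨φ⟩⟩ := exists_yon_iso_of_open_cover (V := V) (e := e) he fun x => by
    obtain ⟨z, hz⟩ := (Points.schemeHomeo U).surjective (Points.map (pullback.fst q g) x)
    obtain ⟨k, y, hy⟩ := hcov z
    obtain ⟨p, -, hp⟩ := exists_point_of_isPullback (sqe k) (Points.ofScheme (Ui k) y) x (by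
      rw [← Points.ofPt_eq_map_ofScheme, ofPt_pre, pre_map, hy]; exact hz)
    obtain ⟨v, hv⟩ := (Points.schemeHomeo (V k)).surjective p
    exact ⟨k, v, by rw [Points.ofPt_eq_map_ofScheme, ← hp, ← hv]; rfl⟩
  let snd : W ⟶ T := pre (φ.hom ≫ pullback.snd q g)
  refine ⟨W, φ.hom ≫ pullback.fst q g, snd, IsPullback.of_iso_pullback
    ⟨by rw [map_pre, Category.assoc, Category.assoc, pullback.condition]⟩ φ rfl (map_pre _).symm, ?_⟩
  have hψ : ∀ k, IsOpenImmersion (pre (e k ≫ φ.inv)).left := fun k =>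
    (repWith_yon_map_iff _ _).1 (by rw [map_pre]; exact repWith_comp (he k) (repWith_iso φ.inv))
  refine (IsZariskiLocalAtSource.iff_of_openCover (P := P) (Scheme.Cover.mkOfCovers (P := @IsOpenImmersion) κ
    (fun k => (V k).left) (fun k => (pre (e k ≫ φ.inv)).left) (fun x => ?_) hψ)).2 fun k => ?_
  · obtain ⟨z, hz⟩ := (Points.schemeHomeo U).surjective
      (Points.ofPt (φ.hom ≫ pullback.fst q g) x)
    obtain ⟨k, y, hy⟩ := hcov z
    obtain ⟨p, -, hp⟩ := exists_point_of_isPullback (sqe k) (Points.ofScheme (Ui k) y) (Points.ofPt φ.hom x) (by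
      rw [← Points.ofPt_eq_map_ofScheme, ofPt_pre, pre_map, hy, Points.map_ofPt]; exact hz)
    obtain ⟨v, rfl⟩ := (Points.schemeHomeo (V k)).surjective p
    refine ⟨k, v, (Points.schemeHomeo W).injective ?_⟩
    have := congrArg (Points.map φ.inv) hp
    rw [← Points.map_comp, Points.map_ofPt, φ.hom_inv_id] at this
    change Points.ofScheme W _ = Points.ofScheme W _
    rw [← AlgSpc.ofPt_pre (e k ≫ φ.inv), ← Points.map_ofPt (e k) φ.inv v, Points.ofPt_eq_map_ofScheme (e k)]
    refine this.trans ?_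
    rw [← CategoryTheory.Functor.map_id, AlgSpc.ofPt_pre, pre_map]
    rfl
  · change P ((pre (e k ≫ φ.inv)).left ≫ snd.left)
    rw [← Over.comp_left, show pre (e k ≫ φ.inv) ≫ snd = b k from (yon S).map_injective (by
      simp [snd, e])]
    exact (h k).2 _ _ _ (sqV k)

/-- A sheaf covered by open subspaces which are algebraic spaces is an algebraic space. -/
theorem isAlgSpace_of_open_cover {κ : Type u} {X : Sp S} {Fi : κ → Sp S} (f : ∀ k, Fi k ⟶ X)
    (hf : ∀ k, RepWith @IsOpenImmersion (f k)) (hA : ∀ k, IsAlgSpace (Fi k))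
    (hcov : ∀ x : Points X, ∃ k, x ∈ Set.range (Points.map (f k))) : IsAlgSpace X := by
  choose U p hp hps using fun k => (hA k).atlas
  let UU : Over S := Over.mk (Sigma.desc fun k => (U k).hom)
  let j : ∀ k, U k ⟶ UU := fun k => Over.homMk (Sigma.ι (fun k => (U k).left) k) (Sigma.ι_desc _ _)
  have hj : ∀ k, IsOpenImmersion (j k).left := fun k =>
    (inferInstance : IsOpenImmersion (Sigma.ι (fun k => (U k).left) k))
  have hjs : ∀ z : ↥UU.left, ∃ k, z ∈ Set.range (j k).left := fun z => by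
    obtain ⟨k, y, hy⟩ := (sigmaOpenCover fun k => (U k).left).exists_eq z
    exact ⟨k, y, hy⟩
  obtain ⟨q, hq, -⟩ := existsUnique_glue U j hj hjs (fun k => p k ≫ f k) fun k k' Z a b w => by
    by_cases h : k = k'
    · subst h
      haveI : Mono (j k) := (Over.forget S).mono_of_mono_map (haveI := hj k; inferInstanceAs (Mono (j k).left))
      rw [(cancel_mono (j k)).1 w]
    · haveI : IsEmpty ↥Z.left := ⟨fun z => by
        have hz := congrArg (fun (φ : Z ⟶ UU) => φ.left z) w
        simp only [Over.comp_left, Scheme.Hom.comp_apply] at hz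
        have hd : Disjoint (Set.range (Sigma.ι (fun k => (U k).left) k : (U k).left ⟶ _))
            (Set.range (Sigma.ι (fun k => (U k).left) k' : (U k').left ⟶ _)) := by
          have := disjoint_opensRange_sigmaι (fun k => (U k).left) k k' h
          rw [Set.disjoint_iff_inter_eq_empty]
          rw [disjoint_iff] at this
          simpa [TopologicalSpace.Opens.ext_iff] using this
        exact Set.disjoint_left.1 hd ⟨a.left z, rfl⟩ ⟨b.left z, hz.symm⟩⟩
      exact empty_hom_ext _ _
  have hqe : RepWith @Etale q := repWith_of_sigma j hj hjs q fun k => by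
    rw [hq]
    exact repWith_comp (hp k) (repWith_mono (P := @IsOpenImmersion) (Q := @Etale) (fun _ _ g (hg : IsOpenImmersion g) => inferInstance) (hf k))
  refine isAlgSpace_of_etale_atlas q hqe ((repWith_surjective_iff hqe.1).2 fun x => ?_)
  obtain ⟨k, y, rfl⟩ := hcov x
  obtain ⟨z, rfl⟩ := surjective_ofPt (hps k) y
  refine ⟨Points.ofScheme UU ((j k).left z), ?_⟩
  rw [← Points.ofPt_eq_map_ofScheme, ← ofPt_comp, hq, Points.map_ofPt]

end Groth.Agent.AlgSpc
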