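import Groth.Agent.AlgSpc.CoverTest
import Groth.Agent.AlgSpc.SpCoprod
import Groth.Agent.AlgSpc.EqvRel

/-!
Local lifting along locally surjective maps of sheaves, and consequences.
-/

set_option autoImplicit false
set_option linter.style.haveILetI false
set_option backward.isDefEq.respectTransparency false

universe u

open CategoryTheory CategoryTheory.Limits AlgebraicGeometry Opposite

namespace Groth.Agent.AlgSpc

open _root_.AlgSp Groth.Agent.AlgSpLoc

variable {S : Scheme.{u}}

set_option maxHeartbeats 1600000 in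
/-- A section of the target of a locally surjective map lifts after one fppf surjective base change. -/
theorem exists_fppf_lift' {H F : Sp S} (q : H ⟶ F) [hq : Sheaf.IsLocallySurjective q]
    {T : Over S} (g : (yon S).obj T ⟶ F) :
    ∃ (T' : Over S) (c : T' ⟶ T) (y : (yon S).obj T' ⟶ H), Flat c.left ∧ LocallyOfFinitePresentation c.left ∧
      Surjective c.left ∧ (yon S).map c ≫ g = y ≫ q := by
  obtain ⟨s, rfl⟩ := (J S).uliftYonedaEquiv.{u + 1}.symm.surjective g
  have hR : Presheaf.imageSieve ((sheafToPresheaf _ _).map q) s ∈ J S T :=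
    hq.imageSieve_mem s
  rw [J_eq, GrothendieckTopology.mem_over_iff] at hR
  haveI : Scheme.fppfPrecoverage.{u}.HasIsos := by
    haveI : (@Flat ⊓ @LocallyOfFinitePresentation : MorphismProperty Scheme.{u}).ContainsIdentities :=
      ⟨fun _ => ⟨inferInstance, inferInstance⟩⟩
    change (Scheme.precoverage (@Flat ⊓ @LocallyOfFinitePresentation)).HasIsos
    infer_instance
  obtain ⟨P, hP, hle⟩ := (Precoverage.mem_toGrothendieck_iff_of_isStableUnderComposition
    (J := Scheme.fppfPrecoverage)).1 hR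
  obtain ⟨ι, Z, f, rfl⟩ := Presieve.exists_eq_ofArrows P
  obtain ⟨hsurj, hprop⟩ := (Scheme.ofArrows_mem_precoverage_iff _).1 hP
  choose i z hz using hsurj
  have : ∀ x : ↥T.left, ∃ a : (yon S).obj (Over.mk (f (i x) ≫ T.hom)) ⟶ H,
      a ≫ q = (yon S).map (Over.homMk (f (i x)) rfl : Over.mk (f (i x) ≫ T.hom) ⟶ T) ≫
        (J S).uliftYonedaEquiv.symm s := by
    intro x
    have h := hle _ _ (Presieve.ofArrows.mk (i x))
    rw [Sieve.overEquiv_iff] at h
    obtain ⟨v, hv⟩ := h
    refine ⟨(J S).uliftYonedaEquiv.symm v, (J S).uliftYonedaEquiv.injective ?_⟩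
    rw [GrothendieckTopology.uliftYonedaEquiv_comp, Equiv.apply_symm_apply,
      ← GrothendieckTopology.uliftYonedaEquiv_naturality, Equiv.apply_symm_apply]
    exact hv
  choose a ha using this
  let φ : (∐ fun x => Z (i x)) ⟶ T.left := Sigma.desc fun x => f (i x)
  let T' : Over S := Over.mk (φ ≫ T.hom)
  let c : T' ⟶ T := Over.homMk φ rfl
  let j : ∀ x, Z (i x) ⟶ T'.left := fun x => Sigma.ι (fun x => Z (i x)) x
  have hj : ∀ x, j x ≫ φ = f (i x) := fun x => Sigma.ι_desc _ _
  haveI : ∀ x, IsOpenImmersion (j x) := fun x => (inferInstance : IsOpenImmersion (Sigma.ι (fun x => Z (i x)) x))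
  let ι' : ∀ x, Over.mk (f (i x) ≫ T.hom) ⟶ T' := fun x => Over.homMk (j x) (by
    change j x ≫ φ ≫ T.hom = f (i x) ≫ T.hom
    rw [← Category.assoc, hj])
  obtain ⟨y, hy, -⟩ := existsUnique_glue (fun x => Over.mk (f (i x) ≫ T.hom)) ι'
    (fun x => inferInstanceAs (IsOpenImmersion (j x)))
    (fun t => by obtain ⟨x, z', hz'⟩ := (sigmaOpenCover fun x => Z (i x)).exists_eq t; exact ⟨x, z', hz'⟩) a
    fun x x' W α β w => by
      by_cases h : x = x'
      · subst h
        haveI : Mono (ι' x) := (Over.forget S).mono_of_mono_map (inferInstanceAs (Mono (j x)))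
        rw [(cancel_mono (ι' x)).1 w]
      · haveI : IsEmpty ↥W.left := ⟨fun t => by
          have hd : Disjoint (Set.range (j x)) (Set.range (j x')) := by
            have := disjoint_opensRange_sigmaι (fun x => Z (i x)) x x' h
            rw [Set.disjoint_iff_inter_eq_empty]
            rw [disjoint_iff] at this
            simp [TopologicalSpace.Opens.ext_iff] at this
            exact this
          exact Set.disjoint_left.1 hd ⟨α.left t, rfl⟩ ⟨β.left t, congr($(congrArg CommaMorphism.left w.symm) t)⟩⟩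
        exact empty_hom_ext _ _
  refine ⟨T', c, y, IsZariskiLocalAtSource.sigmaDesc fun x => (hprop _).1,
    IsZariskiLocalAtSource.sigmaDesc fun x => (hprop _).2, ⟨fun x => ⟨j x (z x), ?_⟩⟩, ?_⟩
  · change φ (j x (z x)) = x
    erw [← Scheme.Hom.comp_apply, hj]
    exact hz x
  refine AlgSpLoc.hom_ext_of_openCover (fun x => Over.mk (f (i x) ≫ T.hom)) ι'
    (fun x => inferInstanceAs (IsOpenImmersion (j x)))
    (fun t => ?_) fun x => ?_
  · obtain ⟨x, y, hy⟩ := (sigmaOpenCover fun x => Z (i x)).exists_eq t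
    exact ⟨x, y, hy⟩
  · rw [← Functor.map_comp_assoc, ← Category.assoc _ y q, hy, ha x]
    congr 2
    ext; exact hj x

theorem repWith_of_locallySurjective_base_change {F G H Q : Sp S} {a : F ⟶ G} (ha : Representable a)
    (b : H ⟶ G) [Sheaf.IsLocallySurjective b] {b' : Q ⟶ F} {a' : Q ⟶ H} (sq : IsPullback b' a' a b)
    {P : MorphismProperty Scheme.{u}} [P.IsStableUnderBaseChange]
    [P.IsLocalAtTarget Scheme.fppfPrecoverage] (h : RepWith P a') : RepWith P a := by
  refine ⟨ha, fun T V x fst snd sqT => ?_⟩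
  obtain ⟨T', c, y, h₁, h₂, h₃, hy⟩ := exists_fppf_lift' b x
  have big₂ := ((IsPullback.of_hasPullback snd c).map (yon S)).paste_horiz sqT
  rw [hy] at big₂
  have hP : P (pullback.snd snd c).left :=
    h.2 y (sq.lift ((yon S).map (pullback.fst snd c) ≫ fst) ((yon S).map (pullback.snd snd c) ≫ y)
      (by rw [big₂.w, Category.assoc])) (pullback.snd snd c)
      (IsPullback.of_right (by rw [sq.lift_fst]; exact big₂) (sq.lift_snd _ _ _) sq)
  haveI := h₁; haveI := h₂; haveI := h₃
  refine MorphismProperty.IsLocalAtTarget.of_forall_pullbackSnd (K := Scheme.fppfPrecoverage)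
    c.left.singleton_mem_fppfPrecoverage fun {U'} g' _ hg' => ?_
  cases hg'
  change P (pullback.snd ((Over.forget S).map snd) ((Over.forget S).map c))
  rw [← ((IsPullback.of_hasPullback snd c).map (Over.forget S)).isoPullback_inv_snd]
  exact (P.cancel_left_of_respectsIso _ _).2 hP

theorem repWith_diag_of_charts {F : Sp S} {P : MorphismProperty Scheme.{u}} [P.IsStableUnderBaseChange]
    (h₁ : ∀ ⦃U V : Over S⦄ (a : (yon S).obj U ⟶ F) (b : (yon S).obj V ⟶ F),
      ∃ (W : Over S) (fst : W ⟶ U) (snd : W ⟶ V), IsPullback ((yon S).map fst) ((yon S).map snd) a b)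
    (h₂ : ∀ ⦃U V W : Over S⦄ (a : (yon S).obj U ⟶ F) (b : (yon S).obj V ⟶ F) (fst : W ⟶ U)
      (snd : W ⟶ V), IsPullback ((yon S).map fst) ((yon S).map snd) a b → P (prod.lift fst snd).left) :
    RepWith P (diag F) := by
  haveI : P.RespectsIso := MorphismProperty.IsStableUnderBaseChange.respectsIso
  refine repWith_mk fun T x => ?_
  obtain ⟨W, fst, snd, sq⟩ := h₁ (x ≫ prod.fst) (x ≫ prod.snd)
  have s := IsPullback.of_hasPullback (prod.lift fst snd) (prod.lift (𝟙 T) (𝟙 T))
  let p := pullback.fst (prod.lift fst snd) (prod.lift (𝟙 T) (𝟙 T))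
  let k := pullback.snd (prod.lift fst snd) (prod.lift (𝟙 T) (𝟙 T))
  have hk₁ : p ≫ fst = k := by simpa [p, k] using congrArg (· ≫ prod.fst) s.w
  have hk₂ : p ≫ snd = k := by simpa [p, k] using congrArg (· ≫ prod.snd) s.w
  haveI : IsSplitMono (prod.lift (𝟙 T) (𝟙 T)) := ⟨⟨⟨prod.fst, prod.lift_fst _ _⟩⟩⟩
  haveI : Mono p := inferInstanceAs (Mono (pullback.fst _ _))
  have hlift : ∀ c : PullbackCone (diag F) x, ∃ n, n ≫ (yon S).map k ≫ x ≫ prod.fst = c.fst ∧
      n ≫ (yon S).map k = c.snd := fun c => by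
    have e₁ : c.snd ≫ x ≫ prod.fst = c.fst := by simpa using congrArg (· ≫ prod.fst) c.condition.symm
    have e₂ : c.snd ≫ x ≫ prod.snd = c.fst := by simpa using congrArg (· ≫ prod.snd) c.condition.symm
    let m := sq.lift c.snd c.snd (e₁.trans e₂.symm)
    have w : m ≫ (yon S).map (prod.lift fst snd) = c.snd ≫ (yon S).map (prod.lift (𝟙 T) (𝟙 T)) :=
      hom_ext fun Z z => by
        have f₁ : pre (z ≫ m) ≫ fst = pre (z ≫ c.snd) := (yon S).map_injective (by simp [m])
        have f₂ : pre (z ≫ m) ≫ snd = pre (z ≫ c.snd) := (yon S).map_injective (by simp [m])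
        rw [← Category.assoc, ← Category.assoc, ← map_pre (z ≫ m), ← map_pre (z ≫ c.snd), ← Functor.map_comp,
          ← Functor.map_comp]
        congr 1
        ext <;> simp [f₁, f₂]
    refine ⟨(s.map (yon S)).lift m c.snd w, ?_, (s.map (yon S)).lift_snd _ _ _⟩
    rw [(s.map (yon S)).lift_snd_assoc, e₁]
  choose n hn₁ hn₂ using hlift
  haveI : Mono k := by
    refine ⟨fun {Z} a b h => ?_⟩
    rw [← cancel_mono p]
    exact (yon S).map_injective (sq.hom_ext (by rw [← Functor.map_comp, ← Functor.map_comp, Category.assoc,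
      Category.assoc, hk₁, h]) (by rw [← Functor.map_comp, ← Functor.map_comp, Category.assoc, Category.assoc,
      hk₂, h]))
  refine ⟨_, (yon S).map k ≫ x ≫ prod.fst, k, IsPullback.of_isLimit' ⟨?_⟩ (PullbackCone.IsLimit.mk _ n hn₁ hn₂
    fun c m _ hm => (cancel_mono ((yon S).map k)).1 (hm.trans (hn₂ c).symm)),
    MorphismProperty.of_isPullback (s.map (Over.forget S)) (h₂ _ _ fst snd sq)⟩
  ext
  · simp
  · have := congrArg ((yon S).map p ≫ ·) sq.w
    simp only [← Functor.map_comp_assoc, hk₁, hk₂] at this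
    simp [this]

theorem exists_atlas_over {X Y : Sp S} (hX : IsAlgSpace X) (hY : IsAlgSpace Y) (a : X ⟶ Y) {V : Over S}
    (q : (yon S).obj V ⟶ Y) (hqe : RepWith @Etale q) (hqs : RepWith @Surjective q) :
    ∃ (U : Over S) (p : (yon S).obj U ⟶ X) (α : U ⟶ V),
      RepWith @Etale p ∧ RepWith @Surjective p ∧ p ≫ a = (yon S).map α ≫ q := by
  have sq := IsPullback.of_hasPullback a q
  obtain ⟨U, r, hr, hrs⟩ := (isAlgSpace_pullback_of_diag hY.diag hX (IsAlgSpace.yon_obj V) sq).atlas
  refine ⟨U, r ≫ pullback.fst a q, pre (r ≫ pullback.snd a q),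
    repWith_comp hr (repWith_of_isPullback sq.flip hqe), repWith_comp hrs (repWith_of_isPullback sq.flip hqs), ?_⟩
  rw [map_pre, Category.assoc, Category.assoc, pullback.condition]

end Groth.Agent.AlgSpc
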