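import Groth.Agent.AlgSpc.Basic
import Mathlib.CategoryTheory.Limits.FullSubcategory

/-!
Fibre products of algebraic spaces.
-/

universe u

open CategoryTheory CategoryTheory.Limits AlgebraicGeometry Opposite

set_option backward.isDefEq.respectTransparency false

namespace Groth.Agent.AlgSpc

open _root_.AlgSp

variable {S : Scheme.{u}}

instance mono_diag (Z : Sp S) : Mono (Limits.diag Z) :=
  ⟨fun a b h => by simpa using congrArg (· ≫ prod.fst) h⟩

theorem exists_equalizer {Z : Sp S} (hZ : Representable (Limits.diag Z)) {V : Over S}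
    (a b : (yon S).obj V ⟶ Z) :
    ∃ (W : Over S) (e : W ⟶ V), Mono ((yon S).map e) ∧ (yon S).map e ≫ a = (yon S).map e ≫ b ∧
      ∀ ⦃Q : Sp S⦄ (c : Q ⟶ (yon S).obj V), c ≫ a = c ≫ b → ∃ k, k ≫ (yon S).map e = c := by
  obtain ⟨W, fst, e, sq⟩ := exists_sq hZ (prod.lift a b)
  have h₁ := congrArg (· ≫ prod.fst) sq.w
  have h₂ := congrArg (· ≫ prod.snd) sq.w
  simp only [Category.assoc, prod.lift_fst, prod.lift_snd, Category.comp_id] at h₁ h₂
  refine ⟨W, e, ⟨fun x y hxy => sq.hom_ext ?_ hxy⟩, h₁.symm.trans h₂, fun Q c hc => ?_⟩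
  · rw [h₁, ← Category.assoc, ← Category.assoc, hxy]
  · exact ⟨sq.lift (c ≫ a) c (by apply Limits.prod.hom_ext <;> simp [hc]), sq.lift_snd _ _ _⟩

theorem representable_to_pullback {X Y Z P : Sp S} (hX : IsAlgSpace X) (hZ : IsAlgSpace Z)
    {fst : P ⟶ X} {snd : P ⟶ Z} {f : X ⟶ Y} {h : Z ⟶ Y} (sq : IsPullback fst snd f h)
    {T : Over S} (g : (yon S).obj T ⟶ P) : Representable g := by
  intro T' g'
  obtain ⟨V, p, q, sX⟩ := exists_sq (hX.representable_from_yon (g ≫ fst)) (g' ≫ fst)
  obtain ⟨W, e, hm, he, huni⟩ := exists_equalizer hZ.diag (p ≫ g ≫ snd) ((yon S).map q ≫ g' ≫ snd)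
  have w : ((yon S).map e ≫ p) ≫ g = (yon S).map (e ≫ q) ≫ g' := by
    apply sq.hom_ext
    · simp only [Functor.map_comp, Category.assoc]; rw [sX.w]
    · simpa only [Functor.map_comp, Category.assoc] using he
  have hc : ∀ s : PullbackCone g g', s.fst ≫ g ≫ fst = s.snd ≫ g' ≫ fst := fun s => by
    rw [← Category.assoc, s.condition, Category.assoc]
  let c : ∀ s : PullbackCone g g', s.pt ⟶ (yon S).obj V := fun s => sX.lift s.fst s.snd (hc s)
  have hce : ∀ s : PullbackCone g g', c s ≫ p ≫ g ≫ snd = c s ≫ (yon S).map q ≫ g' ≫ snd := fun s => by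
    simp only [c, IsPullback.lift_fst_assoc, IsPullback.lift_snd_assoc, s.condition_assoc]
  choose k hk using fun s => huni (c s) (hce s)
  refine ⟨W, e ≫ q, (yon S).map e ≫ p, IsPullback.of_isLimit
    (PullbackCone.IsLimit.mk w k (fun s => ?_) (fun s => ?_) fun s m h₁ h₂ => ?_)⟩
  · rw [← Category.assoc, hk]; exact sX.lift_fst _ _ _
  · rw [Functor.map_comp, ← Category.assoc, hk]; exact sX.lift_snd _ _ _
  · rw [← cancel_mono ((yon S).map e), hk]
    apply sX.hom_ext
    · simp only [c, IsPullback.lift_fst, Category.assoc]; exact h₁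
    · simp only [c, IsPullback.lift_snd, Category.assoc]
      rw [Functor.map_comp] at h₂; exact h₂

theorem isAlgSpace_of_isPullback {X Y Z P : Sp S} (hX : IsAlgSpace X) (hY : IsAlgSpace Y)
    (hZ : IsAlgSpace Z) {fst : P ⟶ X} {snd : P ⟶ Z} {f : X ⟶ Y} {h : Z ⟶ Y}
    (sq : IsPullback fst snd f h) : IsAlgSpace P where
  diag := Functor.relativelyRepresentable.diag_of_map_from_obj fun _ g =>
    representable_to_pullback hX hZ sq g
  atlas := by
    obtain ⟨U, a, ha, ha'⟩ := hX.atlas
    obtain ⟨U', c, hc, hc'⟩ := hZ.atlas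
    obtain ⟨W, p, q, sY⟩ := exists_sq (hY.representable_from_yon (a ≫ f)) (c ≫ h)
    let m := pullback.map (a ≫ f) (c ≫ h) f h a c (𝟙 _) (Category.comp_id _) (Category.comp_id _)
    refine ⟨W, sY.isoPullback.hom ≫ m ≫ sq.isoPullback.inv, ?_, ?_⟩ <;>
      refine MorphismProperty.RespectsIso.precomp _ _ _
        (MorphismProperty.RespectsIso.postcomp _ _ _ ?_)
    · exact MorphismProperty.pullbackMap ha hc rfl rfl
    · exact MorphismProperty.pullbackMap ha' hc' rfl rfl

instance isClosedUnderCospan :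
    ObjectProperty.IsClosedUnderLimitsOfShape (IsAlgSpace (S := S)) WalkingCospan where
  limitsOfShape_le := by
    rintro P ⟨hP⟩
    exact isAlgSpace_of_isPullback (hP.prop_diag_obj WalkingCospan.left)
      (hP.prop_diag_obj WalkingCospan.one) (hP.prop_diag_obj WalkingCospan.right)
      (IsPullback.of_isLimit_cone hP.isLimit)

theorem hasPullbacks_space : HasPullbacks (Space S) ∧
    PreservesLimitsOfShape WalkingCospan (ObjectProperty.ι (IsAlgSpace (S := S))) := by
  have : HasPullbacks (Space S) := hasLimitsOfShape_of_closedUnderLimits WalkingCospan (IsAlgSpace (S := S))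
  exact ⟨this, inferInstance⟩

end Groth.Agent.AlgSpc
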