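import Groth.Agent.AlgSpc.More
import Groth.Agent.AlgSpc.FibreProd

/-!
Diagonals of representable maps, the locally ringed etale site, valuative criteria of composites.
-/

universe u v₁ v₂ u₁ u₂

open CategoryTheory CategoryTheory.Limits AlgebraicGeometry Opposite

set_option backward.isDefEq.respectTransparency false

namespace Groth.Agent.AlgSpc

theorem representable_diagonal {C : Type u₁} [Category.{v₁} C] {D : Type u₂} [Category.{v₂} D]
    [HasPullbacks C] [HasPullbacks D] (Φ : C ⥤ D) [Φ.Full] [Φ.Faithful]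
    [PreservesLimitsOfShape WalkingCospan Φ] {F G : D} {a : F ⟶ G}
    (ha : Φ.relativelyRepresentable a) : Φ.relativelyRepresentable (pullback.diagonal a) := by
  intro U ξ
  let x := ξ ≫ pullback.fst a a
  let y := ξ ≫ pullback.snd a a
  have hxy : y ≫ a = x ≫ a := by simp [x, y, pullback.condition]
  let sq := ha.isPullback (x ≫ a)
  let sx := Φ.preimage (sq.lift x (𝟙 _) (by simp))
  let sy := Φ.preimage (sq.lift y (𝟙 _) (by simp [hxy]))
  have hsx : sx ≫ ha.snd (x ≫ a) = 𝟙 U := Φ.map_injective (by simp [sx])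
  have hsy : sy ≫ ha.snd (x ≫ a) = 𝟙 U := Φ.map_injective (by simp [sy])
  let E := Limits.pullback sx sy
  have hee : pullback.fst sx sy = pullback.snd sx sy := by
    have := congrArg (· ≫ ha.snd (x ≫ a)) (pullback.condition (f := sx) (g := sy))
    simpa [hsx, hsy] using this
  have hexy : Φ.map (pullback.fst sx sy) ≫ x = Φ.map (pullback.fst sx sy) ≫ y := by
    have h := congrArg (fun t => Φ.map t ≫ ha.fst (x ≫ a)) (pullback.condition (f := sx) (g := sy))
    simp only [Functor.map_comp, Category.assoc, sx, sy, Functor.map_preimage, sq.lift_fst] at h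
    rwa [← hee] at h
  have sqE : IsPullback (Φ.map (pullback.fst sx sy)) (Φ.map (pullback.snd sx sy)) (Φ.map sx) (Φ.map sy) :=
    (IsPullback.of_hasPullback sx sy).map Φ
  have hl : ∀ s : PullbackCone (pullback.diagonal a) ξ, s.fst = s.snd ≫ x ∧ s.fst = s.snd ≫ y := fun s => by
    refine ⟨?_, ?_⟩
    · simpa [x] using congrArg (· ≫ pullback.fst a a) s.condition
    · simpa [y] using congrArg (· ≫ pullback.snd a a) s.condition
  have hd : ∀ s : PullbackCone (pullback.diagonal a) ξ, s.snd ≫ Φ.map sx = s.snd ≫ Φ.map sy := fun s => by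
    apply sq.hom_ext
    · simp [sx, sy, ← (hl s).1, ← (hl s).2]
    · simp [sx, sy]
  refine ⟨E, pullback.fst sx sy, Φ.map (pullback.fst sx sy) ≫ x, IsPullback.of_isLimit
    (PullbackCone.IsLimit.mk ?_ (fun s => sqE.lift s.snd s.snd (hd s)) (fun s => ?_) (fun s => ?_)
      fun s m h₁ h₂ => ?_)⟩
  · apply pullback.hom_ext
    · simp [x]
    · simpa [y] using hexy
  · rw [← Category.assoc, sqE.lift_fst, ← (hl s).1]
  · exact sqE.lift_fst _ _ _
  · apply sqE.hom_ext
    · rw [sqE.lift_fst]; exact h₂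
    · rw [sqE.lift_snd, ← hee]; exact h₂

open _root_.AlgSp

variable {S : Scheme.{u}}

theorem isQuasiCompactMor_of_surjective {X Y Z : Sp S} (hY : IsAlgSpace Y) (hZ : IsAlgSpace Z)
    {f : X ⟶ Y} {p : X ⟶ Z} {q : Y ⟶ Z} (comm : f ≫ q = p) (hf : Function.Surjective (Points.map f))
    (hp : IsQuasiCompactMor p) : IsQuasiCompactMor q := by
  intro Z₀ Y₀ hZ₀ hc g fst snd sq
  have sq' : IsPullback (pullback.fst f fst) (pullback.snd f fst ≫ snd) p g :=
    comm ▸ (IsPullback.of_hasPullback f fst).paste_vert sq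
  exact isQuasiCompactSp_of_surjective (isAlgSpace_of_isPullback hY hZ hZ₀ sq)
    (surjective_map_base_change (IsPullback.of_hasPullback f fst) hf) (hp hZ₀ hc g _ _ sq')

/-- An open subscheme of an object of the small etale site. -/
noncomputable def subObj {X : Sp S} (E : EtOver X) (O : E.obj.left.left.Opens) : EtOver X :=
  EtOver.mk ((yon S).map (Over.homMk O.ι rfl : Over.mk (O.ι ≫ E.obj.left.hom) ⟶ E.obj.left) ≫ E.obj.hom)
    (repWith_comp ((repWith_yon_map_iff _ _).2 (inferInstanceAs (Etale O.ι))) E.property)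

noncomputable def subHom {X : Sp S} (E : EtOver X) (O : E.obj.left.left.Opens) : subObj E O ⟶ E :=
  EtOver.homMk (Over.homMk O.ι rfl) rfl

theorem isLocallyRinged_etTop (X : Sp S) : ModSite.IsLocallyRinged (etTop X) (OEt X) := by
  refine ⟨fun E f => ?_, fun E h => ?_⟩
  · let φ : Γ(E.obj.left.left, ⊤) := ((f : (OEt X).obj.obj (op E)) : ULift Γ(E.obj.left.left, ⊤)).down
    let O : Bool → E.obj.left.left.Opens := fun b =>
      E.obj.left.left.basicOpen (if b then φ else 1 - φ)
    refine ⟨Sieve.ofArrows (fun b : ULift.{u} Bool => subObj E (O b.down)) (fun b => subHom E (O b.down)),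
      ofArrows_mem_etTop _ _ fun x => ?_, ?_⟩
    · have : x ∈ E.obj.left.left.basicOpen φ ∨ x ∈ E.obj.left.left.basicOpen (1 - φ) := by
        simp only [Scheme.mem_basicOpen_top, map_sub, map_one]
        exact IsLocalRing.isUnit_or_isUnit_one_sub_self _
      rcases this with h | h
      · exact ⟨⟨true⟩, ⟨x, by simpa [O] using h⟩, rfl⟩
      · exact ⟨⟨false⟩, ⟨x, by simpa [O] using h⟩, rfl⟩
    · intro V g hg
      obtain ⟨_, a, _, ⟨b⟩, rfl⟩ := hg
      have key : ∀ c : Γ(E.obj.left.left, ⊤), b.down = b.down →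
          O b.down = E.obj.left.left.basicOpen c →
          IsUnit (((OEt X).obj.map (a ≫ subHom E (O b.down)).op).hom (ULift.up c)) := by
        intro c _ hc
        rw [op_comp, Functor.map_comp]
        refine IsUnit.map ((OEt X).obj.map a.op).hom ?_
        change IsUnit (ULift.up ((O b.down).ι.appTop.hom c) : ULift Γ((O b.down : Scheme.{u}), ⊤))
        refine IsUnit.map ULift.ringEquiv.symm ?_
        refine (O b.down : Scheme.{u}).toLocallyRingedSpace.toRingedSpace.isUnit_of_isUnit_germ _ _ fun x hx => ?_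
        refine ((O b.down : Scheme.{u}).mem_basicOpen _ x hx).1 ?_
        rw [← Scheme.preimage_basicOpen_top, ← hc]
        exact x.2
      obtain ⟨b⟩ := b
      cases b
      · exact Or.inr (key (1 - φ) rfl rfl)
      · exact Or.inl (key φ rfl rfl)
  · have hs : Subsingleton Γ(E.obj.left.left, ⊤) :=
      subsingleton_of_zero_eq_one (congrArg ULift.down (h : (0 : ULift Γ(E.obj.left.left, ⊤)) = 1))
    have hx : IsEmpty ↥E.obj.left.left := ⟨fun x => by
      have h := congrArg (E.obj.left.left.presheaf.germ ⊤ x trivial).hom (Subsingleton.elim (0 : Γ(E.obj.left.left, ⊤)) 1)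
      simp at h⟩
    have hb : Sieve.ofArrows (fun e : PEmpty.{u + 1} => (e.elim : EtOver X)) (fun e => e.elim) = (⊥ : Sieve E) := by
      refine le_bot_iff.1 ?_
      rintro V g ⟨_, _, _, ⟨e⟩, _⟩
      exact e.elim
    exact hb ▸ ofArrows_mem_etTop _ _ fun x => isEmptyElim x

theorem uniqVC_comp {X Y Z : Sp S} {f : X ⟶ Y} {g : Y ⟶ Z} (hf : UniqVC f) (hg : UniqVC g) :
    UniqVC (f ≫ g) := by
  intro sq l l' h1 h2 h1' h2'
  let sqg : ValSq g := { A := sq.A, K := sq.K, str := sq.str, top := sq.top ≫ f, bot := sq.bot,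
                         comm := by rw [Category.assoc]; exact sq.comm }
  have e : l ≫ f = l' ≫ f := hg sqg (l ≫ f) (l' ≫ f) (by rw [← Category.assoc]; exact congrArg (· ≫ f) h1)
    (by rw [Category.assoc]; exact h2) (by rw [← Category.assoc]; exact congrArg (· ≫ f) h1')
    (by rw [Category.assoc]; exact h2')
  let sqf : ValSq f := { A := sq.A, K := sq.K, str := sq.str, top := sq.top, bot := l ≫ f,
                         comm := by rw [← h1, Category.assoc] }
  exact hf sqf l l' h1 rfl h1' e.symm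

theorem existVC_comp {X Y Z : Sp S} {f : X ⟶ Y} {g : Y ⟶ Z} (hf : ExistVC f) (hg : ExistVC g) :
    ExistVC (f ≫ g) := by
  intro sq
  let sqg : ValSq g := { A := sq.A, K := sq.K, str := sq.str, top := sq.top ≫ f, bot := sq.bot,
                         comm := by rw [Category.assoc]; exact sq.comm }
  obtain ⟨e, l, hl₁, hl₂⟩ := hg sqg
  let kψ : e.ptK' ⟶ sq.ptK := Over.homMk (Spec.map (CommRingCat.ofHom e.ψ)) (by
    change Spec.map _ ≫ Spec.map _ ≫ _ = Spec.map _ ≫ Spec.map _ ≫ _
    rw [← Spec.map_comp_assoc, ← Spec.map_comp_assoc, ← CommRingCat.ofHom_comp,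
      ← CommRingCat.ofHom_comp, e.comm])
  let sqf : ValSq f :=
    { A := e.A', K := e.K', str := Spec.map (CommRingCat.ofHom e.φ) ≫ sq.str,
      top := (yon S).map kψ ≫ sq.top, bot := l,
      comm := (Category.assoc _ _ _).trans hl₁.symm }
  obtain ⟨e', l', h₁, h₂⟩ := hf sqf
  haveI : IsLocalHom e.φ := e.isLocalHom
  haveI : IsLocalHom e'.φ := e'.isLocalHom
  let E : sq.DomExt :=
    { A' := e'.A', K' := e'.K', φ := (e'.φ).comp e.φ, ψ := (e'.ψ).comp e.ψ,
      comm := by
        rw [← RingHom.comp_assoc, e'.comm, RingHom.comp_assoc]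
        change (e'.ψ).comp ((algebraMap e.A' e.K').comp e.φ) = _
        rw [e.comm]
        rfl
      isLocalHom := RingHom.isLocalHom_comp _ _ }
  have hk : Spec.map (CommRingCat.ofHom E.φ) =
      Spec.map (CommRingCat.ofHom e'.φ) ≫ Spec.map (CommRingCat.ofHom e.φ) := by
    rw [← Spec.map_comp, ← CommRingCat.ofHom_comp]
  have hψ : Spec.map (CommRingCat.ofHom E.ψ) =
      Spec.map (CommRingCat.ofHom e'.ψ) ≫ Spec.map (CommRingCat.ofHom e.ψ) := by
    rw [← Spec.map_comp, ← CommRingCat.ofHom_comp]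
  let i : E.ptA' ⟶ e'.ptA' := Over.homMk (𝟙 _) (by
    change 𝟙 _ ≫ Spec.map (CommRingCat.ofHom e'.φ) ≫ Spec.map (CommRingCat.ofHom e.φ) ≫ sq.str =
      Spec.map (CommRingCat.ofHom E.φ) ≫ sq.str
    rw [Category.id_comp, hk, Category.assoc])
  let i' : E.ptK' ⟶ e'.ptK' := Over.homMk (𝟙 _) (by
    change 𝟙 _ ≫ Spec.map _ ≫ Spec.map (CommRingCat.ofHom e'.φ) ≫ Spec.map (CommRingCat.ofHom e.φ) ≫ sq.str =
      Spec.map _ ≫ Spec.map (CommRingCat.ofHom E.φ) ≫ sq.str
    rw [Category.id_comp, hk, Category.assoc])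
  let j' : e'.ptK' ⟶ e'.ptA' := Over.homMk (Spec.map (CommRingCat.ofHom (algebraMap e'.A' e'.K'))) rfl
  let jE : E.ptK' ⟶ E.ptA' := Over.homMk (Spec.map (CommRingCat.ofHom (algebraMap E.A' E.K'))) rfl
  have ej : jE ≫ i = i' ≫ j' := Over.OverMorphism.ext <| by
    change Spec.map _ ≫ 𝟙 _ = 𝟙 _ ≫ Spec.map _
    rw [Category.comp_id, Category.id_comp]
  refine ⟨E, (yon S).map i ≫ l', ?_, ?_⟩
  · refine (((yon S).map_comp_assoc jE i l').symm.trans
      (congrArg (fun m => (yon S).map m ≫ l') ej)).trans ?_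
    refine ((yon S).map_comp_assoc i' j' l').trans ?_
    refine (congrArg (fun t => (yon S).map i' ≫ t) h₁).trans ?_
    refine ((yon S).map_comp_assoc i' _ sqf.top).symm.trans ?_
    refine ((yon S).map_comp_assoc _ kψ sq.top).symm.trans ?_
    refine congrArg (fun m => (yon S).map m ≫ sq.top) (Over.OverMorphism.ext ?_)
    change (𝟙 _ ≫ Spec.map (CommRingCat.ofHom e'.ψ)) ≫ Spec.map (CommRingCat.ofHom e.ψ) = _
    rw [Category.id_comp]
    exact hψ.symm
  · refine (Category.assoc _ l' (f ≫ g)).trans ?_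
    refine (congrArg (fun t => (yon S).map i ≫ t) ((Category.assoc l' f g).symm.trans
      ((congrArg (· ≫ g) h₂).trans (Category.assoc _ _ g)))).trans ?_
    refine ((yon S).map_comp_assoc i _ _).symm.trans ?_
    refine (congrArg (fun t => (yon S).map _ ≫ t) hl₂).trans ?_
    refine ((yon S).map_comp_assoc _ _ sq.bot).symm.trans ?_
    refine congrArg (fun m => (yon S).map m ≫ sq.bot) (Over.OverMorphism.ext ?_)
    change (𝟙 _ ≫ Spec.map (CommRingCat.ofHom e'.φ)) ≫ Spec.map (CommRingCat.ofHom e.φ) = _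
    rw [Category.id_comp]
    exact hk.symm

end Groth.Agent.AlgSpc
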