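import Groth.Agent.AlgSpc.LocP
import Groth.Agent.FpqcDescent.Flat
import Groth.Agent.AlgSpc.EtSourceRing
import Groth.Agent.AlgSpc.EtLift
import Mathlib.AlgebraicGeometry.Morphisms.Smooth
import Mathlib.AlgebraicGeometry.Morphisms.QuasiFinite
import Mathlib.RingTheory.Unramified.LocalStructure
import Mathlib.RingTheory.Smooth.NoetherianDescent
import Mathlib.RingTheory.Etale.Descent
import Mathlib.RingTheory.Etale.Kaehler
import Mathlib.RingTheory.RingHom.FaithfullyFlat
import Mathlib.AlgebraicGeometry.Morphisms.FinitePresentation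
import Mathlib.AlgebraicGeometry.Morphisms.FormallyUnramified

/-!
Instances of `EtLoc`.
-/

universe u

open CategoryTheory CategoryTheory.Limits AlgebraicGeometry Opposite
open TensorProduct

set_option backward.isDefEq.respectTransparency false

namespace Groth.Agent.AlgSpc

/-- Finitely many affine opens of the source covering a quasi-compact target of an open surjection. -/
theorem exists_affine_etale_surjective {X Y : Scheme.{u}} (e : X ⟶ Y) [Etale e] [Surjective e]
    [CompactSpace Y] :
    ∃ (W : Scheme.{u}) (p : W ⟶ X), IsAffine W ∧ Etale p ∧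
      (∀ (P : MorphismProperty Scheme.{u}) [IsZariskiLocalAtSource P] {Z : Scheme.{u}} (g : X ⟶ Z),
        P g → P (p ≫ g)) ∧ Surjective (p ≫ e) := by
  obtain ⟨t, ht⟩ := isCompact_univ.elim_finite_subcover
    (fun i : X.affineOpens => e '' (i.1 : Set X)) (fun i => e.isOpenMap _ i.1.2) (fun y _ => by
      obtain ⟨x, rfl⟩ := e.surjective y
      obtain ⟨W, hW, hx, -⟩ := exists_isAffineOpen_mem_and_subset (show x ∈ (⊤ : X.Opens) from trivial)
      exact Set.mem_iUnion.2 ⟨⟨W, hW⟩, x, hx, rfl⟩)
  let g : t → Scheme.{u} := fun i => i.1.1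
  have : ∀ i, IsAffine (g i) := fun i => i.1.2
  let p : (∐ g) ⟶ X := Sigma.desc fun i => i.1.1.ι
  refine ⟨∐ g, p, inferInstance, ?_, ?_, ⟨fun y => ?_⟩⟩
  · refine IsZariskiLocalAtSource.of_openCover (P := @Etale) (sigmaOpenCover g) fun i => ?_
    change Etale (Sigma.ι g i ≫ p)
    rw [Sigma.ι_desc]; infer_instance
  · intro P _ Z g' hg'
    refine IsZariskiLocalAtSource.of_openCover (P := P) (sigmaOpenCover g) fun i => ?_
    change P (Sigma.ι g i ≫ p ≫ g')
    rw [Sigma.ι_desc_assoc]
    exact IsZariskiLocalAtSource.comp hg' _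
  · obtain ⟨i, hi, x, hx, rfl⟩ : ∃ i ∈ t, ∃ x ∈ (i.1 : Set X), e x = y := by
      simpa [Set.mem_iUnion] using ht (Set.mem_univ y)
    refine ⟨Sigma.ι g ⟨i, hi⟩ ⟨x, hx⟩, ?_⟩
    rw [← Scheme.Hom.comp_apply, Sigma.ι_desc_assoc]
    rfl

/-- Descent along etale surjections on the source, from the statement about rings. -/
theorem descend_of_ring {P : MorphismProperty Scheme.{u}}
    {Q : ∀ {R S : Type u} [CommRing R] [CommRing S], (R →+* S) → Prop} [HasRingHomProperty P Q]
    (hring : ∀ (A B C : Type u) [CommRing A] [CommRing B] [CommRing C] (φ : A →+* B) (ψ : B →+* C),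
      ψ.Etale → ψ.FaithfullyFlat → Q (ψ.comp φ) → Q φ)
    {X Y Z : Scheme.{u}} (e : X ⟶ Y) (f : Y ⟶ Z) (he : Etale e) (hs : Surjective e) (h : P (e ≫ f)) :
    P f := by
  wlog hZ : ∃ A, Z = Spec A generalizing X Y Z
  · rw [IsZariskiLocalAtTarget.iff_of_openCover (P := P) Z.affineCover]
    intro i
    dsimp only [Scheme.Cover.pullbackHom]
    let j := Z.affineCover.f i
    refine this (pullback.map (e ≫ f) j f j e (𝟙 _) (𝟙 _) (by simp) (by simp)) (pullback.snd f j)
      ?_ ?_ ?_ ⟨_, rfl⟩
    · exact MorphismProperty.pullbackMap he (inferInstanceAs (Etale (𝟙 _))) rfl (by simp)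
    · exact MorphismProperty.pullbackMap hs (inferInstanceAs (Surjective (𝟙 _))) rfl (by simp)
    · rw [pullback.lift_snd, Category.comp_id]
      exact IsZariskiLocalAtTarget.of_isPullback (P := P) (IsPullback.of_hasPullback (e ≫ f) j) h
  obtain ⟨A, rfl⟩ := hZ
  wlog hY : ∃ B, Y = Spec B generalizing X Y
  · rw [IsZariskiLocalAtSource.iff_of_openCover (P := P) Y.affineCover]
    intro i
    let j := Y.affineCover.f i
    refine this (pullback.snd e j) (MorphismProperty.pullback_snd _ _ he)
      (MorphismProperty.pullback_snd _ _ hs) (j ≫ f) ?_ ⟨_, rfl⟩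
    rw [← Category.assoc, ← pullback.condition, Category.assoc]
    exact IsZariskiLocalAtSource.comp h _
  obtain ⟨B, rfl⟩ := hY
  obtain ⟨φ, rfl⟩ := Spec.map_surjective f
  obtain ⟨W, p, hW, hp, hp', hps⟩ := exists_affine_etale_surjective e
  obtain ⟨ψ, hψ⟩ := Spec.map_surjective (W.isoSpec.inv ≫ p ≫ e)
  have h₁ : Etale (Spec.map ψ) := by rw [hψ]; infer_instance
  have h₂ : Surjective (Spec.map ψ) := by rw [hψ]; infer_instance
  have h₃ : P (Spec.map ψ ≫ Spec.map φ) := by
    rw [hψ, Category.assoc, Category.assoc, P.cancel_left_of_respectsIso]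
    exact hp' P _ h
  rw [← Spec.map_comp, HasRingHomProperty.Spec_iff (P := P)] at h₃
  rw [HasRingHomProperty.Spec_iff (P := P)]
  have hfl : ψ.hom.Flat := HasRingHomProperty.Spec_iff.1 (inferInstance : Flat (Spec.map ψ))
  exact hring A B _ φ.hom ψ.hom (HasRingHomProperty.Spec_iff.1 h₁)
    (RingHom.FaithfullyFlat.iff_flat_and_comap_surjective.2 ⟨hfl, h₂.surj⟩) h₃

instance etLoc_flat : EtLoc (@Flat : MorphismProperty Scheme.{u}) :=
  .mk' (fun e he => by infer_instance) fun e f he hs h =>
    haveI : Flat (e ≫ f) := h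
    FpqcDescent.flat_of_flat_comp e f

instance etLoc_lft : EtLoc (@LocallyOfFiniteType : MorphismProperty Scheme.{u}) :=
  .mk' (fun e he => by infer_instance) <| descend_of_ring fun A B C _ _ _ φ ψ hψ hff h => by
    algebraize [φ, ψ, ψ.comp φ]
    exact finiteType_of_etale_faithfullyFlat A B C

instance isMultiplicative_lfp :
    MorphismProperty.IsMultiplicative (@LocallyOfFinitePresentation : MorphismProperty Scheme.{u}) where
  id_mem _ := inferInstance

instance etLoc_lfp : EtLoc (@LocallyOfFinitePresentation : MorphismProperty Scheme.{u}) :=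
  .mk' (fun e he => by infer_instance) <| descend_of_ring fun A B C _ _ _ φ ψ hψ hff h => by
    algebraize [φ, ψ, ψ.comp φ]
    exact finitePresentation_of_etale_faithfullyFlat A B C

theorem descend_formallyUnramified {X Y Z : Scheme.{u}} (e : X ⟶ Y) (f : Y ⟶ Z) (he : Etale e)
    (hs : Surjective e) (h : FormallyUnramified (e ≫ f)) : FormallyUnramified f :=
  descend_of_ring (P := @FormallyUnramified) (fun A B C _ _ _ φ ψ hψ hff h => by
    algebraize [φ, ψ, ψ.comp φ]
    exact formallyUnramified_of_etale_faithfullyFlat A B C) e f he hs h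

instance etLoc_unramified :
    EtLoc (@LocallyOfFiniteType ⊓ @FormallyUnramified : MorphismProperty Scheme.{u}) :=
  .mk' (fun e he => ⟨inferInstance, inferInstance⟩) fun e f he hs h =>
    ⟨EtLoc.descend e f he hs h.1, descend_formallyUnramified e f he hs h.2⟩

instance etLoc_etale : EtLoc (@Etale : MorphismProperty Scheme.{u}) :=
  .mk' (fun _ he => he) fun e f he hs h => by
    have : Etale (e ≫ f) := h
    have h₁ : Flat f := EtLoc.descend e f he hs (inferInstanceAs (Flat (e ≫ f)))
    have h₂ : LocallyOfFinitePresentation f :=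
      EtLoc.descend e f he hs (inferInstanceAs (LocallyOfFinitePresentation (e ≫ f)))
    have h₃ : FormallyUnramified f :=
      descend_formallyUnramified e f he hs (inferInstanceAs (FormallyUnramified (e ≫ f)))
    exact Etale.of_formallyUnramified_of_flat f

theorem lqf_of_etale {X Y : Scheme.{u}} (e : X ⟶ Y) [Etale e] : LocallyQuasiFinite e where
  quasiFinite_appLE {U} hU {V} hV h := by
    have h₁ := HasRingHomProperty.appLE (P := @LocallyOfFiniteType) e inferInstance ⟨U, hU⟩ ⟨V, hV⟩ h
    have h₂ := HasRingHomProperty.appLE (P := @FormallyUnramified) e inferInstance ⟨U, hU⟩ ⟨V, hV⟩ h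
    algebraize [(e.appLE U V h).hom]
    exact (inferInstance : Algebra.QuasiFinite Γ(Y, U) Γ(X, V))

instance isMultiplicative_lqf_lft :
    MorphismProperty.IsMultiplicative (@LocallyQuasiFinite ⊓ @LocallyOfFiniteType : MorphismProperty Scheme.{u}) :=
  inferInstance

instance etLoc_lqf_lft : EtLoc (@LocallyQuasiFinite ⊓ @LocallyOfFiniteType : MorphismProperty Scheme.{u}) :=
  .mk' (fun e he => ⟨lqf_of_etale e, inferInstance⟩) fun {X Y Z} e f he hs h => by
    have hf : LocallyOfFiniteType f := EtLoc.descend e f he hs h.2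
    have : LocallyQuasiFinite (e ≫ f) := h.1
    refine ⟨locallyQuasiFinite_iff_isDiscrete_preimage_singleton.2 fun z => ?_, hf⟩
    rw [isDiscrete_iff_forall_mem_exists_isOpen]
    intro y hy
    obtain ⟨x, rfl⟩ := e.surjective y
    obtain ⟨U, hU, hUx⟩ := isDiscrete_iff_forall_mem_exists_isOpen.1 ((e ≫ f).isDiscrete_preimage_singleton z) x hy
    refine ⟨e '' U, e.isOpenMap U hU, Set.eq_singleton_iff_unique_mem.2 ⟨⟨?_, hy⟩, ?_⟩⟩
    · exact ⟨x, (Set.eq_singleton_iff_unique_mem.1 hUx).1.1, rfl⟩
    · rintro _ ⟨⟨x', hx', rfl⟩, hz⟩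
      rw [(Set.eq_singleton_iff_unique_mem.1 hUx).2 x' ⟨hx', hz⟩]

instance isMultiplicative_smooth :
    MorphismProperty.IsMultiplicative (@Smooth : MorphismProperty Scheme.{u}) where
  id_mem _ := inferInstance

instance etLoc_smooth : EtLoc (@Smooth : MorphismProperty Scheme.{u}) :=
  .mk' (fun e he => by infer_instance) <| descend_of_ring fun A B C _ _ _ φ ψ hψ hff h => by
    algebraize [φ, ψ, ψ.comp φ]
    have : Algebra.FinitePresentation A B := finitePresentation_of_etale_faithfullyFlat A B C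
    exact ⟨formallySmooth_of_etale_faithfullyFlat A B C, this⟩

end Groth.Agent.AlgSpc
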