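import Mathlib.AlgebraicGeometry.Morphisms.FinitePresentation
import Mathlib.AlgebraicGeometry.Morphisms.FiniteType

/-!
Cancellation for morphisms locally of finite presentation.
-/

universe u

open CategoryTheory AlgebraicGeometry

namespace Groth.Agent.AlgSpc

/-- If `f ≫ g` is locally of finite presentation and `g` is locally of finite type, then `f` is locally of
finite presentation. -/
theorem lfp_of_comp {X Y Z : Scheme.{u}} (f : X ⟶ Y) (g : Y ⟶ Z) [LocallyOfFinitePresentation (f ≫ g)]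
    [LocallyOfFiniteType g] : LocallyOfFinitePresentation f := by
  rw [HasRingHomProperty.iff_exists_appLE (P := @LocallyOfFinitePresentation)
    (RingHom.finitePresentation_stableUnderComposition.stableUnderCompositionWithLocalizationAway
      RingHom.finitePresentation_holdsForLocalizationAway).1]
  intro x
  obtain ⟨U, hU, hxU, -⟩ := exists_isAffineOpen_mem_and_subset (show g (f x) ∈ (⊤ : Z.Opens) from trivial)
  obtain ⟨V, hV, hxV, hVU⟩ := exists_isAffineOpen_mem_and_subset (show f x ∈ g ⁻¹ᵁ U from hxU)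
  obtain ⟨W, hW, hxW, hWV⟩ := exists_isAffineOpen_mem_and_subset (show x ∈ f ⁻¹ᵁ V from hxV)
  have hVU' : V ≤ g ⁻¹ᵁ U := hVU
  have hWV' : W ≤ f ⁻¹ᵁ V := hWV
  refine ⟨⟨V, hV⟩, ⟨W, hW⟩, hxW, hWV', ?_⟩
  have h₁ := HasRingHomProperty.appLE (P := @LocallyOfFiniteType) g inferInstance ⟨U, hU⟩ ⟨V, hV⟩ hVU'
  have h₂ := HasRingHomProperty.appLE (P := @LocallyOfFinitePresentation) (f ≫ g) inferInstance
    ⟨U, hU⟩ ⟨W, hW⟩ (hWV'.trans (f.preimage_mono hVU'))
  rw [← Scheme.Hom.appLE_comp_appLE f g U V W hVU' hWV', CommRingCat.hom_comp] at h₂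
  algebraize [(g.appLE U V hVU').hom, (f.appLE V W hWV').hom,
    (f.appLE V W hWV').hom.comp (g.appLE U V hVU').hom]
  exact Algebra.FinitePresentation.of_restrict_scalars_finitePresentation Γ(Z, U) Γ(Y, V) Γ(X, W)

end Groth.Agent.AlgSpc
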