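import Groth.Agent.AlgSpc.More
import Groth.Agent.AlgSpc.FibreProd
import Groth.Prelude.Def_AlgSp3
import Groth.Prelude.Def_AlgSpEt

/-!
Properties of morphisms that are etale local on source and target.
-/

universe u

open CategoryTheory CategoryTheory.Limits AlgebraicGeometry Opposite

set_option backward.isDefEq.respectTransparency false

namespace Groth.Agent.AlgSpc

open _root_.AlgSp

/-- A property of morphisms of schemes that is etale local on source and target. -/
class EtLoc (P : MorphismProperty Scheme.{u}) : Prop where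
  precomp : ∀ {X Y Z : Scheme.{u}} (e : X ⟶ Y) (f : Y ⟶ Z), Etale e → P f → P (e ≫ f)
  postcomp : ∀ {X Y Z : Scheme.{u}} (f : X ⟶ Y) (e : Y ⟶ Z), Etale e → P f → P (f ≫ e)
  cancel : ∀ {X Y Z : Scheme.{u}} (f : X ⟶ Y) (e : Y ⟶ Z), Etale e → P (f ≫ e) → P f
  descend : ∀ {X Y Z : Scheme.{u}} (e : X ⟶ Y) (f : Y ⟶ Z), Etale e → Surjective e → P (e ≫ f) → P f

theorem EtLoc.mk' {P : MorphismProperty Scheme.{u}} [P.IsMultiplicative] [P.IsStableUnderBaseChange]
    (hle : ∀ {X Y : Scheme.{u}} (e : X ⟶ Y), Etale e → P e)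
    (hd : ∀ {X Y Z : Scheme.{u}} (e : X ⟶ Y) (f : Y ⟶ Z), Etale e → Surjective e → P (e ≫ f) → P f) :
    EtLoc P where
  precomp e f he hf := P.comp_mem e f (hle e he) hf
  postcomp f e he hf := P.comp_mem f e hf (hle e he)
  descend := hd
  cancel := by
    have : MorphismProperty.HasOfPostcompProperty P (fun _ _ e => Etale e) := by
      rw [MorphismProperty.hasOfPostcompProperty_iff_le_diagonal]
      intro X Y e he
      haveI : Etale e := he
      exact hle _ (inferInstanceAs (Etale (pullback.diagonal e)))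
    intro X Y Z f e he h
    exact MorphismProperty.of_postcomp (W' := fun _ _ e => Etale e) P f e he h

variable {S : Scheme.{u}}

theorem locP_mono {P Q : MorphismProperty Scheme.{u}} (h : P ≤ Q) {F G : Sp S} {f : F ⟶ G}
    (hf : LocP P f) : LocP Q f :=
  fun _ _ a b k ha hb w => h _ (hf a b k ha hb w)

theorem locP_inf {P Q : MorphismProperty Scheme.{u}} {F G : Sp S} {f : F ⟶ G} :
    LocP (P ⊓ Q) f ↔ LocP P f ∧ LocP Q f :=
  ⟨fun h => ⟨locP_mono inf_le_left h, locP_mono inf_le_right h⟩,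
    fun h _ _ a b k ha hb w => ⟨h.1 a b k ha hb w, h.2 a b k ha hb w⟩⟩

theorem etale_of_comp {F : Sp S} {U V : Over S} {a : (yon S).obj U ⟶ F} {b : (yon S).obj V ⟶ F}
    (ha : RepWith @Etale a) (hb : RepWith @Etale b) (k : U ⟶ V) (w : (yon S).map k ≫ b = a) :
    Etale k.left :=
  EtOver.etale_left (EtOver.homMk (E := EtOver.mk a ha) (E' := EtOver.mk b hb) k w)

theorem sq_etale {F : Sp S} {U V W : Over S} {a : (yon S).obj U ⟶ F} {b : (yon S).obj V ⟶ F}
    {fst : (yon S).obj W ⟶ (yon S).obj U} {snd : W ⟶ V} (sq : IsPullback fst ((yon S).map snd) a b)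
    (hb : RepWith @Etale b) : Etale (pre fst).left := by
  have sq' := sq.flip
  rw [← map_pre fst] at sq'
  exact hb.2 a _ _ sq'

/-- One chart diagram suffices. -/
theorem locP_of_chart {P : MorphismProperty Scheme.{u}} [EtLoc P] {F G : Sp S} {f : F ⟶ G}
    {U V : Over S} {a : (yon S).obj U ⟶ F} {b : (yon S).obj V ⟶ G} {h : U ⟶ V}
    (ha : RepWith @Etale a) (has : RepWith @Surjective a) (hb : RepWith @Etale b)
    (w : a ≫ f = (yon S).map h ≫ b) (hP : P h.left) : LocP P f := by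
  intro U' V' a' b' h' ha' hb' w'
  obtain ⟨W, p, q, sq₁⟩ := exists_sq ha.1 a'
  obtain ⟨V'', r, s, sq₂⟩ := exists_sq hb.1 b'
  have hp : Etale (pre p).left := sq_etale sq₁ ha'
  have hq : Etale q.left := ha.2 a' p q sq₁
  have hqs : Surjective q.left := has.2 a' p q sq₁
  have hr : Etale (pre r).left := sq_etale sq₂ hb'
  have hs : Etale s.left := hb.2 b' r s sq₂
  have w'' : (p ≫ (yon S).map h) ≫ b = (yon S).map (q ≫ h') ≫ b' := by
    rw [Category.assoc, ← w, ← Category.assoc, sq₁.w, Category.assoc, w', Functor.map_comp, Category.assoc]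
  let k := pre (sq₂.lift (p ≫ (yon S).map h) ((yon S).map (q ≫ h')) w'')
  have k₁ : k ≫ pre r = pre p ≫ h := (yon S).map_injective (by simp [k])
  have k₂ : k ≫ s = q ≫ h' := (yon S).map_injective (by simp [k])
  have hpre : P ((pre p).left ≫ h.left) := EtLoc.precomp _ _ hp hP
  rw [← Over.comp_left, ← k₁, Over.comp_left] at hpre
  have hk := EtLoc.postcomp _ _ hs (EtLoc.cancel _ _ hr hpre)
  rw [← Over.comp_left, k₂, Over.comp_left] at hk
  exact EtLoc.descend _ _ hq hqs hk

/-- Chart diagrams exist over any given chart of the target. -/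
theorem exists_chart_over {F G : Sp S} (f : F ⟶ G) {U₀ : Over S} {a₀ : (yon S).obj U₀ ⟶ F}
    (ha₀ : RepWith @Etale a₀) (ha₀s : RepWith @Surjective a₀) {V : Over S} {b : (yon S).obj V ⟶ G}
    (hb : RepWith @Etale b) (hbs : RepWith @Surjective b) :
    ∃ (U : Over S) (a : (yon S).obj U ⟶ F) (h : U ⟶ V),
      RepWith @Etale a ∧ RepWith @Surjective a ∧ a ≫ f = (yon S).map h ≫ b := by
  obtain ⟨U, fst, snd, sq⟩ := exists_sq hb.1 (a₀ ≫ f)
  refine ⟨U, (yon S).map snd ≫ a₀, pre fst,
    repWith_comp ((repWith_yon_map_iff _ _).2 (hb.2 _ _ _ sq)) ha₀,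
    repWith_comp ((repWith_yon_map_iff _ _).2 (hbs.2 _ _ _ sq)) ha₀s, ?_⟩
  rw [Category.assoc, ← sq.w, map_pre]

theorem exists_chart {F G : Sp S} (hF : IsAlgSpace F) (hG : IsAlgSpace G) (f : F ⟶ G) :
    ∃ (U V : Over S) (a : (yon S).obj U ⟶ F) (b : (yon S).obj V ⟶ G) (h : U ⟶ V),
      RepWith @Etale a ∧ RepWith @Surjective a ∧ RepWith @Etale b ∧ RepWith @Surjective b ∧
        a ≫ f = (yon S).map h ≫ b := by
  obtain ⟨U₀, a₀, h₁, h₂⟩ := hF.atlas
  obtain ⟨V, b, h₃, h₄⟩ := hG.atlas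
  obtain ⟨U, a, h, h₅, h₆, w⟩ := exists_chart_over f h₁ h₂ h₃ h₄
  exact ⟨U, V, a, b, h, h₅, h₆, h₃, h₄, w⟩

/-- A representable morphism with `P` has `P` etale locally. -/
theorem locP_of_repWith {P : MorphismProperty Scheme.{u}}
    (hpre : ∀ {X Y Z : Scheme.{u}} (e : X ⟶ Y) (f : Y ⟶ Z), Etale e → P f → P (e ≫ f))
    {F G : Sp S} {f : F ⟶ G} (hf : RepWith P f) : LocP P f := by
  intro U V a b h ha hb w
  obtain ⟨W, fst, snd, sq⟩ := exists_sq hf.1 b
  let l := pre (sq.lift a ((yon S).map h) w)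
  have hl : Etale l.left :=
    etale_of_comp ha (repWith_of_isPullback sq.flip hb) l (by simp [l])
  have hls : l ≫ snd = h := (yon S).map_injective (by simp [l])
  rw [← hls]
  exact hpre _ _ hl (hf.2 b fst snd sq)

theorem locP_comp {P : MorphismProperty Scheme.{u}} [EtLoc P] [P.IsStableUnderComposition]
    {X Y Z : Sp S} (hX : IsAlgSpace X) (hY : IsAlgSpace Y) (hZ : IsAlgSpace Z) {f : X ⟶ Y} {g : Y ⟶ Z}
    (hf : LocP P f) (hg : LocP P g) : LocP P (f ≫ g) := by
  obtain ⟨V, W, b, c, k, hb, hbs, hc, hcs, w₂⟩ := exists_chart hY hZ g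
  obtain ⟨U₀, a₀, h₁, h₂⟩ := hX.atlas
  obtain ⟨U, a, h, ha, has, w₁⟩ := exists_chart_over f h₁ h₂ hb hbs
  refine locP_of_chart (h := h ≫ k) ha has hc ?_ (P.comp_mem _ _ (hf a b h ha hb w₁) (hg b c k hb hc w₂))
  rw [Functor.map_comp, Category.assoc, ← w₂, ← Category.assoc, w₁, Category.assoc]

/-- Cancellation for composites, from the corresponding fact on schemes. -/
theorem locP_of_comp {P Q R : MorphismProperty Scheme.{u}} [EtLoc R]
    (hPQR : ∀ {X Y Z : Scheme.{u}} (h : X ⟶ Y) (k : Y ⟶ Z), P (h ≫ k) → Q k → R h)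
    {X Y Z : Sp S} (hX : IsAlgSpace X) (hY : IsAlgSpace Y) (hZ : IsAlgSpace Z) {f : X ⟶ Y} {g : Y ⟶ Z}
    (hfg : LocP P (f ≫ g)) (hg : LocP Q g) : LocP R f := by
  obtain ⟨V, W, b, c, k, hb, hbs, hc, hcs, w₂⟩ := exists_chart hY hZ g
  obtain ⟨U₀, a₀, h₁, h₂⟩ := hX.atlas
  obtain ⟨U, a, h, ha, has, w₁⟩ := exists_chart_over f h₁ h₂ hb hbs
  refine locP_of_chart ha has hb w₁ (hPQR _ _ ?_ (hg b c k hb hc w₂))
  refine hfg a c (h ≫ k) ha hc ?_
  rw [Functor.map_comp, Category.assoc, ← w₂, ← Category.assoc, w₁, Category.assoc]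

theorem locP_top {F G : Sp S} (f : F ⟶ G) : LocP ⊤ f := fun _ _ _ _ _ _ _ _ => trivial

theorem locP_base_change {P : MorphismProperty Scheme.{u}} [EtLoc P] [P.IsStableUnderBaseChange]
    {X Y Y' X' : Sp S} (hX : IsAlgSpace X) (hY : IsAlgSpace Y) (hY' : IsAlgSpace Y')
    {fst : X' ⟶ X} {snd : X' ⟶ Y'} {f : X ⟶ Y} {g : Y' ⟶ Y} (sq : IsPullback fst snd f g)
    (hf : LocP P f) : LocP P snd := by
  obtain ⟨U₀, a₀, ha₀, ha₀s⟩ := hX.atlas
  obtain ⟨W, b, hb, hbs⟩ := hY.atlas
  obtain ⟨U, p, h, sq₁⟩ := exists_sq (hY.representable_from_yon (a₀ ≫ f)) b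
  let a := p ≫ a₀
  have w : a ≫ f = (yon S).map h ≫ b := by rw [Category.assoc]; exact sq₁.w
  have ha : RepWith @Etale a := repWith_comp (repWith_of_isPullback sq₁.flip hb) ha₀
  obtain ⟨V₀, b₀, hb₀, hb₀s⟩ := hY'.atlas
  obtain ⟨V, b', v, hb', hb's, wv⟩ := exists_chart_over g hb₀ hb₀s hb hbs
  let T := pullback h v
  have sqT : IsPullback ((yon S).map (pullback.fst h v)) ((yon S).map (pullback.snd h v))
      ((yon S).map h) ((yon S).map v) := (IsPullback.of_hasPullback h v).map (yon S)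
  -- the base change of the chart
  have wT : ((yon S).map (pullback.fst h v) ≫ a) ≫ f = ((yon S).map (pullback.snd h v) ≫ b') ≫ g := by
    rw [Category.assoc, w, ← Category.assoc, sqT.w, Category.assoc, ← wv, Category.assoc]
  let q := sq.lift _ _ wT
  let lU := pullback.lift a ((yon S).map h) w
  have hlU₁ : lU ≫ pullback.fst f b = a := pullback.lift_fst _ _ _
  have hlU₂ : lU ≫ pullback.snd f b = (yon S).map h := pullback.lift_snd _ _ _
  have sql : IsPullback p lU a₀ (pullback.fst f b) := IsPullback.of_bot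
    (by rw [hlU₂]; exact sq₁) hlU₁.symm (IsPullback.of_hasPullback f b)
  have hlU : RepWith @Etale q ∧ RepWith @Surjective q := by
    have hl : RepWith @Etale lU ∧ RepWith @Surjective lU :=
      ⟨repWith_of_isPullback sql ha₀, repWith_of_isPullback sql ha₀s⟩
    -- q = (T ⟶ X ×_Y h_V) ≫ (X ×_Y h_V ⟶ X')
    have sqP : IsPullback (pullback.fst f (b' ≫ g)) (pullback.snd f (b' ≫ g)) f (b' ≫ g) :=
      IsPullback.of_hasPullback _ _
    let j : pullback f (b' ≫ g) ⟶ X' := sq.lift (pullback.fst f (b' ≫ g)) (pullback.snd f (b' ≫ g) ≫ b')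
      (by rw [Category.assoc, pullback.condition])
    have sqj : IsPullback j (pullback.snd f (b' ≫ g)) snd b' := IsPullback.of_right (by
      rw [sq.lift_fst]; exact sqP) (sq.lift_snd _ _ _) sq
    let m : pullback f (b' ≫ g) ⟶ pullback f b :=
      pullback.map f (b' ≫ g) f b (𝟙 _) ((yon S).map v) (𝟙 _) (by simp) (by simp [wv])
    have sqm : IsPullback m (pullback.snd f (b' ≫ g)) (pullback.snd f b) ((yon S).map v) :=
      IsPullback.of_right (by simpa [m, ← wv] using sqP) (by simp [m]) (IsPullback.of_hasPullback f b)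
    have wt : ((yon S).map (pullback.fst h v) ≫ lU) ≫ pullback.snd f b =
        (yon S).map (pullback.snd h v) ≫ (yon S).map v := by
      rw [Category.assoc, hlU₂, sqT.w]
    let t := sqm.lift _ _ wt
    have sqt : IsPullback ((yon S).map (pullback.fst h v)) t lU m := IsPullback.of_bot (by
      rw [sqm.lift_snd, hlU₂]; exact sqT) (sqm.lift_fst _ _ _).symm sqm
    have hq : q = t ≫ j := by
      apply sq.hom_ext
      · have e : m ≫ pullback.fst f b = pullback.fst f (b' ≫ g) := by simp [m]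
        simp only [q, j, IsPullback.lift_fst, Category.assoc]
        rw [← e, IsPullback.lift_fst_assoc, Category.assoc, hlU₁]
      · simp only [q, j, IsPullback.lift_snd, Category.assoc, t, IsPullback.lift_snd_assoc]
    rw [hq]
    exact ⟨repWith_comp (repWith_of_isPullback sqt hl.1) (repWith_of_isPullback sqj.flip hb'),
      repWith_comp (repWith_of_isPullback sqt hl.2) (repWith_of_isPullback sqj.flip hb's)⟩
  exact locP_of_chart hlU.1 hlU.2 hb' (sq.lift_snd _ _ _)
    (MorphismProperty.of_isPullback ((IsPullback.of_hasPullback h v).map (Over.forget S))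
      (hf a b h ha hb w))

theorem isEtaleMor_iff_locP {F G : Sp S} (hF : IsAlgSpace F) (hG : IsAlgSpace G)
    [EtLoc (@Etale : MorphismProperty Scheme.{u})] {f : F ⟶ G} :
    IsEtaleMor f ↔ LocP @Etale f := by
  refine ⟨fun hf U V a b h ha hb w => etale_of_comp (hf a ha) hb h w.symm, fun hf U a ha => ?_⟩
  refine ⟨hG.representable_from_yon _, fun T Z g fst snd sq => ?_⟩
  obtain ⟨W, b, hb, hbs⟩ := hG.atlas
  obtain ⟨T', t, k, sqT⟩ := exists_sq hb.1 g
  obtain ⟨U₁, u, m, sqU⟩ := exists_sq hb.1 (a ≫ f)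
  have hu : Etale (pre u).left := hf ((yon S).map m ≫ a) b (pre u)
    (repWith_comp ((repWith_yon_map_iff _ m).2 (hb.2 _ _ _ sqU)) ha) hb
    (by rw [Category.assoc, ← sqU.w, map_pre])
  -- the pullback of the given square to the chart of the target
  let Z' := pullback k snd
  let e : Z' ⟶ Z := pullback.snd k snd
  have he : Etale e.left ∧ Surjective e.left :=
    ⟨MorphismProperty.of_isPullback ((IsPullback.of_hasPullback k snd).map (Over.forget S)) (hb.2 g t k sqT),
      MorphismProperty.of_isPullback ((IsPullback.of_hasPullback k snd).map (Over.forget S)) (hbs.2 g t k sqT)⟩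
  have wU : ((yon S).map (pullback.fst k snd) ≫ t) ≫ b = ((yon S).map e ≫ fst) ≫ a ≫ f := by
    rw [Category.assoc, sqT.w, Category.assoc, sq.w, ← Category.assoc, ← Category.assoc,
      ← Functor.map_comp, ← Functor.map_comp, pullback.condition]
  let z := sqU.lift _ _ wU
  have sqz₀ : IsPullback ((yon S).map (pullback.fst k snd)) ((yon S).map e) ((yon S).map k) ((yon S).map snd) :=
    (IsPullback.of_hasPullback k snd).map (yon S)
  have sqA : IsPullback ((yon S).map e ≫ fst) ((yon S).map (pullback.fst k snd)) (a ≫ f) (t ≫ b) := by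
    rw [sqT.w]
    exact sqz₀.flip.paste_horiz sq
  have sqz : IsPullback z ((yon S).map (pullback.fst k snd)) u t := IsPullback.of_right
    (by rw [show z ≫ (yon S).map m = _ from sqU.lift_snd _ _ wU]; exact sqA) (sqU.lift_fst _ _ _) sqU.flip
  have hk : Etale (pullback.fst k snd).left :=
    ((repWith_pre u).2 hu).2 t z _ sqz
  refine EtLoc.descend (P := @Etale) e.left snd.left he.1 he.2 ?_
  rw [← Over.comp_left, ← pullback.condition, Over.comp_left]
  have : Etale k.left := hb.2 g t k sqT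
  infer_instance

theorem isOpenMap_of_chart {F G : Sp S} {f : F ⟶ G} {U V : Over S} {a : (yon S).obj U ⟶ F}
    {b : (yon S).obj V ⟶ G} {h : U ⟶ V} (has : RepWith @Surjective a) (hb : RepWith @Etale b)
    (w : a ≫ f = (yon S).map h ≫ b) (ho : IsOpenMap h.left) : IsOpenMap (Points.map f) := by
  refine isOpenMap_of_comp_surjective (Points.continuous_ofPt a) (surjective_ofPt has) ?_
  have e : Points.map f ∘ Points.ofPt a = Points.ofPt b ∘ h.left := funext fun u =>
    (Points.map_ofPt a f u).trans (by rw [w]; exact ofPt_comp h b u)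
  rw [e]
  exact (isOpenMap_ofPt hb).comp ho

end Groth.Agent.AlgSpc
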