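import Groth.Agent.AlgSpc.Universal
import Mathlib.AlgebraicGeometry.Limits

/-!
Quasi-compactness, immersions, and the topology of points.
-/

universe u

open CategoryTheory CategoryTheory.Limits AlgebraicGeometry Opposite

set_option backward.isDefEq.respectTransparency false

namespace Groth.Agent.AlgSpc

open _root_.AlgSp

variable {S : Scheme.{u}}

theorem surjective_ofPt_iff {F : Sp S} {U : Over S} {p : (yon S).obj U ⟶ F} (hp : Representable p) :
    RepWith @Surjective p ↔ Function.Surjective (Points.ofPt p) := by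
  refine ⟨surjective_ofPt, fun h => (repWith_surjective_iff hp).2 fun y => ?_⟩
  obtain ⟨u, rfl⟩ := h y
  exact ⟨Points.ofScheme U u, (Points.ofPt_eq_map_ofScheme p u).symm⟩

theorem compactSpace_points {F : Sp S} (h : IsQuasiCompactSp F) : CompactSpace (Points F) := by
  obtain ⟨U, p, -, hs, hc⟩ := h
  have : CompactSpace ↥U.left := hc
  refine ⟨?_⟩
  rw [← (surjective_ofPt hs).range_eq]
  exact isCompact_range (Points.continuous_ofPt p)

/-- A quasi-compact atlas gives an affine one. -/
theorem exists_affine_atlas_of_compact {F : Sp S} {U : Over S} {p : (yon S).obj U ⟶ F}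
    (hp : RepWith @Etale p) (hs : RepWith @Surjective p) [CompactSpace (Points F)] :
    ∃ (W : Over S) (q : (yon S).obj W ⟶ F),
      IsAffine W.left ∧ RepWith @Etale q ∧ RepWith @Surjective q := by
  have hopen : ∀ i : U.left.affineOpens,
      IsOpen (Points.ofPt p '' (i.1 : Set U.left)) := fun i => isOpenMap_ofPt hp _ i.1.2
  have hcov : (Set.univ : Set (Points F)) ⊆ ⋃ i : U.left.affineOpens, Points.ofPt p '' (i.1 : Set U.left) := by
    intro x _
    obtain ⟨u, rfl⟩ := surjective_ofPt hs x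
    obtain ⟨V, hV, hu, -⟩ := exists_isAffineOpen_mem_and_subset (show u ∈ (⊤ : U.left.Opens) from trivial)
    exact Set.mem_iUnion.2 ⟨⟨V, hV⟩, u, hu, rfl⟩
  obtain ⟨t, ht⟩ := isCompact_univ.elim_finite_subcover _ hopen hcov
  let g : t → Scheme.{u} := fun i => i.1.1
  have : ∀ i, IsAffine (g i) := fun i => i.1.2
  let φ : (∐ g) ⟶ U.left := Sigma.desc fun i => i.1.1.ι
  have hφ : Etale φ := by
    refine IsZariskiLocalAtSource.of_openCover (P := @Etale) (sigmaOpenCover g) fun i => ?_
    change Etale (Sigma.ι g i ≫ φ)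
    rw [Sigma.ι_desc]
    infer_instance
  let W : Over S := Over.mk (φ ≫ U.hom)
  let k : W ⟶ U := Over.homMk φ rfl
  have hk : RepWith @Etale ((yon S).map k ≫ p) :=
    repWith_comp ((repWith_yon_map_iff _ k).2 hφ) hp
  refine ⟨W, (yon S).map k ≫ p, inferInstanceAs (IsAffine (∐ g)), hk,
    (surjective_ofPt_iff hk.1).2 fun x => ?_⟩
  obtain ⟨i, hi, u, hu, rfl⟩ : ∃ i ∈ t, ∃ u ∈ (i.1 : Set U.left), Points.ofPt p u = x := by
    simpa [Set.mem_iUnion] using ht (Set.mem_univ x)
  refine ⟨Sigma.ι g ⟨i, hi⟩ ⟨u, hu⟩, (ofPt_comp k p _).trans ?_⟩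
  congr 1
  change φ (Sigma.ι g ⟨i, hi⟩ ⟨u, hu⟩) = u
  rw [← Scheme.Hom.comp_apply, Sigma.ι_desc]
  rfl

theorem isQuasiCompactSp_iff {F : Sp S} (hF : IsAlgSpace F) :
    IsQuasiCompactSp F ↔ CompactSpace (Points F) := by
  refine ⟨compactSpace_points, fun h => ?_⟩
  obtain ⟨U, p, hp, hs⟩ := hF.atlas
  obtain ⟨W, q, hW, hq, hqs⟩ := exists_affine_atlas_of_compact hp hs
  exact ⟨W, q, hq, hqs, (inferInstance : CompactSpace ↥W.left)⟩

theorem isQuasiCompactSp_iff_affine {F : Sp S} (hF : IsAlgSpace F) :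
    IsQuasiCompactSp F ↔
      ∃ (U : Over S) (p : (yon S).obj U ⟶ F), IsAffine U.left ∧ RepWith @Etale p ∧ RepWith @Surjective p := by
  refine ⟨fun h => ?_, fun ⟨U, p, hU, hp, hs⟩ => ⟨U, p, hp, hs, (inferInstance : CompactSpace ↥U.left)⟩⟩
  have := compactSpace_points h
  obtain ⟨U, p, hp, hs⟩ := hF.atlas
  exact exists_affine_atlas_of_compact hp hs

theorem isQuasiCompactSp_yon {T : Over S} [CompactSpace ↥T.left] : IsQuasiCompactSp ((yon S).obj T) :=
  ⟨T, 𝟙 _, repWith_id _ T, repWith_id _ T, ‹_›⟩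

/-- Base change of a chart along a morphism. -/
theorem exists_chart_pullback {F G : Sp S} {f : F ⟶ G} (hf : Representable f) {U : Over S}
    {p : (yon S).obj U ⟶ G} :
    ∃ (V : Over S) (q : (yon S).obj V ⟶ F) (k : V ⟶ U),
      IsPullback q ((yon S).map k) f p ∧ (RepWith @Etale p → RepWith @Etale q) ∧
        (RepWith @Surjective p → RepWith @Surjective q) := by
  obtain ⟨V, q, k, sq⟩ := exists_sq hf p
  exact ⟨V, q, k, sq, repWith_of_isPullback sq.flip, repWith_of_isPullback sq.flip⟩

theorem isQuasiCompactMor_of_repWith {F G : Sp S} {f : F ⟶ G} (hf : RepWith @QuasiCompact f) :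
    IsQuasiCompactMor f := by
  intro Z Z' _ hZ g fst snd sq
  have hsnd := repWith_of_isPullback sq hf
  obtain ⟨U, p, hp, hs, hU⟩ := hZ
  obtain ⟨V, q, k, sq', hq, hqs⟩ := exists_chart_pullback hsnd.1 (p := p)
  have : CompactSpace ↥U.left := hU
  have : QuasiCompact k.left := hsnd.2 p q k sq'
  exact ⟨V, q, hq hp, hqs hs, QuasiCompact.compactSpace_of_compactSpace k.left⟩

theorem repWith_quasiCompact_iff {F G : Sp S} {f : F ⟶ G} (hf : Representable f) :
    RepWith @QuasiCompact f ↔ IsQuasiCompactMor f := by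
  refine ⟨isQuasiCompactMor_of_repWith, fun h => ⟨hf, fun T V g fst snd sq => ?_⟩⟩
  refine (quasiCompact_iff_forall_isAffineOpen (f := snd.left)).2 fun (O : T.left.Opens) hO => ?_
  let T' : Over S := Over.mk (O.ι ≫ T.hom)
  let i : T' ⟶ T := Over.homMk O.ι rfl
  let P : Over S := Over.mk ((snd.left ⁻¹ᵁ O).ι ≫ V.hom)
  let a : P ⟶ V := Over.homMk (snd.left ⁻¹ᵁ O).ι rfl
  have hb : (snd.left ∣_ O) ≫ T'.hom = P.hom := by
    change (snd.left ∣_ O) ≫ O.ι ≫ T.hom = (snd.left ⁻¹ᵁ O).ι ≫ V.hom
    rw [← Category.assoc, morphismRestrict_ι, Category.assoc, Over.w snd]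
  let b : P ⟶ T' := Over.homMk (snd.left ∣_ O) hb
  have sqo : IsPullback a b snd i :=
    IsPullback.of_map (Over.forget S) (Over.OverMorphism.ext (morphismRestrict_ι snd.left O).symm)
      (isPullback_morphismRestrict snd.left O).flip
  have : IsAffine T'.left := hO
  have hc : CompactSpace (Points ((yon S).obj P)) := compactSpace_points
    (h (IsAlgSpace.yon_obj T') (isQuasiCompactSp_yon (T := T')) ((yon S).map i ≫ g) _ _
      ((sqo.map (yon S)).paste_horiz sq))
  have : CompactSpace ↥(snd.left ⁻¹ᵁ O) := (Points.schemeHomeo P).symm.compactSpace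
  exact isCompact_iff_compactSpace.2 this

theorem injective_of_immersion ⦃X Y : Scheme.{u}⦄ (f : X ⟶ Y) (hf : IsImmersion f) :
    Function.Injective f :=
  f.isEmbedding.injective

/-- An immersion of sheaves with an atlas on the target is an embedding with locally closed image. -/
theorem isEmbedding_of_immersion {F G : Sp S} {i : F ⟶ G} (hi : RepWith @IsImmersion i) {U : Over S}
    {p : (yon S).obj U ⟶ G} (hp : RepWith @Etale p) (hs : RepWith @Surjective p) :
    Topology.IsEmbedding (Points.map i) ∧ IsLocallyClosed (Set.range (Points.map i)) := by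
  obtain ⟨V, q, k, sq⟩ := exists_sq hi.1 p
  have : IsImmersion k.left := hi.2 p q k sq
  refine ⟨⟨⟨?_⟩, injective_map_of_repWith injective_of_immersion hi⟩, ?_⟩
  · refine le_antisymm (Points.continuous_map i).le_induced fun W hW => ?_
    obtain ⟨W'', hW'', hWW⟩ := (k.left.isEmbedding.isInducing.isOpen_iff).1
      (hW.preimage (Points.continuous_ofPt q))
    refine isOpen_induced_iff.2 ⟨Points.ofPt p '' W'', isOpenMap_ofPt hp _ hW'', ?_⟩
    ext x
    constructor
    · rintro ⟨u, hu, hux⟩
      obtain ⟨v, rfl, rfl⟩ := exists_point_of_sq sq x u hux.symm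
      exact (show v ∈ Points.ofPt q ⁻¹' W from hWW ▸ hu)
    · intro hx
      obtain ⟨u, hu⟩ := surjective_ofPt hs (Points.map i x)
      obtain ⟨v, rfl, rfl⟩ := exists_point_of_sq sq x u hu.symm
      exact ⟨_, (show v ∈ k.left ⁻¹' W'' from hWW.symm ▸ hx), hu⟩
  · have heq : Points.ofPt p ⁻¹' Set.range (Points.map i) = Set.range k.left := by
      rw [← Set.image_univ, preimage_ofPt_image sq, Set.preimage_univ, Set.image_univ]
    have hc := k.left.isLocallyClosed_range
    rw [← heq] at hc
    have ho := hc.isOpen_coborder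
    rw [_root_.coborder_preimage (isOpenMap_ofPt hp) (Points.continuous_ofPt p)] at ho
    exact isLocallyClosed_iff_isOpen_coborder.2 ((isQuotientMap_ofPt hp hs).isOpen_preimage.1 ho)

theorem noetherianSpace_points {F : Sp S} (hqc : IsQuasiCompactSp F) (hN : IsLocNoethSp F) :
    TopologicalSpace.NoetherianSpace (Points F) := by
  have := compactSpace_points hqc
  obtain ⟨U, p, hp, hs, hU⟩ := hN
  have : IsLocallyNoetherian U.left := hU
  obtain ⟨t, ht⟩ := isCompact_univ.elim_finite_subcover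
    (fun i : U.left.affineOpens => Points.ofPt p '' (i.1 : Set U.left))
    (fun i => isOpenMap_ofPt hp _ i.1.2) (fun x _ => by
      obtain ⟨u, rfl⟩ := surjective_ofPt hs x
      obtain ⟨V, hV, hu, -⟩ :=
        exists_isAffineOpen_mem_and_subset (show u ∈ (⊤ : U.left.Opens) from trivial)
      exact Set.mem_iUnion.2 ⟨⟨V, hV⟩, u, hu, rfl⟩)
  rw [← TopologicalSpace.noetherian_univ_iff]
  have hu : (Set.univ : Set (Points F)) = ⋃ i : t, Points.ofPt p '' ((i.1.1 : U.left.Opens) : Set U.left) := by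
    refine (Set.eq_univ_of_univ_subset (ht.trans ?_)).symm
    simp only [Set.iUnion_subset_iff]
    intro i hi
    exact Set.subset_iUnion_of_subset ⟨i, hi⟩ subset_rfl
  rw [hu]
  have : ∀ i : t, TopologicalSpace.NoetherianSpace ↥(Points.ofPt p '' ((i.1.1 : U.left.Opens) : Set U.left)) := by
    intro i
    have : IsNoetherianRing Γ(U.left, i.1.1) := IsLocallyNoetherian.component_noetherian i.1
    have : TopologicalSpace.NoetherianSpace ↥i.1.1 := noetherianSpace_of_isAffineOpen _ i.1.2
    rw [Set.image_eq_range]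
    exact TopologicalSpace.NoetherianSpace.range _ ((Points.continuous_ofPt p).comp continuous_subtype_val)
  exact TopologicalSpace.NoetherianSpace.iUnion _

end Groth.Agent.AlgSpc
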