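import Groth.Agent.AlgSpc.Basic
import Groth.Prelude.Def_AlgSp4
import Groth.Prelude.Def_SGA1
import Groth.Prelude.Def_Flat

/-!
Representable morphisms with a universal topological property, compared with the notions on points.
-/

universe u

open CategoryTheory CategoryTheory.Limits AlgebraicGeometry Opposite

namespace Groth.Agent.AlgSpc

open _root_.AlgSp

variable {S : Scheme.{u}}

/-- A fibre product of schemes under `snd.left`, lifted to schemes over `S`. -/
theorem exists_over_sq {V T : Over S} (snd : V ⟶ T) {V' T' : Scheme.{u}} (i₁ : V' ⟶ V.left)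
    (i₂ : T' ⟶ T.left) (f' : V' ⟶ T') (h : IsPullback i₁ f' snd.left i₂) :
    ∃ (W Q : Over S) (a : W ⟶ V) (b : Q ⟶ T) (k : W ⟶ Q) (hW : W.left = V') (hQ : Q.left = T'),
      IsPullback a k snd b ∧ k.left = eqToHom hW ≫ f' ≫ eqToHom hQ.symm := by
  have hw : f' ≫ i₂ = i₁ ≫ snd.left := h.w.symm
  have hk : f' ≫ (Over.mk (i₂ ≫ T.hom)).hom = (Over.mk (i₁ ≫ V.hom)).hom := by
    change f' ≫ i₂ ≫ T.hom = i₁ ≫ V.hom
    rw [reassoc_of% hw, Over.w snd]
  refine ⟨Over.mk (i₁ ≫ V.hom), Over.mk (i₂ ≫ T.hom), Over.homMk i₁ rfl, Over.homMk i₂ rfl,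
    Over.homMk f' hk, rfl, rfl, ?_, by simp⟩
  exact IsPullback.of_map (Over.forget S) (Over.OverMorphism.ext h.w) h

theorem universally_of_sq {P : MorphismProperty Scheme.{u}} {F G : Sp S} {f : F ⟶ G}
    (h : ∀ ⦃T V : Over S⦄ (g : (yon S).obj T ⟶ G) (fst : (yon S).obj V ⟶ F) (snd : V ⟶ T),
      IsPullback fst ((yon S).map snd) f g → P snd.left)
    {T V : Over S} (g : (yon S).obj T ⟶ G) (fst : (yon S).obj V ⟶ F) (snd : V ⟶ T)
    (sq : IsPullback fst ((yon S).map snd) f g) : MorphismProperty.universally P snd.left := by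
  intro V' T' i₁ i₂ f' hp
  obtain ⟨W, Q, a, b, k, rfl, rfl, sqo, hk⟩ := exists_over_sq snd i₁ i₂ f' hp.flip
  simp only [eqToHom_refl, Category.id_comp, Category.comp_id] at hk
  rw [← hk]
  exact h ((yon S).map b ≫ g) ((yon S).map a ≫ fst) k ((sqo.map (yon S)).paste_horiz sq)

theorem repWith_universally_iff {P : MorphismProperty Scheme.{u}} {F G : Sp S} {f : F ⟶ G} :
    RepWith (MorphismProperty.universally P) f ↔ Representable f ∧
      ∀ ⦃T V : Over S⦄ (g : (yon S).obj T ⟶ G) (fst : (yon S).obj V ⟶ F) (snd : V ⟶ T),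
        IsPullback fst ((yon S).map snd) f g → P snd.left :=
  ⟨fun hf => ⟨hf.1, fun _ _ g fst snd sq => MorphismProperty.universally_le P _ (hf.2 g fst snd sq)⟩,
    fun ⟨h₁, h₂⟩ => ⟨h₁, fun _ _ g fst snd sq => universally_of_sq h₂ g fst snd sq⟩⟩

/-- The comparison between the representable notion and the universal notion on points. -/
theorem repWith_iff_univSp {P : MorphismProperty Scheme.{u}}
    {Q : ∀ ⦃F G : Sp S⦄, (F ⟶ G) → Prop}
    (hQ : ∀ ⦃F G : Sp S⦄ (f : F ⟶ G), RepWith (MorphismProperty.universally P) f → Q f)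
    (hP : ∀ ⦃U V : Over S⦄ (g : U ⟶ V), Q ((yon S).map g) → P g.left)
    {F G : Sp S} {f : F ⟶ G} (hf : Representable f) :
    RepWith (MorphismProperty.universally P) f ↔ UnivSp (fun _ _ k => Q k) f := by
  refine ⟨fun h Z Z' _ g fst snd sq => hQ snd (repWith_of_isPullback sq h), fun h => ?_⟩
  exact repWith_universally_iff.2 ⟨hf, fun T V g fst snd sq =>
    hP snd (h (IsAlgSpace.yon_obj T) g fst _ sq)⟩

theorem eq_universallyOpen : @UniversallyOpen.{u} =
    MorphismProperty.universally (topologically @IsOpenMap) :=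
  UniversallyOpen.eq

theorem eq_universallyClosed : @UniversallyClosed.{u} =
    MorphismProperty.universally (topologically @IsClosedMap) :=
  universallyClosed_eq

theorem eq_universallyInjective : @UniversallyInjective.{u} =
    MorphismProperty.universally (topologically (Function.Injective ·)) :=
  universallyInjective_eq

theorem map_left_eq {U V : Over S} (g : U ⟶ V) :
    (fun t => g.left t) =
      (Points.schemeHomeo V).symm ∘ Points.map ((yon S).map g) ∘ Points.schemeHomeo U := by
  funext t
  simp [Points.map_yon_map_apply]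

theorem isOpenMap_of_map {U V : Over S} (g : U ⟶ V) (h : IsOpenMap (Points.map ((yon S).map g))) :
    IsOpenMap (fun t => g.left t) := by
  rw [map_left_eq g]
  exact (Points.schemeHomeo V).symm.isOpenMap.comp (h.comp (Points.schemeHomeo U).isOpenMap)

theorem isClosedMap_of_map {U V : Over S} (g : U ⟶ V)
    (h : IsClosedMap (Points.map ((yon S).map g))) : IsClosedMap (fun t => g.left t) := by
  rw [map_left_eq g]
  exact (Points.schemeHomeo V).symm.isClosedMap.comp (h.comp (Points.schemeHomeo U).isClosedMap)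

theorem injective_of_map {U V : Over S} (g : U ⟶ V)
    (h : Function.Injective (Points.map ((yon S).map g))) : Function.Injective (fun t => g.left t) := by
  rw [map_left_eq g]
  exact (Points.schemeHomeo V).symm.injective.comp (h.comp (Points.schemeHomeo U).injective)

theorem isQuotientMap_of_map {U V : Over S} (g : U ⟶ V)
    (h : Topology.IsQuotientMap (Points.map ((yon S).map g))) :
    Topology.IsQuotientMap (fun t => g.left t) := by
  rw [map_left_eq g]
  exact (Points.schemeHomeo V).symm.isQuotientMap.comp (h.comp (Points.schemeHomeo U).isQuotientMap)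

theorem isHomeomorph_of_map {U V : Over S} (g : U ⟶ V)
    (h : IsHomeomorph (Points.map ((yon S).map g))) : IsHomeomorph (fun t => g.left t) := by
  rw [map_left_eq g]
  exact (Points.schemeHomeo V).symm.isHomeomorph.comp (h.comp (Points.schemeHomeo U).isHomeomorph)

theorem isClosedMap_map_of_repWith {P : MorphismProperty Scheme.{u}}
    (hP : ∀ ⦃X Y : Scheme.{u}⦄ (f : X ⟶ Y), P f → IsClosedMap f)
    {F G : Sp S} {f : F ⟶ G} (hf : RepWith P f) : IsClosedMap (Points.map f) :=
  isClosedMap_map_of_sq fun _ g => by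
    obtain ⟨V, fst, snd, sq⟩ := exists_sq hf.1 g
    exact ⟨V, fst, snd, sq, hP _ (hf.2 g fst snd sq)⟩

theorem injective_map_of_repWith {P : MorphismProperty Scheme.{u}}
    (hP : ∀ ⦃X Y : Scheme.{u}⦄ (f : X ⟶ Y), P f → Function.Injective f)
    {F G : Sp S} {f : F ⟶ G} (hf : RepWith P f) : Function.Injective (Points.map f) :=
  injective_map_of_sq fun _ g => by
    obtain ⟨V, fst, snd, sq⟩ := exists_sq hf.1 g
    exact ⟨V, fst, snd, sq, hP _ (hf.2 g fst snd sq)⟩

theorem isQuotientMap_map_of_repWith {P : MorphismProperty Scheme.{u}}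
    (hP : ∀ ⦃X Y : Scheme.{u}⦄ (f : X ⟶ Y), P f → Topology.IsQuotientMap f)
    {F G : Sp S} {f : F ⟶ G} (hf : RepWith P f) : Topology.IsQuotientMap (Points.map f) :=
  isQuotientMap_map_of_sq fun _ g => by
    obtain ⟨V, fst, snd, sq⟩ := exists_sq hf.1 g
    exact ⟨V, fst, snd, sq, hP _ (hf.2 g fst snd sq)⟩

theorem repWith_univOpen_iff {F G : Sp S} {f : F ⟶ G} (hf : Representable f) :
    RepWith @UniversallyOpen f ↔ IsUnivOpenMor f := by
  rw [eq_universallyOpen]
  exact repWith_iff_univSp (Q := fun _ _ k => IsOpenMap (Points.map k))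
    (fun _ _ k hk => isOpenMap_map_of_repWith (fun _ _ _ h => MorphismProperty.universally_le _ _ h) hk)
    (fun _ _ g h => isOpenMap_of_map g h) hf

theorem repWith_univClosed_iff {F G : Sp S} {f : F ⟶ G} (hf : Representable f) :
    RepWith @UniversallyClosed f ↔ IsUnivClosedMor f := by
  rw [eq_universallyClosed]
  exact repWith_iff_univSp (Q := fun _ _ k => IsClosedMap (Points.map k))
    (fun _ _ k hk => isClosedMap_map_of_repWith (fun _ _ _ h => MorphismProperty.universally_le _ _ h) hk)
    (fun _ _ g h => isClosedMap_of_map g h) hf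

theorem repWith_univInjective_iff {F G : Sp S} {f : F ⟶ G} (hf : Representable f) :
    RepWith @UniversallyInjective f ↔ IsUnivInjectiveMor f := by
  rw [eq_universallyInjective]
  exact repWith_iff_univSp (Q := fun _ _ k => Function.Injective (Points.map k))
    (fun _ _ k hk => injective_map_of_repWith (fun _ _ _ h => MorphismProperty.universally_le _ _ h) hk)
    (fun _ _ g h => injective_of_map g h) hf

theorem repWith_univSubmersive_iff {F G : Sp S} {f : F ⟶ G} (hf : Representable f) :
    RepWith SGA1.UnivSubmersive f ↔ IsUnivSubmersiveMor f :=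
  repWith_iff_univSp (Q := fun _ _ k => Topology.IsQuotientMap (Points.map k))
    (fun _ _ k hk => isQuotientMap_map_of_repWith (fun _ _ _ h => MorphismProperty.universally_le _ _ h) hk)
    (fun _ _ g h => isQuotientMap_of_map g h) hf

theorem isHomeomorph_map_of_repWith {P : MorphismProperty Scheme.{u}}
    (hP : ∀ ⦃X Y : Scheme.{u}⦄ (f : X ⟶ Y), P f → IsHomeomorph f)
    {F G : Sp S} {f : F ⟶ G} (hf : RepWith P f) : IsHomeomorph (Points.map f) :=
  ⟨Points.continuous_map f, isOpenMap_map_of_repWith (fun _ _ k h => (hP k h).isOpenMap) hf,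
    injective_map_of_repWith (fun _ _ k h => (hP k h).injective) hf,
    (isQuotientMap_map_of_repWith (fun _ _ k h => (hP k h).isQuotientMap) hf).surjective⟩

theorem repWith_univHomeo_iff {F G : Sp S} {f : F ⟶ G} (hf : Representable f) :
    RepWith FlatMor.IsUnivHomeo f ↔ IsUnivHomeoMor f :=
  repWith_iff_univSp (Q := fun _ _ k => IsHomeomorph (Points.map k))
    (fun _ _ k hk => isHomeomorph_map_of_repWith (fun _ _ _ h => MorphismProperty.universally_le _ _ h) hk)
    (fun _ _ g h => isHomeomorph_of_map g h) hf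

end Groth.Agent.AlgSpc
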