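import Groth.Agent.AlgSpc.LocP
import Groth.Agent.AlgSpc.EtLocInst
import Groth.Agent.AlgSpc.Compact
import Groth.Agent.AlgSpc.Universal
import Groth.Prelude.Def_AlgSp4

/-!
Separated, quasi-compact, universally closed and proper morphisms: elementary stability.
-/

universe u

open CategoryTheory CategoryTheory.Limits AlgebraicGeometry Opposite

set_option backward.isDefEq.respectTransparency false

namespace Groth.Agent.AlgSpc

open _root_.AlgSp

variable {S : Scheme.{u}}

theorem repWith_diagonal_comp {P : MorphismProperty Scheme.{u}} [P.IsStableUnderComposition]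
    [P.IsStableUnderBaseChange] [P.RespectsIso] {X Y Z : Sp S} {f : X ⟶ Y} {g : Y ⟶ Z}
    (hf : RepWith P (pullback.diagonal f)) (hg : RepWith P (pullback.diagonal g)) :
    RepWith P (pullback.diagonal (f ≫ g)) := by
  rw [pullback.diagonal_comp]
  refine repWith_comp hf ?_
  have hiso : ∀ {A B C : Sp S} (e : A ≅ B) {k : B ⟶ C}, RepWith P k → RepWith P (e.hom ≫ k) :=
    fun e k hk => repWith_of_isPullback (IsPullback.of_horiz_isIso (fst := e.hom) (snd := e.hom ≫ k)
      (f := k) (g := 𝟙 _) ⟨by simp⟩) hk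
  exact hiso (pullbackDiagonalMapIdIso f f g).symm (repWith_of_isPullback (IsPullback.of_hasPullback (pullback.diagonal g)
    (pullback.map (f ≫ g) (f ≫ g) g g f f (𝟙 _) (Category.comp_id _) (Category.comp_id _))).flip.flip hg)

theorem repWith_diagonal_base_change {P : MorphismProperty Scheme.{u}} [P.IsStableUnderBaseChange]
    {X Y Y' X' : Sp S} {fst : X' ⟶ X} {snd : X' ⟶ Y'} {f : X ⟶ Y} {g : Y' ⟶ Y}
    (sq : IsPullback fst snd f g) (hf : RepWith P (pullback.diagonal f)) :
    RepWith P (pullback.diagonal snd) :=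
  MorphismProperty.of_isPullback (P := (RepWith P : MorphismProperty (Sp S)).diagonal) sq hf

theorem isQuasiCompactMor_comp {X Y Z : Sp S} (hY : IsAlgSpace Y) (hZ : IsAlgSpace Z) {f : X ⟶ Y}
    {g : Y ⟶ Z} (hf : IsQuasiCompactMor f) (hg : IsQuasiCompactMor g) : IsQuasiCompactMor (f ≫ g) := by
  intro W W' hW hc h fst snd sq
  have sqg := IsPullback.of_hasPullback g h
  let l := sqg.lift (fst ≫ f) snd (by rw [Category.assoc]; exact sq.w)
  have sqf : IsPullback fst l f (pullback.fst g h) :=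
    IsPullback.of_bot (by rw [sqg.lift_snd]; exact sq) (sqg.lift_fst _ _ _).symm sqg
  exact hf (isAlgSpace_of_isPullback hY hZ hW sqg) (hg hW hc h _ _ sqg) _ _ _ sqf

theorem isQuasiCompactMor_base_change {X Y Y' X' : Sp S} {fst : X' ⟶ X} {snd : X' ⟶ Y'} {f : X ⟶ Y}
    {g : Y' ⟶ Y} (sq : IsPullback fst snd f g) (hf : IsQuasiCompactMor f) : IsQuasiCompactMor snd :=
  fun _ _ hW hc h p q sq' => hf hW hc (h ≫ g) (p ≫ fst) q (sq'.paste_horiz sq)

theorem univSp_base_change {Q : MorphismProperty (Sp S)} {X Y Y' X' : Sp S} {fst : X' ⟶ X}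
    {snd : X' ⟶ Y'} {f : X ⟶ Y} {g : Y' ⟶ Y} (sq : IsPullback fst snd f g) (hf : UnivSp Q f) :
    UnivSp Q snd :=
  fun _ _ hW h p q sq' => hf hW (h ≫ g) (p ≫ fst) q (sq'.paste_horiz sq)

theorem univSp_comp {Q : MorphismProperty (Sp S)}
    (hQ : ∀ {A B C : Sp S} (a : A ⟶ B) (b : B ⟶ C), Q a → Q b → Q (a ≫ b))
    {X Y Z : Sp S} (hY : IsAlgSpace Y) (hZ : IsAlgSpace Z) {f : X ⟶ Y} {g : Y ⟶ Z}
    (hf : UnivSp Q f) (hg : UnivSp Q g) : UnivSp Q (f ≫ g) := by
  intro W W' hW h fst snd sq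
  have sqg := IsPullback.of_hasPullback g h
  let l := sqg.lift (fst ≫ f) snd (by rw [Category.assoc]; exact sq.w)
  have sqf : IsPullback fst l f (pullback.fst g h) :=
    IsPullback.of_bot (by rw [sqg.lift_snd]; exact sq) (sqg.lift_fst _ _ _).symm sqg
  rw [← show l ≫ pullback.snd g h = snd from sqg.lift_snd _ _ _]
  exact hQ _ _ (hf (isAlgSpace_of_isPullback hY hZ hW sqg) _ _ _ sqf) (hg hW h _ _ sqg)

theorem isClosedMor_comp {A B C : Sp S} (a : A ⟶ B) (b : B ⟶ C) (ha : IsClosedMor a)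
    (hb : IsClosedMor b) : IsClosedMor (a ≫ b) := by
  change IsClosedMap (Points.map (a ≫ b))
  rw [show Points.map (a ≫ b) = Points.map b ∘ Points.map a from funext (Points.map_comp a b)]
  exact hb.comp ha

theorem isSeparatedMor_of_repWith_closedImmersion {X Y : Sp S} {f : X ⟶ Y}
    (hf : RepWith @IsClosedImmersion f) : IsSeparatedMor f := by
  have : Mono f := mono_of_repWith (fun _ _ g (hg : IsClosedImmersion g) => inferInstance) hf
  exact repWith_iso (pullback.diagonal f)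

theorem isProperMor_of_repWith_closedImmersion {X Y : Sp S} {f : X ⟶ Y}
    (hf : RepWith @IsClosedImmersion f) : IsProperMor f :=
  ⟨isSeparatedMor_of_repWith_closedImmersion hf,
    ⟨locP_of_repWith (fun e g he hg => EtLoc.precomp e g he hg)
      (repWith_mono (Q := @LocallyOfFiniteType) (fun _ _ g (hg : IsClosedImmersion g) => inferInstance) hf),
      isQuasiCompactMor_of_repWith
        (repWith_mono (Q := @QuasiCompact) (fun _ _ g (hg : IsClosedImmersion g) => inferInstance) hf)⟩,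
    fun _ _ _ _ _ _ sq => isClosedMap_map_of_repWith
      (fun _ _ g (hg : IsClosedImmersion g) => g.isClosedEmbedding.isClosedMap) (repWith_of_isPullback sq hf)⟩

theorem isProperMor_comp {X Y Z : Sp S} (hX : IsAlgSpace X) (hY : IsAlgSpace Y) (hZ : IsAlgSpace Z)
    {f : X ⟶ Y} {g : Y ⟶ Z} (hf : IsProperMor f) (hg : IsProperMor g) : IsProperMor (f ≫ g) :=
  ⟨repWith_diagonal_comp hf.1 hg.1,
    ⟨locP_comp hX hY hZ hf.2.1.1 hg.2.1.1, isQuasiCompactMor_comp hY hZ hf.2.1.2 hg.2.1.2⟩,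
    univSp_comp isClosedMor_comp hY hZ hf.2.2 hg.2.2⟩

theorem isProperMor_base_change {X Y Y' X' : Sp S} (hX : IsAlgSpace X) (hY : IsAlgSpace Y)
    (hY' : IsAlgSpace Y') {fst : X' ⟶ X} {snd : X' ⟶ Y'} {f : X ⟶ Y} {g : Y' ⟶ Y}
    (sq : IsPullback fst snd f g) (hf : IsProperMor f) : IsProperMor snd :=
  ⟨repWith_diagonal_base_change sq hf.1,
    ⟨locP_base_change hX hY hY' sq hf.2.1.1, isQuasiCompactMor_base_change sq hf.2.1.2⟩,
    univSp_base_change sq hf.2.2⟩

theorem isQuasiCompactMor_of_comp {X Y Z : Sp S} (hX : IsAlgSpace X) (hY : IsAlgSpace Y) (hZ : IsAlgSpace Z)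
    {f : X ⟶ Y} {g : Y ⟶ Z} (h : IsQuasiCompactMor (f ≫ g)) (hg : IsQuasiSeparatedMor g) :
    IsQuasiCompactMor f := by
  have hg' : IsQuasiCompactMor (pullback.diagonal g) := isQuasiCompactMor_of_repWith hg
  let gr : X ⟶ pullback (f ≫ g) g := pullback.lift (𝟙 X) f (by simp)
  rw [show f = gr ≫ pullback.snd _ _ by simp [gr]]
  exact isQuasiCompactMor_comp (isAlgSpace_of_isPullback hX hZ hY (IsPullback.of_hasPullback _ _)) hY
    (isQuasiCompactMor_base_change (pullback_lift_diagonal_isPullback f g) hg')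
    (isQuasiCompactMor_base_change (IsPullback.of_hasPullback _ _) h)

end Groth.Agent.AlgSpc
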