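import Groth.Agent.AlgSpc.SepLQFCore
import Groth.Agent.AlgSpc.EtLocInst
import Groth.Agent.AlgSpc.SepProper
import Groth.Agent.AlgSpc.LocP

/-!
Algebraic spaces separated and locally quasi-finite over a scheme are schemes.
-/

set_option autoImplicit false
set_option linter.style.haveILetI false
set_option backward.isDefEq.respectTransparency false

universe u

open CategoryTheory CategoryTheory.Limits AlgebraicGeometry Opposite

namespace Groth.Agent.AlgSpc.SepLQF

open _root_.AlgSp Groth.Agent.AlgSpc Groth.Agent.AlgSpLoc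

variable {S : Scheme.{u}}

theorem exists_yon_iso_of_lqf_separated {X : Sp S} {T : Over S} (hX : IsAlgSpace X) (f : X ⟶ (yon S).obj T)
    (hqf : LocP (@LocallyQuasiFinite ⊓ @LocallyOfFiniteType) f) (hsep : IsSeparatedMor f) :
    ∃ W : Over S, Nonempty ((yon S).obj W ≅ X) := by
  obtain ⟨U₀, p₀, hp₀, hp₀s⟩ := hX.atlas
  let h : U₀ ⟶ T := pre (p₀ ≫ f)
  suffices key : ∀ w : ↥U₀.left, ∃ (V : Over S) (ev : (yon S).obj V ⟶ X),
      RepWith @IsOpenImmersion ev ∧ Points.ofPt p₀ w ∈ Set.range (Points.ofPt ev) by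
    choose V ev hev hx using key
    exact exists_yon_iso_of_open_cover (V := V) (e := ev) (fun x => hev x) (fun x => by
      obtain ⟨w, rfl⟩ := surjective_ofPt hp₀s x
      exact ⟨w, hx w⟩)
  intro w
  obtain ⟨_, ⟨T₁, hT₁, rfl⟩, htT, -⟩ := T.left.isBasis_affineOpens.exists_subset_of_mem_open
    (Set.mem_univ (h.left w)) isOpen_univ
  obtain ⟨_, ⟨A₁, hA₁, rfl⟩, hwA, hAT : A₁ ≤ h.left ⁻¹ᵁ T₁⟩ := U₀.left.isBasis_affineOpens.exists_subset_of_mem_open
    (show w ∈ h.left ⁻¹ᵁ T₁ from htT) (h.left ⁻¹ᵁ T₁).isOpen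
  let T₀ := openSub T T₁
  let j := openSubι T T₁
  let A := openSub U₀ A₁
  let ja := openSubι U₀ A₁
  haveI : IsAffine T₀.left := hT₁
  haveI : IsAffine A.left := hA₁
  obtain ⟨u, hu⟩ := exists_openSub_lift T₁ (ja ≫ h) fun z => hAT ((range_openSubι U₀ A₁).le ⟨z, rfl⟩)
  let a : (yon S).obj A ⟶ X := (yon S).map ja ≫ p₀
  have hja : Etale ja.left := by dsimp [ja]; infer_instance
  have hjE : Etale j.left := by dsimp [j]; infer_instance
  have ha : RepWith @Etale a := repWith_comp ((repWith_yon_map_iff _ ja).2 hja) hp₀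
  have hja' : a ≫ f = (yon S).map u ≫ (yon S).map j := by
    rw [← Functor.map_comp, hu, Functor.map_comp]; simp [a, h]
  let O : Set (Points X) := Set.range (Points.ofPt a)
  have hO : IsOpen O := by simpa [O, Set.image_univ] using isOpenMap_ofPt ha Set.univ isOpen_univ
  let ι := ptsIncl X O
  have hι : RepWith @IsOpenImmersion ι := repWith_ptsIncl hO
  obtain ⟨p, hp⟩ := (exists_ptsIncl_iff O a).2 fun z => ⟨z, rfl⟩
  have sqp : IsPullback (𝟙 _) p a ι := IsPullback.of_horiz_isIso_mono ⟨by simp [ι, hp]⟩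
  have hpE : RepWith @Etale p := repWith_of_isPullback sqp ha
  have hpS : RepWith @Surjective p := by
    refine (repWith_surjective_iff hpE.1).2 fun y => ?_
    obtain ⟨z, hz⟩ := (range_ptsIncl X O).le ⟨y, rfl⟩
    obtain ⟨v, -, hv⟩ := exists_point_of_isPullback sqp (Points.ofScheme A z) y (by
      rw [← Points.ofPt_eq_map_ofScheme]; exact hz)
    exact ⟨v, hv⟩
  haveI : Mono ((yon S).map j) :=
    mono_of_repWith (P := @IsOpenImmersion) (fun _ _ k (hk : IsOpenImmersion k) => inferInstance)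
      ((repWith_yon_map_iff _ _).2 (inferInstanceAs (IsOpenImmersion (Scheme.Opens.ι T₁))))
  obtain ⟨f₀, hf₀⟩ : ∃ f₀, f₀ ≫ (yon S).map j = ι ≫ f := by
    refine (exists_factor_iff ((repWith_yon_map_iff _ _).2 (inferInstanceAs (IsOpenImmersion (Scheme.Opens.ι T₁)))) _).2 ?_
    rintro _ ⟨y, rfl⟩
    obtain ⟨z, hz⟩ := (range_ptsIncl X O).le ⟨y, rfl⟩
    rw [Points.map_comp, ← hz, Points.map_ofPt, hja', ← Functor.map_comp, AlgSpc.ofPt_pre, pre_map,
      Over.comp_left, Scheme.Hom.comp_apply]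
    exact ⟨Points.ofScheme _ (u.left z), by rw [← Points.ofPt_eq_map_ofScheme, AlgSpc.ofPt_pre, pre_map]⟩
  have hu' : (yon S).map u = p ≫ f₀ := by
    rw [← cancel_mono ((yon S).map j), Category.assoc, hf₀, ← Category.assoc, show p ≫ ι = a from hp, hja']
  obtain ⟨R, fst, r₂, sqa⟩ := exists_sq ha.1 a
  let r₁ : R ⟶ A := pre fst
  have sqR : IsPullback ((yon S).map r₁) ((yon S).map r₂) p p := by
    refine isPullback_of_mono ι ?_
    rw [map_pre, show p ≫ ι = a from hp]
    exact sqa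
  haveI : Etale r₂.left := hpE.2 p _ r₂ sqR
  haveI : Etale r₁.left := hpE.2 p _ r₁ sqR.flip
  obtain ⟨hq, hl⟩ := hqf a ((yon S).map j) u ha ((repWith_yon_map_iff _ j).2 hjE) hja'
  haveI : LocallyQuasiFinite u.left := hq
  haveI : LocallyOfFiniteType u.left := hl
  let lR : R ⟶ pullback u u := pullback.lift r₁ r₂ ((yon S).map_injective (by simp [hu', reassoc_of% sqR.w]))
  have hl₁ : lR ≫ pullback.fst u u = r₁ := pullback.lift_fst _ _ _
  have hl₂ : lR ≫ pullback.snd u u = r₂ := pullback.lift_snd _ _ _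
  have hQ := (IsPullback.of_hasPullback u u).map (yon S)
  haveI : Mono lR := ⟨fun {Z} x y e => (yon S).map_injective (sqR.hom_ext
    (by rw [← Functor.map_comp, ← Functor.map_comp, ← hl₁, reassoc_of% e])
    (by rw [← Functor.map_comp, ← Functor.map_comp, ← hl₂, reassoc_of% e]))⟩
  let ξ : (yon S).obj (pullback u u) ⟶ pullback f f :=
    pullback.lift ((yon S).map (pullback.fst u u) ≫ a) ((yon S).map (pullback.snd u u) ≫ a) (by
      simp only [Category.assoc, hja', ← Functor.map_comp]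
      rw [pullback.condition_assoc])
  have wl : ((yon S).map r₁ ≫ a) ≫ pullback.diagonal f = (yon S).map lR ≫ ξ := by
    apply pullback.hom_ext
    · simp only [ξ, Category.assoc, pullback.diagonal_fst, Category.comp_id, pullback.lift_fst,
        ← Functor.map_comp_assoc, hl₁]
    · simp only [ξ, Category.assoc, pullback.diagonal_snd, Category.comp_id, pullback.lift_snd,
        ← Functor.map_comp_assoc, hl₂]
      rw [map_pre]; exact sqa.w
  have hlift : ∀ x : PullbackCone (pullback.diagonal f) ξ, ∃ n, n ≫ (yon S).map r₁ ≫ a = x.fst ∧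
      n ≫ (yon S).map lR = x.snd := fun x => by
    have e₁ : (x.snd ≫ (yon S).map (pullback.fst u u)) ≫ a = x.fst := by
      simpa [ξ] using congrArg (· ≫ pullback.fst f f) x.condition.symm
    have e₂ : (x.snd ≫ (yon S).map (pullback.snd u u)) ≫ a = x.fst := by
      simpa [ξ] using congrArg (· ≫ pullback.snd f f) x.condition.symm
    refine ⟨sqa.lift _ _ (e₁.trans e₂.symm), ?_, hQ.hom_ext ?_ ?_⟩
    · rw [map_pre, sqa.lift_fst_assoc, e₁]
    · rw [Category.assoc, ← Functor.map_comp, hl₁, map_pre, sqa.lift_fst]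
    · rw [Category.assoc, ← Functor.map_comp, hl₂, sqa.lift_snd]
  choose n hn₁ hn₂ using hlift
  have sql : IsPullback ((yon S).map r₁ ≫ a) ((yon S).map lR) (pullback.diagonal f) ξ :=
    IsPullback.of_isLimit' ⟨wl⟩ (PullbackCone.IsLimit.mk _ n hn₁ hn₂
      fun x k _ hk => (cancel_mono ((yon S).map lR)).1 (hk.trans (hn₂ x).symm))
  haveI : IsClosedImmersion lR.left := hsep.2 _ _ lR sql
  haveI : IsAffine (pullback u u).left :=
    IsAffine.of_isPullback (FppfDescent.isPullback_forget (IsPullback.of_hasPullback u u))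
  haveI : IsAffine R.left := isAffine_of_isAffineHom lR.left
  obtain ⟨V, ev, hev, hx⟩ := exists_scheme_nbhd hpE hpS hu' sqR lR hl₁ hl₂ (⟨w, hwA⟩ : (A₁ : Scheme.{u}))
  refine ⟨V, ev ≫ ι, repWith_comp hev hι, ?_⟩
  obtain ⟨v, hv⟩ := hx
  refine ⟨v, ?_⟩
  rw [← Points.map_ofPt, hv, Points.map_ofPt, show p ≫ ι = a from hp]
  exact ofPt_comp ja p₀ _

theorem isRepresentable_of_lqf_separated {X : Sp S} {T : Over S} (hX : IsAlgSpace X) (f : X ⟶ (yon S).obj T)
    (hqf : LocP (@LocallyQuasiFinite ⊓ @LocallyOfFiniteType) f) (hsep : IsSeparatedMor f) :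
    X.obj.IsRepresentable := by
  obtain ⟨W, ⟨φ⟩⟩ := exists_yon_iso_of_lqf_separated hX f hqf hsep
  exact (representableByOfIso φ).isRepresentable

/-- Separated locally quasi-finite morphisms of algebraic spaces are representable. -/
theorem representable_of_lqf_separated {X Y : Sp S} (hX : IsAlgSpace X) (hY : IsAlgSpace Y) (f : X ⟶ Y)
    (hqf : LocP (@LocallyQuasiFinite ⊓ @LocallyOfFiniteType) f) (hsep : IsSeparatedMor f) :
    Representable f := by
  intro T g
  have sq := IsPullback.of_hasPullback f g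
  obtain ⟨W, ⟨φ⟩⟩ := exists_yon_iso_of_lqf_separated
    (isAlgSpace_pullback_of_diag hY.diag hX (IsAlgSpace.yon_obj T) sq) (pullback.snd f g)
    (locP_base_change hX hY (IsAlgSpace.yon_obj T) sq hqf) (repWith_diagonal_base_change sq hsep)
  refine ⟨W, pre (φ.hom ≫ pullback.snd f g), φ.hom ≫ pullback.fst f g,
    IsPullback.of_iso_pullback ⟨?_⟩ φ rfl (map_pre _).symm⟩
  rw [map_pre, Category.assoc, Category.assoc, pullback.condition]

end Groth.Agent.AlgSpc.SepLQF
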