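import Groth.Agent.AlgSpc.FppfGlue
import Groth.Agent.SiteBase.SetExact
import Groth.Prelude.Def_QuotSh
import Mathlib.CategoryTheory.Sites.EpiMono

/-!
Quotient sheaves of equivalence relations of schemes: kernel pair and local lifting of sections.
-/

set_option autoImplicit false
set_option linter.style.haveILetI false
set_option backward.isDefEq.respectTransparency false

universe u

open CategoryTheory CategoryTheory.Limits AlgebraicGeometry Opposite

namespace Groth.Agent.AlgSpc

open _root_.AlgSp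

variable {S : Scheme.{u}}

set_option maxHeartbeats 1600000 in
/-- A section of the target of a locally surjective map lifts after one fppf surjective base change. -/
theorem exists_fppf_lift {U : Over S} {F : Sp S} (q : (yon S).obj U ⟶ F) [hq : Sheaf.IsLocallySurjective q]
    {T : Over S} (g : (yon S).obj T ⟶ F) :
    ∃ (T' : Over S) (c : T' ⟶ T) (u : T' ⟶ U), Flat c.left ∧ LocallyOfFinitePresentation c.left ∧
      Surjective c.left ∧ (yon S).map c ≫ g = (yon S).map u ≫ q := by
  obtain ⟨s, rfl⟩ := (J S).uliftYonedaEquiv.{u + 1}.symm.surjective g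
  have hR : Presheaf.imageSieve ((sheafToPresheaf _ _).map q) s ∈ J S T :=
    hq.imageSieve_mem s
  rw [J_eq, GrothendieckTopology.mem_over_iff] at hR
  haveI : Scheme.fppfPrecoverage.{u}.HasIsos := by
    haveI : (@Flat ⊓ @LocallyOfFinitePresentation : MorphismProperty Scheme.{u}).ContainsIdentities :=
      ⟨fun _ => ⟨inferInstance, inferInstance⟩⟩
    change (Scheme.precoverage (@Flat ⊓ @LocallyOfFinitePresentation)).HasIsos
    infer_instance
  obtain ⟨P, hP, hle⟩ := (Precoverage.mem_toGrothendieck_iff_of_isStableUnderComposition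
    (J := Scheme.fppfPrecoverage)).1 hR
  obtain ⟨ι, Z, f, rfl⟩ := Presieve.exists_eq_ofArrows P
  obtain ⟨hsurj, hprop⟩ := (Scheme.ofArrows_mem_precoverage_iff _).1 hP
  choose i z hz using hsurj
  have : ∀ x : ↥T.left, ∃ a : Over.mk (f (i x) ≫ T.hom) ⟶ U,
      (yon S).map a ≫ q = (yon S).map (Over.homMk (f (i x)) rfl : Over.mk (f (i x) ≫ T.hom) ⟶ T) ≫
        (J S).uliftYonedaEquiv.symm s := by
    intro x
    have h := hle _ _ (Presieve.ofArrows.mk (i x))
    rw [Sieve.overEquiv_iff] at h
    obtain ⟨v, hv⟩ := h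
    refine ⟨pre ((J S).uliftYonedaEquiv.symm v), (J S).uliftYonedaEquiv.injective ?_⟩
    rw [map_pre, GrothendieckTopology.uliftYonedaEquiv_comp, Equiv.apply_symm_apply,
      ← GrothendieckTopology.uliftYonedaEquiv_naturality, Equiv.apply_symm_apply]
    exact hv
  choose a ha using this
  let φ : (∐ fun x => Z (i x)) ⟶ T.left := Sigma.desc fun x => f (i x)
  let T' : Over S := Over.mk (φ ≫ T.hom)
  let c : T' ⟶ T := Over.homMk φ rfl
  let u : T' ⟶ U := Over.homMk (Sigma.desc fun x => (a x).left) (by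
    refine Sigma.hom_ext _ _ fun x => ?_
    rw [Sigma.ι_desc_assoc]
    refine (Over.w (a x)).trans ?_
    change f (i x) ≫ T.hom = Sigma.ι (fun x => Z (i x)) x ≫ φ ≫ T.hom
    rw [← Category.assoc, Sigma.ι_desc])
  let j : ∀ x, Z (i x) ⟶ T'.left := fun x => Sigma.ι (fun x => Z (i x)) x
  have hj : ∀ x, j x ≫ φ = f (i x) := fun x => Sigma.ι_desc _ _
  haveI : ∀ x, IsOpenImmersion (j x) := fun x => (inferInstance : IsOpenImmersion (Sigma.ι (fun x => Z (i x)) x))
  let ι' : ∀ x, Over.mk (f (i x) ≫ T.hom) ⟶ T' := fun x => Over.homMk (j x) (by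
    change j x ≫ φ ≫ T.hom = f (i x) ≫ T.hom
    rw [← Category.assoc, hj])
  refine ⟨T', c, u, IsZariskiLocalAtSource.sigmaDesc fun x => (hprop _).1,
    IsZariskiLocalAtSource.sigmaDesc fun x => (hprop _).2, ⟨fun x => ⟨j x (z x), ?_⟩⟩, ?_⟩
  · change φ (j x (z x)) = x
    erw [← Scheme.Hom.comp_apply, hj]
    exact hz x
  refine AlgSpLoc.hom_ext_of_openCover (fun x => Over.mk (f (i x) ≫ T.hom)) ι'
    (fun x => inferInstanceAs (IsOpenImmersion (j x)))
    (fun t => ?_) fun x => ?_
  · obtain ⟨x, y, hy⟩ := (sigmaOpenCover fun x => Z (i x)).exists_eq t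
    exact ⟨x, y, hy⟩
  · rw [← Functor.map_comp_assoc, ← Functor.map_comp_assoc]
    convert! (ha x).symm using 3
    · ext; exact hj x
    · ext; exact Sigma.ι_desc _ _

/-- The map from a scheme to the quotient sheaf. -/
noncomputable def quotMap {R U : Over S} (s t : R ⟶ U) :
    (yon S).obj U ⟶ QuotSh.quot Scheme.fppfPrecoverage s t :=
  (QuotSh.repIsoUliftYoneda Scheme.fppfPrecoverage U).inv ≫ QuotSh.quotπ Scheme.fppfPrecoverage s t

theorem repIso_inv_naturality {R U : Over S} (s : R ⟶ U) :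
    (yon S).map s ≫ (QuotSh.repIsoUliftYoneda Scheme.fppfPrecoverage U).inv =
      (QuotSh.repIsoUliftYoneda Scheme.fppfPrecoverage R).inv ≫ QuotSh.repMap Scheme.fppfPrecoverage s := by
  rw [Iso.comp_inv_eq, Category.assoc, eq_comm, Iso.inv_comp_eq]
  exact (sheafificationNatIso (J S) (Type (u + 1))).inv.naturality
    ((yon S).map s)

theorem quotMap_w {R U : Over S} (s t : R ⟶ U) :
    (yon S).map t ≫ quotMap s t = (yon S).map s ≫ quotMap s t := by
  simp only [quotMap, ← Category.assoc, repIso_inv_naturality]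
  simp only [Category.assoc]
  congr 1
  exact (QuotSh.quot_condition _ s t).symm

instance epi_quotMap {R U : Over S} (s t : R ⟶ U) : Epi (quotMap s t) := by
  haveI : Epi (QuotSh.quotπ Scheme.fppfPrecoverage s t) :=
    inferInstanceAs (Epi (coequalizer.π _ _))
  exact epi_comp _ _

instance isLocallySurjective_quotMap {R U : Over S} (s t : R ⟶ U) :
    Sheaf.IsLocallySurjective (quotMap s t) :=
  (Sheaf.isLocallySurjective_iff_epi' _ _).2 inferInstance

/-- Equivalence relations are effective. -/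
theorem isPullback_quotMap {R U : Over S} {s t : R ⟶ U} (h : IsEqvRel s t) :
    IsPullback ((yon S).map t) ((yon S).map s) (quotMap s t) (quotMap s t) := by
  have hjm : ∀ (Z : Sp S) (a b : Z ⟶ (yon S).obj R), a ≫ (yon S).map t = b ≫ (yon S).map t →
      a ≫ (yon S).map s = b ≫ (yon S).map s → a = b := fun Z a b h₁ h₂ =>
    AlgSpc.hom_ext fun T z => by
      rw [← map_pre (z ≫ a), ← map_pre (z ≫ b)]
      congr 1
      refine h.injective T _ _ ((yon S).map_injective ?_) ((yon S).map_injective ?_) <;> simp [h₁, h₂]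
  obtain ⟨r, hr₁, hr₂⟩ := (h.equivalence U).refl (𝟙 U)
  obtain ⟨σ, hσ₁, hσ₂⟩ := (h.equivalence R).symm ⟨𝟙 R, Category.id_comp t, Category.id_comp s⟩
  have hP := IsPullback.of_hasPullback s t
  obtain ⟨τ, hτ₁, hτ₂⟩ := (h.equivalence (pullback s t)).trans
    (x := pullback.fst s t ≫ t) (y := pullback.fst s t ≫ s) (z := pullback.snd s t ≫ s)
    ⟨_, rfl, rfl⟩ ⟨pullback.snd s t, pullback.condition.symm, rfl⟩
  let e : EquivalenceRelation ((yon S).map t) ((yon S).map s) :=
    { right_cancellation := fun {Z} a b h₁ h₂ => hjm Z a b h₁ h₂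
      r := (yon S).map r
      reflexivity₁ := by rw [← Functor.map_comp, hr₁, CategoryTheory.Functor.map_id]
      reflexivity₂ := by rw [← Functor.map_comp, hr₂, CategoryTheory.Functor.map_id]
      s := (yon S).map σ
      symmetry₁ := by rw [← Functor.map_comp, hσ₁]
      symmetry₂ := by rw [← Functor.map_comp, hσ₂]
      c := (hP.map (yon S)).cone
      isLimit := (hP.map (yon S)).isLimit
      t := (yon S).map τ
      transitivity₁ := by change _ = (yon S).map (pullback.fst s t) ≫ _; rw [← Functor.map_comp, ← Functor.map_comp, hτ₁]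
      transitivity₂ := by change _ = (yon S).map (pullback.snd s t) ≫ _; rw [← Functor.map_comp, ← Functor.map_comp, hτ₂] }
  obtain ⟨e'⟩ := SiteBase.sheaf_effectiveEquivalenceRelation e
  let I := QuotSh.repIsoUliftYoneda (S := S) Scheme.fppfPrecoverage
  have hnat : ∀ f : R ⟶ U, QuotSh.repMap Scheme.fppfPrecoverage f ≫ (I U).hom = (I R).hom ≫ (yon S).map f := fun f => by
    rw [← Iso.eq_comp_inv, Category.assoc, repIso_inv_naturality, ← Category.assoc, (I R).hom_inv_id, Category.id_comp]
  obtain ⟨ψ, hψ⟩ : ∃ ψ, quotMap s t ≫ ψ = e'.π := by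
    refine ⟨coequalizer.desc ((I U).hom ≫ e'.π) ?_, ?_⟩
    · rw [← Category.assoc, ← Category.assoc, hnat, hnat, Category.assoc, Category.assoc, e'.isKernelPair.w]
    · dsimp only [quotMap, QuotSh.quotπ]
      rw [Category.assoc, coequalizer.π_desc]
      exact (I U).inv_hom_id_assoc _
  refine IsPullback.of_isLimit' ⟨quotMap_w s t⟩ (PullbackCone.IsLimit.mk _
    (fun x => e'.isKernelPair.lift x.fst x.snd ?_) ?_ ?_ ?_)
  · rw [← hψ, ← Category.assoc, x.condition, Category.assoc]
  · exact fun x => e'.isKernelPair.lift_fst _ _ _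
  · exact fun x => e'.isKernelPair.lift_snd _ _ _
  · intro x m h₁ h₂
    exact e'.isKernelPair.hom_ext (by rw [h₁, e'.isKernelPair.lift_fst]) (by rw [h₂, e'.isKernelPair.lift_snd])

end Groth.Agent.AlgSpc
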