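import Groth.Agent.AlgSpc.EtQuotBase

/-!
A sheaf with an etale equivalence relation presentation is an algebraic space.
-/

set_option autoImplicit false
set_option linter.style.haveILetI false
set_option backward.isDefEq.respectTransparency false

universe u

open CategoryTheory CategoryTheory.Limits AlgebraicGeometry Opposite

namespace Groth.Agent.AlgSpc

open _root_.AlgSp

variable {S : Scheme.{u}}

/-- The structure map as a morphism over the base. -/
def toBase (T : Over S) : T ⟶ Over.mk (𝟙 S) := Over.homMk T.hom (Category.comp_id _)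

theorem toBase_unique {T : Over S} (a b : T ⟶ Over.mk (𝟙 S)) : a = b := by
  ext : 1
  have ha := Over.w a
  have hb := Over.w b
  dsimp at ha hb
  rw [Category.comp_id] at ha hb
  rw [ha, hb]

theorem yon_toBase_unique {Z : Sp S} (a b : Z ⟶ (yon S).obj (Over.mk (𝟙 S))) : a = b :=
  hom_ext fun T z => by rw [← map_pre (z ≫ a), ← map_pre (z ≫ b), toBase_unique (pre (z ≫ a)) (pre (z ≫ b))]

/-- The map of products over the base is a composition of base changes. -/
theorem pullback_map_prop (P : MorphismProperty Scheme.{u}) [P.IsStableUnderBaseChange]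
    [P.IsStableUnderComposition] {A A' B B' C : Over S} (a : A ⟶ C) (b : B ⟶ C) (a' : A' ⟶ A)
    (b' : B' ⟶ B) (ha : P a'.left) (hb : P b'.left) :
    P (pullback.map (a' ≫ a) (b' ≫ b) a b a' b' (𝟙 C) (by simp) (by simp)).left := by
  let m₁ : pullback (a' ≫ a) (b' ≫ b) ⟶ pullback a (b' ≫ b) :=
    pullback.map (a' ≫ a) (b' ≫ b) a (b' ≫ b) a' (𝟙 _) (𝟙 C) (by simp) (by simp)
  let m₂ : pullback a (b' ≫ b) ⟶ pullback a b :=
    pullback.map a (b' ≫ b) a b (𝟙 _) b' (𝟙 C) (by simp) (by simp)
  have s₁ : IsPullback (pullback.fst (a' ≫ a) (b' ≫ b)) m₁ a' (pullback.fst a (b' ≫ b)) := by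
    refine (IsPullback.of_bot (h₃₁ := b' ≫ b) (v₂₁ := pullback.snd a (b' ≫ b)) (v₂₂ := a) ?_ ?_
      ((IsPullback.of_hasPullback a (b' ≫ b))))
    · simpa [m₁] using IsPullback.of_hasPullback (a' ≫ a) (b' ≫ b)
    · simp [m₁]
  have s₂ : IsPullback (pullback.snd a (b' ≫ b)) m₂ b' (pullback.snd a b) := by
    refine (IsPullback.of_bot (h₃₁ := a) (v₂₁ := pullback.fst a b) ?_ ?_
      ((IsPullback.of_hasPullback a b).flip))
    · simpa [m₂] using (IsPullback.of_hasPullback a (b' ≫ b)).flip
    · simp [m₂]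
  have e : pullback.map (a' ≫ a) (b' ≫ b) a b a' b' (𝟙 C) (by simp) (by simp) = m₁ ≫ m₂ := by
    ext1 <;> simp [m₁, m₂]
  rw [e, Over.comp_left]
  exact P.comp_mem _ _ (MorphismProperty.of_isPullback (s₁.map (Over.forget S)) ha)
    (MorphismProperty.of_isPullback (s₂.map (Over.forget S)) hb)

/-- Fibre products over a sheaf with an etale equivalence relation as kernel pair are schemes. -/
theorem exists_pullback_of_lifts {U R : Over S} {F : Sp S} {q : (yon S).obj U ⟶ F} {r₁ r₂ : R ⟶ U}
    (sqR : IsPullback ((yon S).map r₁) ((yon S).map r₂) q q) [LocallyOfFiniteType r₁.left]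
    {T T' : Over S} (g : (yon S).obj T ⟶ F) (g' : (yon S).obj T' ⟶ F)
    {T₁ T₁' : Over S} (c : T₁ ⟶ T) (c' : T₁' ⟶ T') [Flat c.left] [LocallyOfFinitePresentation c.left]
    [Surjective c.left] [Flat c'.left] [LocallyOfFinitePresentation c'.left] [Surjective c'.left]
    (u : T₁ ⟶ U) (u' : T₁' ⟶ U) (hu : (yon S).map c ≫ g = (yon S).map u ≫ q)
    (hu' : (yon S).map c' ≫ g' = (yon S).map u' ≫ q) :
    ∃ (V : Over S) (fst : (yon S).obj V ⟶ (yon S).obj T) (snd : V ⟶ T'),
      IsPullback fst ((yon S).map snd) g g' := by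
  let Q := pullback (toBase T) (toBase T')
  have hQ := (IsPullback.of_hasPullback (toBase T) (toBase T')).map (yon S)
  let Q₁ := pullback (c ≫ toBase T) (c' ≫ toBase T')
  have hQ₁ := (IsPullback.of_hasPullback (c ≫ toBase T) (c' ≫ toBase T')).map (yon S)
  let QU := pullback (toBase U) (toBase U)
  have hQU := (IsPullback.of_hasPullback (toBase U) (toBase U)).map (yon S)
  let e : Q₁ ⟶ Q :=
    pullback.map (c ≫ toBase T) (c' ≫ toBase T') (toBase T) (toBase T') c c' (𝟙 _) (by simp) (by simp)
  haveI : Flat e.left := pullback_map_prop @Flat _ _ c c' ‹_› ‹_›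
  haveI : LocallyOfFinitePresentation e.left := pullback_map_prop @LocallyOfFinitePresentation _ _ c c' ‹_› ‹_›
  haveI : Surjective e.left := pullback_map_prop @Surjective _ _ c c' ‹_› ‹_›
  let l : R ⟶ QU := pullback.lift r₁ r₂ (toBase_unique _ _)
  let m : Q₁ ⟶ QU := pullback.lift (pullback.fst (c ≫ toBase T) (c' ≫ toBase T') ≫ u)
    (pullback.snd (c ≫ toBase T) (c' ≫ toBase T') ≫ u') (toBase_unique _ _)
  haveI : Mono l := ⟨fun {Z} a b h => by
    have h₁ := congrArg (· ≫ pullback.fst (toBase U) (toBase U)) h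
    have h₂ := congrArg (· ≫ pullback.snd (toBase U) (toBase U)) h
    simp only [l, Category.assoc, pullback.lift_fst, pullback.lift_snd] at h₁ h₂
    exact (yon S).map_injective (sqR.hom_ext (by rw [← Functor.map_comp, h₁, Functor.map_comp])
      (by rw [← Functor.map_comp, h₂, Functor.map_comp]))⟩
  haveI : Mono l.left := inferInstanceAs (Mono ((Over.forget S).map l))
  haveI : LocallyOfFiniteType l.left := by
    haveI : LocallyOfFiniteType (l.left ≫ (pullback.fst (toBase U) (toBase U)).left) := by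
      rw [← Over.comp_left, pullback.lift_fst]; infer_instance
    exact locallyOfFiniteType_of_comp l.left (pullback.fst (toBase U) (toBase U)).left
  haveI : LocallyQuasiFinite l.left := LocallyQuasiFinite.of_injective l.left.injective
  haveI : IsSeparated l.left := inferInstance
  let W := pullback l m
  let wR : W ⟶ R := pullback.fst l m
  let fW : W ⟶ Q₁ := pullback.snd l m
  have hsW := FppfDescent.isPullback_forget (IsPullback.of_hasPullback l m)
  haveI : LocallyOfFiniteType fW.left := MorphismProperty.of_isPullback (P := @LocallyOfFiniteType) hsW ‹_›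
  haveI : LocallyQuasiFinite fW.left := MorphismProperty.of_isPullback (P := @LocallyQuasiFinite) hsW ‹_›
  haveI : IsSeparated fW.left := MorphismProperty.of_isPullback (P := @IsSeparated) hsW ‹_›
  haveI : Mono fW := inferInstanceAs (Mono (pullback.snd l m))
  let w₁ : W ⟶ T₁ := fW ≫ pullback.fst (c ≫ toBase T) (c' ≫ toBase T')
  let w₂ : W ⟶ T₁' := fW ≫ pullback.snd (c ≫ toBase T) (c' ≫ toBase T')
  have hw₁ : w₁ ≫ u = wR ≫ r₁ := by
    have := congrArg (· ≫ pullback.fst (toBase U) (toBase U)) (pullback.condition (f := l) (g := m))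
    simpa [w₁, fW, wR, l, m, Category.assoc] using this.symm
  have hw₂ : w₂ ≫ u' = wR ≫ r₂ := by
    have := congrArg (· ≫ pullback.snd (toBase U) (toBase U)) (pullback.condition (f := l) (g := m))
    simpa [w₂, fW, wR, l, m, Category.assoc] using this.symm
  let D := pullback g g'
  let p₁ := pullback.fst g g'
  let p₂ := pullback.snd g g'
  let f₀ : D ⟶ (yon S).obj Q := hQ.lift p₁ p₂ (yon_toBase_unique _ _)
  have hf₁ : f₀ ≫ (yon S).map (pullback.fst (toBase T) (toBase T')) = p₁ := hQ.lift_fst _ _ _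
  have hf₂ : f₀ ≫ (yon S).map (pullback.snd (toBase T) (toBase T')) = p₂ := hQ.lift_snd _ _ _
  let qW : (yon S).obj W ⟶ D := pullback.lift ((yon S).map (w₁ ≫ c)) ((yon S).map (w₂ ≫ c')) (by
    rw [(yon S).map_comp w₁ c, (yon S).map_comp w₂ c', Category.assoc, Category.assoc, hu, hu', ← Category.assoc,
      ← Category.assoc, ← Functor.map_comp, ← Functor.map_comp, hw₁, hw₂, Functor.map_comp, Functor.map_comp,
      Category.assoc, Category.assoc, sqR.w])
  have he₁ : e ≫ pullback.fst (toBase T) (toBase T') = pullback.fst (c ≫ toBase T) (c' ≫ toBase T') ≫ c :=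
    pullback.lift_fst _ _ _
  have he₂ : e ≫ pullback.snd (toBase T) (toBase T') = pullback.snd (c ≫ toBase T) (c' ≫ toBase T') ≫ c' :=
    pullback.lift_snd _ _ _
  have hext : ∀ {Z : Sp S} (a b : Z ⟶ D), a ≫ f₀ = b ≫ f₀ → a = b := fun {Z} a b h => by
    apply pullback.hom_ext
    · change a ≫ p₁ = b ≫ p₁; rw [← hf₁, reassoc_of% h]
    · change a ≫ p₂ = b ≫ p₂; rw [← hf₂, reassoc_of% h]
  have hq₁ : qW ≫ p₁ = (yon S).map (w₁ ≫ c) := pullback.lift_fst _ _ _
  have hq₂ : qW ≫ p₂ = (yon S).map (w₂ ≫ c') := pullback.lift_snd _ _ _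
  have w : qW ≫ f₀ = (yon S).map fW ≫ (yon S).map e := by
    apply hQ.hom_ext
    · rw [Category.assoc, hf₁, hq₁, Category.assoc, ← Functor.map_comp, ← Functor.map_comp, Category.assoc, he₁]
    · rw [Category.assoc, hf₂, hq₂, Category.assoc, ← Functor.map_comp, ← Functor.map_comp, Category.assoc, he₂]
  have hW := (IsPullback.of_hasPullback l m).map (yon S)
  have hlift : ∀ x : PullbackCone f₀ ((yon S).map e), ∃ n, n ≫ qW = x.fst ∧ n ≫ (yon S).map fW = x.snd := by
    intro x
    let a := x.snd ≫ (yon S).map (pullback.fst (c ≫ toBase T) (c' ≫ toBase T'))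
    let a' := x.snd ≫ (yon S).map (pullback.snd (c ≫ toBase T) (c' ≫ toBase T'))
    have ha : a ≫ (yon S).map c = x.fst ≫ p₁ := by
      rw [← hf₁, ← Category.assoc x.fst, x.condition]
      simp only [a, Category.assoc, ← Functor.map_comp, he₁]
    have ha' : a' ≫ (yon S).map c' = x.fst ≫ p₂ := by
      rw [← hf₂, ← Category.assoc x.fst, x.condition]
      simp only [a', Category.assoc, ← Functor.map_comp, he₂]
    let r := sqR.lift (a ≫ (yon S).map u) (a' ≫ (yon S).map u') (by
      rw [Category.assoc a, Category.assoc a', ← hu, ← hu', ← Category.assoc a, ← Category.assoc a', ha, ha',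
        Category.assoc, Category.assoc]
      exact congrArg _ pullback.condition)
    have hr : r ≫ (yon S).map l = x.snd ≫ (yon S).map m := by
      apply hQU.hom_ext
      · simp only [Category.assoc, ← Functor.map_comp, l, m, pullback.lift_fst]
        simp [r, a]
      · simp only [Category.assoc, ← Functor.map_comp, l, m, pullback.lift_snd]
        simp [r, a']
    have hn : hW.lift r x.snd hr ≫ (yon S).map fW = x.snd := hW.lift_snd _ _ _
    refine ⟨hW.lift r x.snd hr, hext _ _ ?_, hn⟩
    rw [Category.assoc, w, ← Category.assoc, hn, x.condition]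
  choose n hn₁ hn₂ using hlift
  have sq : IsPullback qW ((yon S).map fW) f₀ ((yon S).map e) :=
    IsPullback.of_isLimit' ⟨w⟩ (PullbackCone.IsLimit.mk _ n hn₁ hn₂ fun x k _ hk =>
      (cancel_mono ((yon S).map fW)).1 (hk.trans (hn₂ x).symm))
  obtain ⟨V, ⟨φ⟩⟩ := FppfDescent.exists_yon_iso_of_fppf_cover f₀ e sq
  refine ⟨V, φ.hom ≫ p₁, pre (φ.hom ≫ p₂), IsPullback.of_iso_pullback ⟨?_⟩ φ rfl (map_pre _).symm⟩
  rw [map_pre, Category.assoc, Category.assoc, pullback.condition]

/-- A locally surjective map from a scheme with etale kernel pair is an etale presentation. -/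
theorem isAlgSpace_of_etale_kernelPair {U R : Over S} {F : Sp S} (q : (yon S).obj U ⟶ F)
    [Sheaf.IsLocallySurjective q] {r₁ r₂ : R ⟶ U}
    (sqR : IsPullback ((yon S).map r₁) ((yon S).map r₂) q q) [Etale r₁.left] [Etale r₂.left] :
    IsAlgSpace F ∧ RepWith @Etale q ∧ RepWith @Surjective q := by
  have hpb : ∀ {T T' : Over S} (g : (yon S).obj T ⟶ F) (g' : (yon S).obj T' ⟶ F),
      ∃ (V : Over S) (fst : (yon S).obj V ⟶ (yon S).obj T) (snd : V ⟶ T'),
        IsPullback fst ((yon S).map snd) g g' := fun {T T'} g g' => by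
    obtain ⟨T₁, c, u, h₁, h₂, h₃, hu⟩ := exists_fppf_lift q g
    obtain ⟨T₁', c', u', h₁', h₂', h₃', hu'⟩ := exists_fppf_lift q g'
    exact exists_pullback_of_lifts sqR g g' c c' u u' hu hu'
  have hqE : RepWith @Etale q ∧ RepWith @Surjective q := by
    have hrep : ∀ (T : Over S) (g : (yon S).obj T ⟶ F),
        ∃ (V : Over S) (fst : (yon S).obj V ⟶ (yon S).obj U) (snd : V ⟶ T),
          IsPullback fst ((yon S).map snd) q g ∧ Etale snd.left ∧ Surjective snd.left := by
      intro T g
      obtain ⟨V, fst, snd, sq⟩ := hpb q g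
      obtain ⟨T₁, c, u, h₁, h₂, h₃, hu⟩ := exists_fppf_lift q g
      -- base change to `T₁`
      have s₁ := (IsPullback.of_hasPullback r₂ u).map (yon S)
      have s₂ := (IsPullback.of_hasPullback snd c).map (yon S)
      have big₁ : IsPullback ((yon S).map (pullback.fst r₂ u) ≫ (yon S).map r₁)
          ((yon S).map (pullback.snd r₂ u)) q ((yon S).map u ≫ q) := s₁.paste_horiz sqR
      have big₂ : IsPullback ((yon S).map (pullback.fst snd c) ≫ fst)
          ((yon S).map (pullback.snd snd c)) q ((yon S).map c ≫ g) := s₂.paste_horiz sq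
      rw [← hu] at big₁
      have he : Etale (pullback.snd r₂ u).left :=
        MorphismProperty.of_isPullback (P := @Etale) ((IsPullback.of_hasPullback r₂ u).map (Over.forget S)) ‹_›
      let i := big₁.isoIsPullback _ _ big₂
      have hi : i.hom ≫ (yon S).map (pullback.snd snd c) = (yon S).map (pullback.snd r₂ u) :=
        IsPullback.isoIsPullback_hom_snd _ _ _ _
      have hi' : i.inv ≫ (yon S).map (pullback.snd r₂ u) = (yon S).map (pullback.snd snd c) :=
        IsPullback.isoIsPullback_inv_snd _ _ _ _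
      have hi'' : pre i.inv ≫ pullback.snd r₂ u = pullback.snd snd c := (yon S).map_injective (by simp [hi'])
      haveI : IsIso (pre i.inv).left := by
        haveI : IsIso (pre i.inv) := by
          haveI : IsIso ((yon S).map (pre i.inv)) := by rw [map_pre]; infer_instance
          exact isIso_of_fully_faithful (yon S) _
        exact inferInstanceAs (IsIso ((Over.forget S).map (pre i.inv)))
      have het : Etale (pullback.snd snd c).left := by
        rw [← hi'', Over.comp_left]; infer_instance
      have hsurj : Surjective (pullback.snd r₂ u).left := by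
        obtain ⟨o, ho₁, ho₂⟩ : ∃ o : T₁ ⟶ R, o ≫ r₁ = u ∧ o ≫ r₂ = u :=
          ⟨pre (sqR.lift ((yon S).map u) ((yon S).map u) rfl), (yon S).map_injective (by simp),
            (yon S).map_injective (by simp)⟩
        refine ⟨fun t => ⟨(pullback.lift o (𝟙 T₁) (by simp [ho₂]) : T₁ ⟶ pullback r₂ u).left t, ?_⟩⟩
        rw [← Scheme.Hom.comp_apply, ← Over.comp_left, pullback.lift_snd]
        rfl
      have hsc : Surjective (pullback.snd snd c).left := by
        rw [← hi'', Over.comp_left]; infer_instance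
      have hd := ((IsPullback.of_hasPullback snd c).map (Over.forget S)).flip
      refine ⟨V, fst, snd, sq, ?_, ⟨fun t => ?_⟩⟩
      · exact MorphismProperty.of_isPullback_of_descendsAlong (P := @Etale)
          (Q := @Surjective ⊓ @Flat ⊓ @LocallyOfFinitePresentation) hd ⟨⟨h₃, h₁⟩, h₂⟩ het
      · obtain ⟨t₁, rfl⟩ := c.left.surjective t
        obtain ⟨z, rfl⟩ := (pullback.snd snd c).left.surjective t₁
        exact ⟨(pullback.fst snd c).left z, by
          rw [← Scheme.Hom.comp_apply, ← Scheme.Hom.comp_apply, ← Over.comp_left, ← Over.comp_left,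
            pullback.condition]⟩
    refine ⟨repWith_mk fun T g => ?_, repWith_mk fun T g => ?_⟩ <;>
      obtain ⟨V, fst, snd, sq, h₁, h₂⟩ := hrep T g <;> exact ⟨V, fst, snd, sq, by assumption⟩
  refine ⟨{ diag := Functor.relativelyRepresentable.diag_of_map_from_obj fun T g => fun T' g' => ?_
            atlas := ⟨U, q, hqE.1, hqE.2⟩ }, hqE⟩
  obtain ⟨V, fst, snd, sq⟩ := hpb g g'
  exact ⟨V, snd, fst, sq⟩

/-- A sheaf receiving a representable etale surjection from a scheme is an algebraic space. -/
theorem isAlgSpace_of_etale_atlas {U : Over S} {F : Sp S} (q : (yon S).obj U ⟶ F)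
    (he : RepWith @Etale q) (hs : RepWith @Surjective q) : IsAlgSpace F := by
  obtain ⟨R, fst, snd, sq⟩ := exists_sq he.1 q
  have hr₂ : Etale snd.left := he.2 _ _ _ sq
  have sq' : IsPullback ((yon S).map snd) ((yon S).map (pre fst)) q q := by
    rw [map_pre]; exact sq.flip
  have hr₁ : Etale (pre fst).left := he.2 _ _ _ sq'
  haveI : Sheaf.IsLocallySurjective q :=
    isLocallySurjective_of_repWith (repWith_mono (Q := @Flat) (P := @Etale) (fun _ _ f (h : Etale f) => inferInstance) he)
      (repWith_mono (Q := @LocallyOfFinitePresentation) (P := @Etale) (fun _ _ f (h : Etale f) => inferInstance) he) hs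
  exact (isAlgSpace_of_etale_kernelPair q sq').1

end Groth.Agent.AlgSpc
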