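import Groth.Agent.AlgSpc.DecentSober
import Groth.Agent.FpqcDescent.Basic

/-!
Locally Noetherian decent algebraic spaces are quasi-separated.
-/

universe u

open CategoryTheory CategoryTheory.Limits AlgebraicGeometry Opposite

set_option linter.style.haveILetI false
set_option backward.isDefEq.respectTransparency false

namespace Groth.Agent.AlgSpc

open _root_.AlgSp

variable {S : Scheme.{u}}

/-- Products over the base of two charts, and the diagonal. -/
theorem isPullback_diag_chart {X : Sp S} {A B W Q : Over S} {a : (yon S).obj A ⟶ X}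
    {b : (yon S).obj B ⟶ X} {fst : (yon S).obj W ⟶ (yon S).obj A} {snd : W ⟶ B}
    (sq : IsPullback fst ((yon S).map snd) a b) {π₁ : Q ⟶ A} {π₂ : Q ⟶ B}
    (hQ : IsPullback π₁.left π₂.left A.hom B.hom) :
    ∃ l : W ⟶ Q, l ≫ π₁ = pre fst ∧ l ≫ π₂ = snd ∧ IsPullback (fst ≫ a) ((yon S).map l) (diag X)
      (prod.lift ((yon S).map π₁ ≫ a) ((yon S).map π₂ ≫ b)) := by
  let ψ : (yon S).obj Q ⟶ X ⨯ X := prod.lift ((yon S).map π₁ ≫ a) ((yon S).map π₂ ≫ b)
  have hc : (pre fst).left ≫ A.hom = snd.left ≫ B.hom := (Over.w (pre fst)).trans (Over.w snd).symm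
  let l : W ⟶ Q := Over.homMk (hQ.lift (pre fst).left snd.left hc) (by
    rw [← Over.w π₂, ← Category.assoc, hQ.lift_snd]; exact Over.w snd)
  have hl₁ : (yon S).map (l ≫ π₁) = fst := by
    rw [show l ≫ π₁ = pre fst by ext : 1; exact hQ.lift_fst _ _ hc, map_pre]
  have hl₂ : l ≫ π₂ = snd := by ext : 1; exact hQ.lift_snd _ _ hc
  have hext : ∀ {Z : Sp S} (c c' : Z ⟶ (yon S).obj Q), c ≫ (yon S).map π₁ = c' ≫ (yon S).map π₁ →
      c ≫ (yon S).map π₂ = c' ≫ (yon S).map π₂ → c = c' := by
    intro Z c c' h₁ h₂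
    refine hom_ext fun T t => ?_
    have e₁ : pre (t ≫ c) ≫ π₁ = pre (t ≫ c') ≫ π₁ := (yon S).map_injective (by simp [h₁])
    have e₂ : pre (t ≫ c) ≫ π₂ = pre (t ≫ c') ≫ π₂ := (yon S).map_injective (by simp [h₂])
    rw [← map_pre (t ≫ c), ← map_pre (t ≫ c')]
    congr 1
    ext : 1
    exact hQ.hom_ext (congrArg CommaMorphism.left e₁) (congrArg CommaMorphism.left e₂)
  refine ⟨l, by ext : 1; exact hQ.lift_fst _ _ hc, hl₂, IsPullback.of_isLimit' ⟨?_⟩ (PullbackCone.IsLimit.mk _
    (fun x => sq.lift (x.snd ≫ (yon S).map π₁) (x.snd ≫ (yon S).map π₂) ?_) ?_ ?_ ?_)⟩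
  · ext
    · simp only [Category.assoc, prod.lift_fst, Category.comp_id]
      rw [← Functor.map_comp_assoc, hl₁]
    · simp only [Category.assoc, prod.lift_snd, Category.comp_id]
      rw [← Functor.map_comp_assoc, hl₂, sq.w]
  · have h1 := congrArg (· ≫ prod.fst) x.condition
    have h2 := congrArg (· ≫ prod.snd) x.condition
    simp at h1 h2
    rw [Category.assoc, Category.assoc, ← h1, ← h2]
  · intro x
    have h1 := congrArg (· ≫ prod.fst) x.condition
    simp at h1
    rw [← Category.assoc, sq.lift_fst, Category.assoc, ← h1]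
  · intro x
    apply hext
    · rw [Category.assoc, ← Functor.map_comp, hl₁, sq.lift_fst]
    · rw [Category.assoc, ← Functor.map_comp, hl₂, sq.lift_snd]
  · intro x n h₁ h₂
    apply sq.hom_ext
    · rw [sq.lift_fst, ← h₂, Category.assoc, ← Functor.map_comp, hl₁]
    · rw [sq.lift_snd, ← h₂, Category.assoc, ← Functor.map_comp, hl₂]

theorem noetherianSpace_fibreProd {X : Sp S} (hX : IsDecent X) {U₁ U : Over S}
    [IsAffine U₁.left] [IsAffine U.left] [IsLocallyNoetherian U.left]
    {a₁ : (yon S).obj U₁ ⟶ X} (ha : RepWith @Etale a₁) {a : (yon S).obj U ⟶ X} {W : Over S}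
    {fst : (yon S).obj W ⟶ (yon S).obj U₁} {snd : W ⟶ U}
    (sq : IsPullback fst ((yon S).map snd) a₁ a) : TopologicalSpace.NoetherianSpace ↥W.left := by
  haveI : Etale snd.left := ha.2 _ _ _ sq
  haveI : IsLocallyNoetherian W.left := LocallyOfFiniteType.isLocallyNoetherian snd.left
  haveI : IsNoetherian U.left := ⟨⟩
  have key : ∀ T : TopologicalSpace.Closeds ↥U.left, IsCompact (snd.left ⁻¹' (T : Set U.left)) := by
    intro T
    induction T using WellFoundedLT.induction with
    | _ T ih =>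
    rcases (T : Set U.left).eq_empty_or_nonempty with h | h
    · rw [h, Set.preimage_empty]; exact isCompact_empty
    obtain ⟨N, R', hN, ⟨t, htN, htT⟩, hR'c, hR'⟩ := exists_open_qc_fibres hX ha sq T.isClosed h
    let T' : TopologicalSpace.Closeds ↥U.left := ⟨(T : Set U.left) \ N, T.isClosed.sdiff hN⟩
    have hlt : T' < T := lt_of_le_of_ne (fun z hz => hz.1) fun e => by
      have : t ∈ (T' : Set U.left) := by rw [e]; exact htT
      exact this.2 htN
    haveI : CompactSpace ↥(R' : Scheme.{u}) := isCompact_iff_compactSpace.1 hR'c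
    haveI : IsNoetherian (R' : Scheme.{u}) := ⟨⟩
    let E : Set W.left := snd.left ⁻¹' (N ∩ T)
    have h₁ : IsCompact E := by
      have hE : R'.ι '' (R'.ι ⁻¹' E) = E :=
        Set.image_preimage_eq_of_subset fun r hr => by rw [Scheme.Opens.range_ι]; exact hR' r hr
      rw [← hE]
      exact (TopologicalSpace.NoetherianSpace.isCompact _).image R'.ι.continuous
    have : snd.left ⁻¹' (T : Set U.left) = snd.left ⁻¹' (N ∩ T) ∪ snd.left ⁻¹' (T' : Set U.left) := by
      rw [← Set.preimage_union]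
      congr 1
      ext z
      constructor
      · exact fun hz => (em (z ∈ N)).imp (fun hzN => ⟨hzN, hz⟩) (fun hzN => ⟨hz, hzN⟩)
      · rintro (hz | hz)
        exacts [hz.2, hz.1]
    rw [this]
    exact h₁.union (ih T' hlt)
  haveI : CompactSpace ↥W.left := ⟨by simpa using key ⊤⟩
  haveI : IsNoetherian W.left := ⟨⟩
  infer_instance

theorem isQuasiSeparatedSp_of_decent_noetherian {X : Sp S} (hA : IsAlgSpace X) (hN : IsLocNoethSp X)
    (hX : IsDecent X) : IsQuasiSeparatedSp X := by
  obtain ⟨U, a, ha, has, hU⟩ := hN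
  haveI : IsLocallyNoetherian U.left := hU
  obtain ⟨W, fst, snd, sq⟩ := exists_sq ha.1 a
  let Q : Over S := Over.mk (pullback.snd U.hom U.hom ≫ U.hom)
  let π₁ : Q ⟶ U := Over.homMk (pullback.fst U.hom U.hom) pullback.condition
  let π₂ : Q ⟶ U := Over.homMk (pullback.snd U.hom U.hom) rfl
  obtain ⟨l, hl₁, hl₂, sqD⟩ := isPullback_diag_chart sq (π₁ := π₁) (π₂ := π₂) (IsPullback.of_hasPullback _ _)
  let ψ := prod.lift ((yon S).map π₁ ≫ a) ((yon S).map π₂ ≫ a)
  haveI hl : QuasiCompact l.left := by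
    refine (quasiCompact_iff_forall_isAffineOpen (X := W.left) (Y := Q.left)).2 fun K hK => ?_
    obtain ⟨t, ht⟩ := hK.isCompact.elim_finite_subcover
      (fun i : U.left.affineOpens × U.left.affineOpens =>
        π₁.left ⁻¹' (i.1.1 : Set U.left) ∩ π₂.left ⁻¹' (i.2.1 : Set U.left))
      (fun i => (i.1.1.2.preimage π₁.left.continuous).inter (i.2.1.2.preimage π₂.left.continuous))
      (fun q _ => by
        obtain ⟨A, hA₁, hqA, -⟩ :=
          exists_isAffineOpen_mem_and_subset (show π₁.left q ∈ (⊤ : U.left.Opens) from trivial)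
        obtain ⟨B, hB, hqB, -⟩ :=
          exists_isAffineOpen_mem_and_subset (show π₂.left q ∈ (⊤ : U.left.Opens) from trivial)
        exact Set.mem_iUnion.2 ⟨(⟨A, hA₁⟩, ⟨B, hB⟩), hqA, hqB⟩)
    have key : ∀ i : U.left.affineOpens × U.left.affineOpens, IsCompact (l.left ⁻¹' (K : Set Q.left) ∩
        ((pre fst).left ⁻¹' (i.1.1 : Set U.left) ∩ snd.left ⁻¹' (i.2.1 : Set U.left))) := by
      rintro ⟨⟨A, hA₁⟩, ⟨B, hB⟩⟩
      let A' : Over S := Over.mk (A.ι ≫ U.hom)
      let B' : Over S := Over.mk (B.ι ≫ U.hom)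
      let jA : A' ⟶ U := Over.homMk A.ι rfl
      let jB : B' ⟶ U := Over.homMk B.ι rfl
      haveI : IsAffine A'.left := hA₁
      haveI : IsAffine B'.left := hB
      haveI : IsLocallyNoetherian B'.left := inferInstanceAs (IsLocallyNoetherian (B : Scheme.{u}))
      let P₁ := pullback jA (pre fst)
      have h₁ : IsPullback ((yon S).map (pullback.fst jA (pre fst)))
          ((yon S).map (pullback.snd jA (pre fst) ≫ snd)) ((yon S).map jA ≫ a) a := by
        have h : IsPullback ((yon S).map (pullback.fst jA (pre fst)))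
            ((yon S).map (pullback.snd jA (pre fst))) ((yon S).map jA) ((yon S).map (pre fst)) :=
          (IsPullback.of_hasPullback _ _).map (yon S)
        rw [map_pre] at h
        rw [Functor.map_comp]
        exact h.paste_vert sq
      let p := pullback.snd jA (pre fst) ≫ snd
      let P₂ := pullback p jB
      have h₂ : IsPullback ((yon S).map (pullback.fst p jB) ≫ (yon S).map (pullback.fst jA (pre fst)))
          ((yon S).map (pullback.snd p jB)) ((yon S).map jA ≫ a) ((yon S).map jB ≫ a) :=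
        ((IsPullback.of_hasPullback p jB).map (yon S)).paste_horiz h₁
      haveI := noetherianSpace_fibreProd hX
        (repWith_comp ((repWith_yon_map_iff _ jA).2 (inferInstanceAs (Etale A.ι))) ha) h₂
      let ρ : P₂.left ⟶ W.left := (pullback.fst p jB ≫ pullback.snd jA (pre fst)).left
      have s₁ : IsPullback (pullback.fst jA (pre fst)).left (pullback.snd jA (pre fst)).left jA.left (pre fst).left :=
        (IsPullback.of_hasPullback jA (pre fst)).map (Over.forget S)
      have s₂ : IsPullback (pullback.fst p jB).left (pullback.snd p jB).left p.left jB.left :=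
        (IsPullback.of_hasPullback p jB).map (Over.forget S)
      have hρ : Set.range ρ = (pre fst).left ⁻¹' (A : Set U.left) ∩ snd.left ⁻¹' (B : Set U.left) := by
        ext w
        constructor
        · rintro ⟨z, rfl⟩
          refine ⟨?_, ?_⟩
          · have := congrArg (fun φ : P₁.left ⟶ U.left => φ ((pullback.fst p jB).left z)) s₁.w
            rw [Set.mem_preimage]
            exact this ▸ ((pullback.fst jA (pre fst)).left ((pullback.fst p jB).left z)).2
          · have := congrArg (fun φ : P₂.left ⟶ U.left => φ z) s₂.w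
            rw [Set.mem_preimage]
            exact this ▸ ((pullback.snd p jB).left z).2
        · rintro ⟨hwA, hwB⟩
          obtain ⟨z₁, -, hz₁⟩ := Scheme.exists_preimage_of_isPullback s₁ ⟨_, hwA⟩ w rfl
          obtain ⟨z, hz, -⟩ := Scheme.exists_preimage_of_isPullback s₂ z₁ ⟨_, hwB⟩
            (show snd.left ((pullback.snd jA (pre fst)).left z₁) = snd.left w by rw [hz₁])
          refine ⟨z, ?_⟩
          change (pullback.snd jA (pre fst)).left ((pullback.fst p jB).left z) = w
          rw [hz, hz₁]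
      rw [← hρ, ← Set.image_preimage_eq_inter_range]
      exact (TopologicalSpace.NoetherianSpace.isCompact _).image ρ.continuous
    have : l.left ⁻¹' (K : Set Q.left) = ⋃ i ∈ t, l.left ⁻¹' (K : Set Q.left) ∩
        ((pre fst).left ⁻¹' (i.1.1 : Set U.left) ∩ snd.left ⁻¹' (i.2.1 : Set U.left)) := by
      refine subset_antisymm (fun w hw => ?_) (Set.iUnion₂_subset fun i _ => Set.inter_subset_left)
      obtain ⟨i, hi, hi₁, hi₂⟩ := Set.mem_iUnion₂.1 (ht hw)
      refine Set.mem_iUnion₂.2 ⟨i, hi, hw, ?_, ?_⟩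
      · rw [Set.mem_preimage, ← hl₁]; exact hi₁
      · rw [Set.mem_preimage, ← hl₂]; exact hi₂
    change IsCompact (l.left ⁻¹' (K : Set Q.left))
    rw [this]
    exact t.finite_toSet.isCompact_biUnion fun i _ => key i
  refine ⟨hA.diag, fun T D g d snd' sqd => ?_⟩
  obtain ⟨T₁, k₁, e₁, sq₁⟩ := exists_sq ha.1 (g ≫ prod.fst)
  obtain ⟨T₂, k₂, e₂, sq₂⟩ := exists_sq ha.1 ((yon S).map e₁ ≫ g ≫ prod.snd)
  haveI : Etale e₁.left := ha.2 _ _ _ sq₁
  haveI : Etale e₂.left := ha.2 _ _ _ sq₂
  haveI : Surjective e₁.left := has.2 _ _ _ sq₁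
  haveI : Surjective e₂.left := has.2 _ _ _ sq₂
  let e := e₂ ≫ e₁
  have he : (@Surjective ⊓ @Flat ⊓ @LocallyOfFinitePresentation : MorphismProperty Scheme.{u}) e.left :=
    ⟨⟨inferInstanceAs (Surjective (e₂.left ≫ e₁.left)), inferInstanceAs (Flat (e₂.left ≫ e₁.left))⟩,
      inferInstanceAs (LocallyOfFinitePresentation (e₂.left ≫ e₁.left))⟩
  let q₁ : T₂ ⟶ U := e₂ ≫ pre k₁
  let q₂ : T₂ ⟶ U := pre k₂
  let k : T₂ ⟶ Q := Over.homMk (pullback.lift q₁.left q₂.left ((Over.w q₁).trans (Over.w q₂).symm)) (by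
    change pullback.lift _ _ _ ≫ pullback.snd U.hom U.hom ≫ U.hom = T₂.hom
    rw [pullback.lift_snd_assoc]; exact Over.w q₂)
  have hk₁ : k ≫ π₁ = q₁ := by ext : 1; exact pullback.lift_fst _ _ _
  have hk₂ : k ≫ π₂ = q₂ := by ext : 1; exact pullback.lift_snd _ _ _
  have heg : (yon S).map e ≫ g = (yon S).map k ≫ ψ := by
    ext
    · simp only [ψ, Category.assoc, prod.lift_fst]
      rw [← Functor.map_comp_assoc, hk₁, Functor.map_comp, Functor.map_comp, map_pre, Category.assoc,
        Category.assoc, sq₁.w]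
    · simp only [ψ, Category.assoc, prod.lift_snd]
      rw [← Functor.map_comp_assoc, hk₂, map_pre, sq₂.w, Functor.map_comp, Category.assoc]
  let D₂ := pullback snd' e
  have sqB : IsPullback ((yon S).map (pullback.fst snd' e) ≫ d) ((yon S).map (pullback.snd snd' e))
      (diag X) ((yon S).map k ≫ ψ) := by
    rw [← heg]
    exact ((IsPullback.of_hasPullback snd' e).map (yon S)).paste_horiz sqd
  have hw : ((yon S).map (pullback.fst snd' e) ≫ d) ≫ diag X =
      ((yon S).map (pullback.snd snd' e) ≫ (yon S).map k) ≫ ψ := by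
    rw [Category.assoc]; exact sqB.w
  let m := pre (sqD.lift _ _ hw)
  have hm : m ≫ l = pullback.snd snd' e ≫ k := (yon S).map_injective (by simp [m])
  have sqY : IsPullback ((yon S).map m) ((yon S).map (pullback.snd snd' e)) ((yon S).map l) ((yon S).map k) := by
    refine IsPullback.of_right (h₁₂ := fst ≫ a) (h₂₂ := ψ) ?_ ?_ sqD
    · rw [show (yon S).map m ≫ fst ≫ a = (yon S).map (pullback.fst snd' e) ≫ d by
        rw [map_pre]; exact sqD.lift_fst _ _ hw]
      exact sqB
    · rw [← Functor.map_comp, hm, Functor.map_comp]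
  exact MorphismProperty.of_isPullback_of_descendsAlong (P := @QuasiCompact)
    (Q := @Surjective ⊓ @Flat ⊓ @LocallyOfFinitePresentation)
    ((IsPullback.of_hasPullback snd' e).map (Over.forget S)).flip he
    (MorphismProperty.of_isPullback (P := @QuasiCompact)
      ((IsPullback.of_map (yon S) hm sqY).map (Over.forget S)) hl)

end Groth.Agent.AlgSpc
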