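import Groth.Agent.AlgSpc.EtQuot
import Groth.Agent.AlgSpc.DecentNoeth
import Mathlib.AlgebraicGeometry.Morphisms.FlatDescent

/-!
Testing properties of representable morphisms after an fppf cover; the diagonal of an algebraic space.
-/

set_option autoImplicit false
set_option linter.style.haveILetI false
set_option backward.isDefEq.respectTransparency false

universe u

open CategoryTheory CategoryTheory.Limits AlgebraicGeometry Opposite

namespace Groth.Agent.AlgSpc

open _root_.AlgSp

variable {S : Scheme.{u}}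

/-- A property which is stable under base change and descends along fppf covers may be tested on one
chart of the target which receives local lifts of all sections. -/
theorem repWith_of_cover {P : MorphismProperty Scheme.{u}} [P.IsStableUnderBaseChange]
    (hP : ∀ ⦃A B C D : Scheme.{u}⦄ {a : A ⟶ B} {k' : A ⟶ C} {k : B ⟶ D} {c : C ⟶ D},
      IsPullback a k' k c → Flat c → LocallyOfFinitePresentation c → Surjective c → P k' → P k)
    {X Y : Sp S} {f : Y ⟶ X} (hf : Representable f) {U V : Over S} {q : (yon S).obj U ⟶ X}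
    {fst : (yon S).obj V ⟶ Y} {g : V ⟶ U} (sq : IsPullback fst ((yon S).map g) f q)
    (hlift : ∀ (T : Over S) (x : (yon S).obj T ⟶ X), ∃ (T' : Over S) (c : T' ⟶ T) (m : T' ⟶ U),
      Flat c.left ∧ LocallyOfFinitePresentation c.left ∧ Surjective c.left ∧
        (yon S).map c ≫ x = (yon S).map m ≫ q)
    (hg : P g.left) : RepWith P f := by
  refine ⟨hf, fun T V₀ x a b sqT => ?_⟩
  obtain ⟨T', c, m, h₁, h₂, h₃, hm⟩ := hlift T x
  have big₁ := ((IsPullback.of_hasPullback g m).map (yon S)).paste_horiz sq
  have big₂ := ((IsPullback.of_hasPullback b c).map (yon S)).paste_horiz sqT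
  rw [← hm] at big₁
  let i := big₂.isoIsPullback _ _ big₁
  have hi : pre i.hom ≫ pullback.snd g m = pullback.snd b c :=
    (yon S).map_injective (by rw [Functor.map_comp, map_pre]; exact IsPullback.isoIsPullback_hom_snd _ _ _ _)
  haveI : IsIso (pre i.hom).left := by
    haveI : IsIso ((yon S).map (pre i.hom)) := by rw [map_pre]; infer_instance
    haveI : IsIso (pre i.hom) := isIso_of_fully_faithful (yon S) _
    exact inferInstanceAs (IsIso ((Over.forget S).map (pre i.hom)))
  haveI : P.RespectsIso := MorphismProperty.IsStableUnderBaseChange.respectsIso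
  refine hP ((IsPullback.of_hasPullback b c).map (Over.forget S)) h₁ h₂ h₃ ?_
  change P (pullback.snd b c).left
  rw [← hi, Over.comp_left, P.cancel_left_of_respectsIso]
  exact MorphismProperty.of_isPullback ((IsPullback.of_hasPullback g m).map (Over.forget S)) hg

theorem exists_lift_of_atlas {X : Sp S} {U : Over S} {p : (yon S).obj U ⟶ X} (he : RepWith @Etale p)
    (hs : RepWith @Surjective p) (T : Over S) (x : (yon S).obj T ⟶ X) :
    ∃ (T' : Over S) (c : T' ⟶ T) (m : T' ⟶ U), Flat c.left ∧ LocallyOfFinitePresentation c.left ∧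
      Surjective c.left ∧ (yon S).map c ≫ x = (yon S).map m ≫ p := by
  obtain ⟨T', a, c, sq⟩ := exists_sq he.1 x
  haveI : Etale c.left := he.2 _ _ _ sq
  exact ⟨T', c, pre a, inferInstance, inferInstance, hs.2 _ _ _ sq, by rw [map_pre, sq.w]⟩

theorem repWith_iff_of_atlas {P : MorphismProperty Scheme.{u}} [P.IsStableUnderBaseChange]
    [P.IsLocalAtTarget Scheme.fppfPrecoverage] {X Y : Sp S} {f : Y ⟶ X} (hf : Representable f)
    {U V : Over S} {q : (yon S).obj U ⟶ X} (hqe : RepWith @Etale q) (hqs : RepWith @Surjective q)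
    {fst : (yon S).obj V ⟶ Y} {g : V ⟶ U} (sq : IsPullback fst ((yon S).map g) f q) :
    RepWith P f ↔ P g.left := by
  refine ⟨fun h => h.2 _ _ _ sq, repWith_of_cover (fun A B C D a k' k c s h₁ h₂ h₃ hk => ?_) hf sq
    (exists_lift_of_atlas hqe hqs)⟩
  refine MorphismProperty.IsLocalAtTarget.of_forall_pullbackSnd (K := Scheme.fppfPrecoverage)
    c.singleton_mem_fppfPrecoverage fun {U'} g' _ hg' => ?_
  cases hg'
  rw [← s.isoPullback_inv_snd]
  exact (P.cancel_left_of_respectsIso _ _).2 hk

/-- The diagonal of an algebraic space is a monomorphism of finite type. -/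
theorem repWith_diag_props {X : Sp S} (hX : IsAlgSpace X) :
    RepWith @LocallyOfFiniteType (diag X) ∧ RepWith (MorphismProperty.monomorphisms Scheme.{u}) (diag X) ∧
      RepWith @IsSeparated (diag X) ∧ RepWith @LocallyQuasiFinite (diag X) := by
  have hmono : ∀ (T : Over S) (x : (yon S).obj T ⟶ X ⨯ X) {V : Over S} (a : (yon S).obj V ⟶ X) (b : V ⟶ T),
      IsPullback a ((yon S).map b) (diag X) x → Mono b.left := by
    intro T x V a b sq
    haveI : Mono ((yon S).map b) := IsPullback.mono_snd_of_mono sq
    haveI : Mono b := (yon S).mono_of_mono_map ‹_›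
    exact inferInstanceAs (Mono ((Over.forget S).map b))
  have hlft : RepWith @LocallyOfFiniteType (diag X) := by
    obtain ⟨U, p, hp, hps⟩ := hX.atlas
    obtain ⟨R, fst, snd, sq⟩ := exists_sq hp.1 p
    have hQ := (IsPullback.of_hasPullback (toBase U) (toBase U)).map (Over.forget S)
    obtain ⟨l, hl₁, -, sql⟩ := isPullback_diag_chart sq (π₁ := pullback.fst (toBase U) (toBase U))
      (π₂ := pullback.snd (toBase U) (toBase U)) (by simpa [toBase] using hQ)
    haveI : Etale (pre fst).left := hp.2 p _ (pre fst) (by rw [map_pre]; exact sq.flip)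
    haveI : LocallyOfFiniteType (l.left ≫ (pullback.fst (toBase U) (toBase U)).left) := by
      rw [← Over.comp_left, hl₁]; infer_instance
    refine repWith_of_cover (P := @LocallyOfFiniteType) (fun A B C D a k' k c s h₁ h₂ h₃ hk =>
      MorphismProperty.of_isPullback_of_descendsAlong (P := @LocallyOfFiniteType)
        (Q := @Surjective ⊓ @Flat ⊓ @LocallyOfFinitePresentation) s.flip ⟨⟨h₃, h₁⟩, h₂⟩ hk)
      hX.diag sql (fun T x => ?_) (locallyOfFiniteType_of_comp l.left (pullback.fst (toBase U) (toBase U)).left)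
    obtain ⟨T₁, c₁, m₁, f₁, p₁, s₁, w₁⟩ := exists_lift_of_atlas hp hps T (x ≫ prod.fst)
    obtain ⟨T₂, c₂, m₂, f₂, p₂, s₂, w₂⟩ := exists_lift_of_atlas hp hps T₁ ((yon S).map c₁ ≫ x ≫ prod.snd)
    refine ⟨T₂, c₂ ≫ c₁, pullback.lift (c₂ ≫ m₁) m₂ (toBase_unique _ _), ?_, ?_, ?_, ?_⟩
    · rw [Over.comp_left]; infer_instance
    · rw [Over.comp_left]; infer_instance
    · rw [Over.comp_left]; infer_instance
    · apply Limits.prod.hom_ext
      · rw [Category.assoc, Category.assoc, prod.lift_fst, Functor.map_comp, Category.assoc, w₁,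
          ← Functor.map_comp_assoc, ← Functor.map_comp_assoc, pullback.lift_fst]
      · rw [Category.assoc, Category.assoc, prod.lift_snd, Functor.map_comp, Category.assoc, w₂,
          ← Functor.map_comp_assoc, pullback.lift_snd]
  refine ⟨hlft, ⟨hX.diag, fun T V₀ x a b sq => hmono T x a b sq⟩, ⟨hX.diag, fun T V₀ x a b sq => ?_⟩,
    ⟨hX.diag, fun T V₀ x a b sq => ?_⟩⟩
  · haveI := hmono T x a b sq; exact (inferInstance : IsSeparated b.left)
  · haveI := hmono T x a b sq
    haveI : LocallyOfFiniteType b.left := hlft.2 x a b sq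
    change LocallyQuasiFinite b.left
    exact (LocallyQuasiFinite.of_injective b.left.injective : LocallyQuasiFinite b.left)

end Groth.Agent.AlgSpc
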