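import Groth.Agent.AlgSpc.SepLQF
import Groth.Agent.AlgSpc.EtQuot
import Groth.Agent.AlgSpc.CoverTest
import Groth.Agent.AlgSpLoc.Diag

/-!
Consequences: monomorphisms, bootstrap along maps representable by spaces.
-/

set_option autoImplicit false
set_option linter.style.haveILetI false
set_option backward.isDefEq.respectTransparency false

universe u

open CategoryTheory CategoryTheory.Limits AlgebraicGeometry Opposite

namespace Groth.Agent.AlgSpc

open _root_.AlgSp Groth.Agent.AlgSpLoc

variable {S : Scheme.{u}}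

theorem locP_lqf_of_comp {X Y Z : Sp S} (hX : IsAlgSpace X) (hY : IsAlgSpace Y) (hZ : IsAlgSpace Z)
    {f : X ⟶ Y} {g : Y ⟶ Z} (h : LocP (@LocallyQuasiFinite ⊓ @LocallyOfFiniteType) (f ≫ g)) :
    LocP (@LocallyQuasiFinite ⊓ @LocallyOfFiniteType) f :=
  locP_of_comp (P := @LocallyQuasiFinite ⊓ @LocallyOfFiniteType) (Q := ⊤)
    (fun f g hfg _ => by
      haveI : LocallyQuasiFinite (f ≫ g) := hfg.1
      haveI : LocallyOfFiniteType (f ≫ g) := hfg.2
      exact ⟨LocallyQuasiFinite.of_comp f g, locallyOfFiniteType_of_comp f g⟩) hX hY hZ h (locP_top g)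

theorem isSeparatedMor_of_mono {X Y : Sp S} (hX : IsAlgSpace X) (f : X ⟶ Y) [Mono f] : IsSeparatedMor f := by
  haveI : IsIso (pullback.diagonal f) := inferInstance
  exact repWith_iso (pullback.diagonal f)

/-- An algebraic space with a locally quasi-finite monomorphism to a scheme is a scheme. -/
theorem exists_yon_iso_of_mono_lqf {X : Sp S} {T : Over S} (hX : IsAlgSpace X) (f : X ⟶ (yon S).obj T) [Mono f]
    (hqf : LocP (@LocallyQuasiFinite ⊓ @LocallyOfFiniteType) f) : ∃ W : Over S, Nonempty ((yon S).obj W ≅ X) :=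
  SepLQF.exists_yon_iso_of_lqf_separated hX f hqf (isSeparatedMor_of_mono hX f)

/-- The fibre product of a scheme and a scheme over a sheaf is a scheme if it is an algebraic space locally
quasi-finite over one factor. -/
theorem exists_yon_iso_of_pullback_lqf {F P : Sp S} {A T : Over S} {q : (yon S).obj A ⟶ F} {g : (yon S).obj T ⟶ F}
    {fst : P ⟶ (yon S).obj A} {snd : P ⟶ (yon S).obj T} (sq : IsPullback fst snd q g) (hP : IsAlgSpace P)
    (hqf : LocP (@LocallyQuasiFinite ⊓ @LocallyOfFiniteType) snd) :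
    ∃ W : Over S, Nonempty ((yon S).obj W ≅ P) := by
  have hQ := (IsPullback.of_hasPullback (toBase A) (toBase T)).map (yon S)
  let n : P ⟶ (yon S).obj (pullback (toBase A) (toBase T)) := hQ.lift fst snd (yon_toBase_unique _ _)
  have hn₁ : n ≫ (yon S).map (pullback.fst (toBase A) (toBase T)) = fst := hQ.lift_fst _ _ _
  have hn₂ : n ≫ (yon S).map (pullback.snd (toBase A) (toBase T)) = snd := hQ.lift_snd _ _ _
  haveI : Mono n := ⟨fun a b h => sq.hom_ext (by rw [← hn₁, reassoc_of% h]) (by rw [← hn₂, reassoc_of% h])⟩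
  exact exists_yon_iso_of_mono_lqf hP n
    (locP_lqf_of_comp hP (IsAlgSpace.yon_obj _) (IsAlgSpace.yon_obj T) (hn₂.symm ▸ hqf))

theorem locP_lqf_of_isEtaleMor {X Y : Sp S} (hX : IsAlgSpace X) (hY : IsAlgSpace Y) {f : X ⟶ Y}
    (hf : IsEtaleMor f) : LocP (@LocallyQuasiFinite ⊓ @LocallyOfFiniteType) f :=
  locP_mono (P := @Etale) (fun _ _ k (hk : Etale k) => ⟨lqf_of_etale k, inferInstance⟩)
    ((isEtaleMor_iff_locP hX hY).1 hf)

/-- A sheaf with a map from an algebraic space, representable by spaces, etale and surjective. -/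
theorem isAlgSpace_of_repBySp_etale_surjective {F X : Sp S} (hX : IsAlgSpace X) (p : X ⟶ F)
    (hp : RepBySpWith (IsSurjectiveMor ⊓ IsEtaleMor) p.hom) : IsAlgSpace F := by
  rw [repBySpWith_hom_iff] at hp
  obtain ⟨U, a, ha, has⟩ := hX.atlas
  have key : ∀ (T : Over S) (g : (yon S).obj T ⟶ F), ∃ (V : Over S) (fst : (yon S).obj V ⟶ (yon S).obj U)
      (snd : V ⟶ T), IsPullback fst ((yon S).map snd) (a ≫ p) g ∧ Etale snd.left := by
    intro T g
    obtain ⟨hXT, hs, he⟩ := hp g _ _ (IsPullback.of_hasPullback p g)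
    have sq₂ := IsPullback.of_hasPullback a (pullback.fst p g)
    have sq := sq₂.paste_vert (IsPullback.of_hasPullback p g)
    have hP := isAlgSpace_pullback_of_diag hX.diag (IsAlgSpace.yon_obj U) hXT sq₂
    have hρ : RepWith @Etale (pullback.snd a (pullback.fst p g)) := repWith_of_isPullback sq₂ ha
    have hE : IsEtaleMor (pullback.snd a (pullback.fst p g) ≫ pullback.snd p g) := fun W φ hφ => by
      rw [← Category.assoc]
      exact he _ (repWith_comp hφ hρ)
    obtain ⟨V, ⟨χ⟩⟩ := exists_yon_iso_of_pullback_lqf sq hP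
      (locP_lqf_of_isEtaleMor hP (IsAlgSpace.yon_obj T) hE)
    refine ⟨V, χ.hom ≫ pullback.fst a (pullback.fst p g),
      pre (χ.hom ≫ pullback.snd a (pullback.fst p g) ≫ pullback.snd p g),
      IsPullback.of_iso_pullback ⟨?_⟩ (χ ≪≫ sq.isoPullback) ?_ ?_, ?_⟩
    · rw [map_pre]; simp only [Category.assoc]; rw [sq.w, Category.assoc]
    · simp
    · simp
    · refine (repWith_yon_map_iff @Etale _).1 ?_
      rw [map_pre]
      exact hE χ.hom (repWith_iso χ.hom) |> fun h => by simpa using h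
  have hqe : RepWith @Etale (a ≫ p) := repWith_mk fun T g => key T g
  refine isAlgSpace_of_etale_atlas (a ≫ p) hqe ((repWith_surjective_iff hqe.1).2 fun y => ?_)
  obtain ⟨T, g, t, rfl⟩ := exists_ofPt y
  obtain ⟨hXT, hs, -⟩ := hp g _ _ (IsPullback.of_hasPullback p g)
  obtain ⟨x, hx⟩ := hs (Points.ofScheme T t)
  obtain ⟨u, hu⟩ := surjective_ofPt has (Points.map (pullback.fst p g) x)
  refine ⟨Points.ofScheme U u, ?_⟩
  rw [← Points.ofPt_eq_map_ofScheme, ← Points.map_ofPt, hu, ← Points.map_comp, pullback.condition,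
    Points.map_comp, hx, ← Points.ofPt_eq_map_ofScheme]

/-- A map from a scheme representable by spaces and locally quasi-finite is representable by schemes. -/
theorem relativelyRepresentable_of_repBySp_lqf {F : PSp S} {X : Over S} (p : (pyon S).obj X ⟶ F)
    (hp : RepBySpWith (LocP (@LocallyQuasiFinite ⊓ @LocallyOfFiniteType)) p) :
    (pyon S).relativelyRepresentable p := by
  intro T g
  have sqP := IsPullback.of_hasPullback p g
  obtain ⟨h, hP, hqf⟩ := hp g _ _ sqP
  let P : Sp S := ⟨_, h⟩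
  let n₁ : P ⟶ (yon S).obj X := ObjectProperty.homMk (pullback.fst p g)
  let n₂ : P ⟶ (yon S).obj T := ObjectProperty.homMk (pullback.snd p g)
  have hQ := (IsPullback.of_hasPullback (toBase X) (toBase T)).map (yon S)
  let n : P ⟶ (yon S).obj (pullback (toBase X) (toBase T)) := hQ.lift n₁ n₂ (yon_toBase_unique _ _)
  have hn₁ : n ≫ (yon S).map (pullback.fst (toBase X) (toBase T)) = n₁ := hQ.lift_fst _ _ _
  have hn₂ : n ≫ (yon S).map (pullback.snd (toBase X) (toBase T)) = n₂ := hQ.lift_snd _ _ _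
  haveI : Mono n := ⟨fun a b e => by
    ext1
    exact sqP.hom_ext (congrArg (fun φ => φ.hom)
        (show a ≫ n₁ = b ≫ n₁ by rw [← hn₁, reassoc_of% e]))
      (congrArg (fun φ => φ.hom) (show a ≫ n₂ = b ≫ n₂ by rw [← hn₂, reassoc_of% e]))⟩
  obtain ⟨W, ⟨χ⟩⟩ := exists_yon_iso_of_mono_lqf hP n
    (locP_lqf_of_comp (g := (yon S).map (pullback.snd (toBase X) (toBase T))) hP (IsAlgSpace.yon_obj _) (IsAlgSpace.yon_obj T) (by rw [hn₂]; exact hqf))
  refine ⟨W, pre (χ.hom ≫ n₂), (χ.hom ≫ n₁).hom,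
    IsPullback.of_iso_pullback ⟨?_⟩ ((sheafToPresheaf _ _).mapIso χ) rfl ?_⟩
  · change (χ.hom ≫ n₁).hom ≫ p = ((yon S).map (pre (χ.hom ≫ n₂))).hom ≫ g
    rw [map_pre]
    change (χ.hom.hom ≫ pullback.fst p g) ≫ p = (χ.hom.hom ≫ pullback.snd p g) ≫ g
    rw [Category.assoc, Category.assoc, pullback.condition]
  · change χ.hom.hom ≫ pullback.snd p g = ((yon S).map (pre (χ.hom ≫ n₂))).hom
    rw [map_pre]; rfl

theorem discreteTopology_of_lqf_to_field {Y : Scheme.{u}} {K : Type u} [Field K] (g : Y ⟶ Spec (.of K))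
    [LocallyQuasiFinite g] : DiscreteTopology ↥Y :=
  isDiscrete_univ_iff.1 (by
    have := g.isDiscrete_preimage_singleton (IsLocalRing.closedPoint K)
    rwa [show (g : Y ⟶ _) ⁻¹' {IsLocalRing.closedPoint K} = Set.univ from
      Set.eq_univ_of_forall fun x => Subsingleton.elim _ _] at this)

/-- Algebraic spaces etale over a field are separated. -/
theorem isSeparatedMor_of_etale_field {X : Sp S} (hX : IsAlgSpace X) {K : Type u} [Field K]
    (str : Spec (.of K) ⟶ S) (f : X ⟶ (yon S).obj (Over.mk str)) (hf : IsEtaleMor f) : IsSeparatedMor f := by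
  obtain ⟨A, a, ha, has⟩ := hX.atlas
  let u : A ⟶ Over.mk str := pre (a ≫ f)
  have hu : (yon S).map u = a ≫ f := map_pre _
  haveI : Etale u.left := (repWith_yon_map_iff _ u).1 (hu ▸ hf a ha)
  obtain ⟨R, fst, r₂, sqa⟩ := exists_sq ha.1 a
  let r₁ : R ⟶ A := pre fst
  haveI : Etale r₁.left := ha.2 a _ r₁ (by rw [map_pre]; exact sqa.flip)
  let lR : R ⟶ pullback u u := pullback.lift r₁ r₂ ((yon S).map_injective (by simp [r₁, hu, reassoc_of% sqa.w]))
  have hl₁ : lR ≫ pullback.fst u u = r₁ := pullback.lift_fst _ _ _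
  have hl₂ : lR ≫ pullback.snd u u = r₂ := pullback.lift_snd _ _ _
  have hQ := (IsPullback.of_hasPullback u u).map (yon S)
  haveI : Mono lR := ⟨fun {Z} x y e => (yon S).map_injective (sqa.hom_ext
    (by rw [← map_pre fst]; rw [← Functor.map_comp, ← Functor.map_comp, show pre fst = r₁ from rfl, ← hl₁, reassoc_of% e])
    (by rw [← Functor.map_comp, ← Functor.map_comp, ← hl₂, reassoc_of% e]))⟩
  let ξ : (yon S).obj (pullback u u) ⟶ pullback f f :=
    pullback.lift ((yon S).map (pullback.fst u u) ≫ a) ((yon S).map (pullback.snd u u) ≫ a) (by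
      simp only [Category.assoc, ← hu, ← Functor.map_comp]
      rw [pullback.condition])
  have wl : ((yon S).map r₁ ≫ a) ≫ pullback.diagonal f = (yon S).map lR ≫ ξ := by
    apply pullback.hom_ext
    · simp only [ξ, Category.assoc, pullback.diagonal_fst, Category.comp_id, pullback.lift_fst,
        ← Functor.map_comp_assoc, hl₁]
    · simp only [ξ, Category.assoc, pullback.diagonal_snd, Category.comp_id, pullback.lift_snd,
        ← Functor.map_comp_assoc, hl₂]
      rw [map_pre]; exact sqa.w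
  have hlift : ∀ x : PullbackCone (pullback.diagonal f) ξ, ∃ n, n ≫ (yon S).map r₁ ≫ a = x.fst ∧
      n ≫ (yon S).map lR = x.snd := fun x => by
    have e₁ : (x.snd ≫ (yon S).map (pullback.fst u u)) ≫ a = x.fst := by
      simpa [ξ] using congrArg (· ≫ pullback.fst f f) x.condition.symm
    have e₂ : (x.snd ≫ (yon S).map (pullback.snd u u)) ≫ a = x.fst := by
      simpa [ξ] using congrArg (· ≫ pullback.snd f f) x.condition.symm
    refine ⟨sqa.lift _ _ (e₁.trans e₂.symm), ?_, hQ.hom_ext ?_ ?_⟩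
    · rw [map_pre, sqa.lift_fst_assoc, e₁]
    · rw [Category.assoc, ← Functor.map_comp, hl₁, map_pre, sqa.lift_fst]
    · rw [Category.assoc, ← Functor.map_comp, hl₂, sqa.lift_snd]
  choose n hn₁ hn₂ using hlift
  have sql : IsPullback ((yon S).map r₁ ≫ a) ((yon S).map lR) (pullback.diagonal f) ξ :=
    IsPullback.of_isLimit' ⟨wl⟩ (PullbackCone.IsLimit.mk _ n hn₁ hn₂
      fun x k _ hk => (cancel_mono ((yon S).map lR)).1 (hk.trans (hn₂ x).symm))
  have hsQ := FppfDescent.isPullback_forget (IsPullback.of_hasPullback u u)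
  haveI : Etale (pullback.fst u u).left := MorphismProperty.of_isPullback (P := @Etale) hsQ.flip ‹_›
  haveI : Etale (lR.left ≫ (pullback.fst u u).left) := by rw [← Over.comp_left, hl₁]; infer_instance
  haveI : Etale lR.left := Etale.of_comp lR.left (pullback.fst u u).left
  haveI : Mono lR.left := inferInstanceAs (Mono ((Over.forget S).map lR))
  haveI : IsOpenImmersion lR.left := IsOpenImmersion.of_flat_of_mono lR.left
  haveI : LocallyQuasiFinite ((pullback.fst u u).left ≫ u.left) := lqf_of_etale _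
  haveI : DiscreteTopology ↥(pullback u u).left :=
    discreteTopology_of_lqf_to_field ((pullback.fst u u).left ≫ u.left)
  haveI hcl : IsClosedImmersion lR.left := IsClosedImmersion.of_isPreimmersion _ (isClosed_discrete _)
  refine repWith_of_cover (P := @IsClosedImmersion) (fun A B C D a k' k c s h₁ h₂ h₃ hk =>
    MorphismProperty.of_isPullback_of_descendsAlong (P := @IsClosedImmersion)
      (Q := @Surjective ⊓ @Flat ⊓ @LocallyOfFinitePresentation) s.flip ⟨⟨h₃, h₁⟩, h₂⟩ hk)
    (AlgSpLoc.representable_diagonal_mor hX f) sql (fun T x => ?_) hcl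
  obtain ⟨T₁, c₁, m₁, f₁, p₁, s₁, w₁⟩ := exists_lift_of_atlas ha has T (x ≫ pullback.fst f f)
  obtain ⟨T₂, c₂, m₂, f₂, p₂, s₂, w₂⟩ := exists_lift_of_atlas ha has T₁ ((yon S).map c₁ ≫ x ≫ pullback.snd f f)
  refine ⟨T₂, c₂ ≫ c₁, pullback.lift (c₂ ≫ m₁) m₂ ?_, ?_, ?_, ?_, ?_⟩
  · apply (yon S).map_injective
    rw [Category.assoc, (yon S).map_comp c₂, (yon S).map_comp m₁, (yon S).map_comp m₂, hu, ← Category.assoc _ a,
      ← w₁, ← Category.assoc _ a, ← w₂]
    simp [pullback.condition]
  · rw [Over.comp_left]; infer_instance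
  · rw [Over.comp_left]; infer_instance
  · rw [Over.comp_left]; infer_instance
  · apply pullback.hom_ext
    · rw [Category.assoc, Category.assoc, pullback.lift_fst, ← Category.assoc _ _ a, ← Functor.map_comp,
        pullback.lift_fst, Functor.map_comp, Functor.map_comp, Category.assoc, Category.assoc, w₁]
    · rw [Category.assoc, Category.assoc, pullback.lift_snd, ← Category.assoc _ _ a, ← Functor.map_comp,
        pullback.lift_snd, Functor.map_comp, Category.assoc, w₂]

theorem isRepresentable_of_etale_field {X : Sp S} (hX : IsAlgSpace X) {K : Type u} [Field K]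
    (str : Spec (.of K) ⟶ S) (f : X ⟶ (yon S).obj (Over.mk str)) (hf : IsEtaleMor f) :
    X.obj.IsRepresentable :=
  SepLQF.isRepresentable_of_lqf_separated hX f (locP_lqf_of_isEtaleMor hX (IsAlgSpace.yon_obj _) hf)
    (isSeparatedMor_of_etale_field hX str f hf)

end Groth.Agent.AlgSpc
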