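import Groth.Agent.AlgSpc.FppfRep
import Groth.Agent.AlgSpc.SepLQF2
import Groth.Agent.AlgSpc.CoverTest
import Groth.Agent.AlgSpc.EtLocInst
import Groth.Agent.AlgSpc.EtQuotBase
import Groth.Agent.AlgSpc.FibreProd
import Groth.Agent.AlgStB.SmoothBootstrapSp

/-!
The diagonal of a sheaf with an fppf cover by an algebraic space is representable.
-/

set_option autoImplicit false
set_option linter.style.haveILetI false
set_option backward.isDefEq.respectTransparency false

universe u

open CategoryTheory CategoryTheory.Limits AlgebraicGeometry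

namespace Groth.Agent.AlgSpc

open _root_.AlgSp

variable {S : Scheme.{u}}

/-- The self-product of an atlas over a sheaf covered by a space. -/
theorem exists_rel_of_fppf_cover {F X : Sp S} (hX : IsAlgSpace X) (p : X ⟶ F)
    (hp : RepBySpWith (IsSurjectiveMor ⊓ LocP @Flat ⊓ LocP @LocallyOfFinitePresentation) p.hom)
    {U : Over S} (a : (yon S).obj U ⟶ X) (ha : RepWith @Etale a) :
    ∃ (R : Over S) (r₁ r₂ : R ⟶ U), IsPullback ((yon S).map r₁) ((yon S).map r₂) (a ≫ p) (a ≫ p) ∧
      ∃ n : R ⟶ pullback (toBase U) (toBase U), n ≫ pullback.fst _ _ = r₁ ∧ n ≫ pullback.snd _ _ = r₂ ∧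
        IsSeparated n.left ∧ LocallyQuasiFinite n.left ∧ LocallyOfFiniteType n.left := by
  have sqP := IsPullback.of_hasPullback p (a ≫ p)
  obtain ⟨hP, -, hfp⟩ := (repBySpWith_hom_iff _ p).1 hp (a ≫ p) _ _ sqP
  have sqR := IsPullback.of_hasPullback a (pullback.fst p (a ≫ p))
  have hR := isAlgSpace_of_isPullback (IsAlgSpace.yon_obj U) hX hP sqR
  have sq := sqR.paste_vert sqP
  have hsnd : LocP @LocallyOfFiniteType (pullback.snd a (pullback.fst p (a ≫ p)) ≫ pullback.snd p (a ≫ p)) := by
    refine locP_comp hR hP (IsAlgSpace.yon_obj U)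
      (locP_of_repWith (fun e f he hf => MorphismProperty.comp_mem @LocallyOfFiniteType e f
        (haveI : Etale e := he; inferInstance) hf)
        (repWith_mono (P := @Etale) (Q := @LocallyOfFiniteType)
          (fun _ _ f h => (haveI : Etale f := h; inferInstance)) (repWith_of_isPullback sqR ha)))
      (locP_mono (P := @LocallyOfFinitePresentation) (Q := @LocallyOfFiniteType)
        (fun _ _ f h => (haveI : LocallyOfFinitePresentation f := h; inferInstance)) hfp)
  have hQ := (IsPullback.of_hasPullback (toBase U) (toBase U)).map (yon S)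
  let n₀ := hQ.lift (pullback.fst a (pullback.fst p (a ≫ p)))
    (pullback.snd a (pullback.fst p (a ≫ p)) ≫ pullback.snd p (a ≫ p)) (yon_toBase_unique _ _)
  have hn₁ : n₀ ≫ (yon S).map (pullback.fst (toBase U) (toBase U)) = _ := hQ.lift_fst _ _ _
  have hn₂ : n₀ ≫ (yon S).map (pullback.snd (toBase U) (toBase U)) = _ := hQ.lift_snd _ _ _
  haveI : Mono n₀ := ⟨fun u v h => sq.hom_ext (by rw [← hn₁, reassoc_of% h]) (by rw [← hn₂, reassoc_of% h])⟩
  have hn : LocP @LocallyOfFiniteType n₀ :=
    locP_of_comp (P := @LocallyOfFiniteType) (Q := ⊤) (g := (yon S).map (pullback.snd (toBase U) (toBase U)))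
      (fun h k hhk _ => (haveI : LocallyOfFiniteType (h ≫ k) := hhk; locallyOfFiniteType_of_comp h k))
      hR (IsAlgSpace.yon_obj _) (IsAlgSpace.yon_obj U) (hn₂ ▸ hsnd) (locP_top _)
  have hqf := locP_lqf_of_mono_lft hR n₀ hn
  obtain ⟨R, ⟨χ⟩⟩ := exists_yon_iso_of_mono_lqf hR n₀ hqf
  let n : R ⟶ pullback (toBase U) (toBase U) := pre (χ.hom ≫ n₀)
  have hn' : (yon S).map n = χ.hom ≫ n₀ := map_pre _
  refine ⟨R, n ≫ pullback.fst _ _, n ≫ pullback.snd _ _, IsPullback.of_iso_pullback ⟨?_⟩ (χ ≪≫ sq.isoPullback) ?_ ?_,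
    n, rfl, rfl, ?_⟩
  · simp only [Functor.map_comp, hn', Category.assoc, reassoc_of% hn₁, reassoc_of% hn₂]
    exact congrArg (χ.hom ≫ ·) (by simpa using sq.w)
  · simp only [Functor.map_comp, hn', Category.assoc, hn₁]; simp
  · simp only [Functor.map_comp, hn', Category.assoc, hn₂]; simp
  have hm : Mono ((yon S).map n) := by rw [hn']; infer_instance
  haveI : Mono n := (yon S).mono_of_mono_map hm
  haveI : Mono n.left := inferInstanceAs (Mono ((Over.forget S).map n))
  have hl : LocP (@LocallyQuasiFinite ⊓ @LocallyOfFiniteType) ((yon S).map n) := by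
    intro U' V' a' b' h' ha' hb' w'
    rw [hn', ← Category.assoc] at w'
    exact hqf _ b' h' (repWith_comp ha' (repWith_iso χ.hom)) hb' w'
  haveI : IsIso (pullback.diagonal n.left) := inferInstance
  exact ⟨(isSeparated_iff _).2 inferInstance, (locP_yon_map hl).1, (locP_yon_map hl).2⟩

/-- Representability of the diagonal from an fppf cover by an algebraic space. -/
theorem representable_diag_of_fppf_cover {F X : Sp S} (hX : IsAlgSpace X) (p : X ⟶ F)
    (hp : RepBySpWith (IsSurjectiveMor ⊓ LocP @Flat ⊓ LocP @LocallyOfFinitePresentation) p.hom) :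
    Representable (Limits.diag F) := by
  intro T y
  obtain ⟨U, a, ha, has⟩ := hX.atlas
  obtain ⟨R, r₁, r₂, sqR, n, hn₁, hn₂, hns, hnq, hnl⟩ := exists_rel_of_fppf_cover hX p hp a ha
  haveI := hns; haveI := hnq; haveI := hnl
  have lift : ∀ {A : Over S} (x : (yon S).obj A ⟶ F), ∃ (A' : Over S) (e : A' ⟶ A) (z : A' ⟶ U),
      Flat e.left ∧ LocallyOfFinitePresentation e.left ∧ Surjective e.left ∧
        (yon S).map z ≫ a ≫ p = (yon S).map e ≫ x := by
    intro A x
    obtain ⟨A₁, e₁, z₁, h₁, h₂, h₃, hz⟩ := exists_fppf_lift_of_repBySpWith hp x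
    obtain ⟨A₂, e₂, z₂, k₁, k₂, k₃, hz₂⟩ := exists_lift_of_atlas ha has A₁ z₁
    refine ⟨A₂, e₂ ≫ e₁, z₂, ?_, ?_, ?_, ?_⟩
    · rw [Over.comp_left]; infer_instance
    · rw [Over.comp_left]; infer_instance
    · rw [Over.comp_left]; infer_instance
    · rw [← Category.assoc, ← hz₂, Category.assoc, hz, Functor.map_comp, Category.assoc]
  obtain ⟨T₁, e₁, z₁, a₁, a₂, a₃, hz₁⟩ := lift (y ≫ prod.fst)
  obtain ⟨T₂, e₂, z₂, b₁, b₂, b₃, hz₂⟩ := lift ((yon S).map e₁ ≫ y ≫ prod.snd)
  let e := e₂ ≫ e₁
  haveI : Flat e.left := by rw [Over.comp_left]; infer_instance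
  haveI : LocallyOfFinitePresentation e.left := by rw [Over.comp_left]; infer_instance
  haveI : Surjective e.left := by rw [Over.comp_left]; infer_instance
  let z : T₂ ⟶ pullback (toBase U) (toBase U) := pullback.lift (e₂ ≫ z₁) z₂
    ((yon S).map_injective (yon_toBase_unique _ _))
  let Q := (yon S).map (pullback.fst (toBase U) (toBase U)) ≫ a ≫ p
  let Q' := (yon S).map (pullback.snd (toBase U) (toBase U)) ≫ a ≫ p
  have sqΔ : IsPullback ((yon S).map r₁ ≫ a ≫ p) ((yon S).map n) (Limits.diag F) (prod.lift Q Q') := by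
    have hnn₁ : (yon S).map n ≫ (yon S).map (pullback.fst _ _) = (yon S).map r₁ := by rw [← Functor.map_comp, hn₁]
    have hnn₂ : (yon S).map n ≫ (yon S).map (pullback.snd _ _) = (yon S).map r₂ := by rw [← Functor.map_comp, hn₂]
    have w : ((yon S).map r₁ ≫ a ≫ p) ≫ Limits.diag F = (yon S).map n ≫ prod.lift Q Q' := by
      ext1
      · simp [Q, reassoc_of% hnn₁]
      · simp only [Category.assoc, prod.lift_snd, Limits.diag, Category.comp_id, Q', reassoc_of% hnn₂]
        simpa using sqR.w
    have hQ := (IsPullback.of_hasPullback (toBase U) (toBase U)).map (yon S)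
    have key : ∀ {A : Sp S} (u : A ⟶ F) (v : A ⟶ (yon S).obj (pullback (toBase U) (toBase U))),
        u ≫ Limits.diag F = v ≫ prod.lift Q Q' →
        (v ≫ (yon S).map (pullback.fst _ _)) ≫ a ≫ p = u ∧ (v ≫ (yon S).map (pullback.snd _ _)) ≫ a ≫ p = u := by
      intro A u v h
      exact ⟨by simpa [Q] using (congrArg (· ≫ prod.fst) h).symm, by simpa [Q'] using (congrArg (· ≫ prod.snd) h).symm⟩
    refine IsPullback.of_isLimit' ⟨w⟩ (PullbackCone.IsLimit.mk _
      (fun c => sqR.lift _ _ ((key c.fst c.snd c.condition).1.trans (key c.fst c.snd c.condition).2.symm))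
      (fun c => ?_) (fun c => ?_) fun c m h₁ h₂ => ?_)
    · rw [sqR.lift_fst_assoc]; exact (key c.fst c.snd c.condition).1
    · apply hQ.hom_ext
      · rw [Category.assoc, hnn₁, sqR.lift_fst]
      · rw [Category.assoc, hnn₂, sqR.lift_snd]
    · apply sqR.hom_ext
      · rw [sqR.lift_fst, ← hnn₁, ← Category.assoc, h₂]
      · rw [sqR.lift_snd, ← hnn₂, ← Category.assoc, h₂]
  have hy : (yon S).map z ≫ prod.lift Q Q' = (yon S).map e ≫ y := by
    ext1
    · simp only [Category.assoc, prod.lift_fst, Q, ← Functor.map_comp_assoc, z, pullback.lift_fst, e]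
      simp only [Functor.map_comp, Category.assoc, hz₁]
    · simp only [Category.assoc, prod.lift_snd, Q', ← Functor.map_comp_assoc, z, pullback.lift_snd, e]
      simp only [Functor.map_comp, Category.assoc, hz₂]
  have sqW : IsPullback ((yon S).map (pullback.fst n z) ≫ (yon S).map r₁ ≫ a ≫ p) ((yon S).map (pullback.snd n z))
      (Limits.diag F) ((yon S).map e ≫ y) := by
    rw [← hy]
    exact ((IsPullback.of_hasPullback n z).map (yon S)).paste_horiz sqΔ
  have hW := (IsPullback.of_hasPullback n z).map (Over.forget S)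
  haveI : IsSeparated (pullback.snd n z).left := MorphismProperty.of_isPullback (P := @IsSeparated) hW hns
  haveI : LocallyQuasiFinite (pullback.snd n z).left :=
    MorphismProperty.of_isPullback (P := @LocallyQuasiFinite) hW hnq
  haveI : LocallyOfFiniteType (pullback.snd n z).left :=
    MorphismProperty.of_isPullback (P := @LocallyOfFiniteType) hW hnl
  obtain ⟨V, fst, snd, sqV, -⟩ := exists_sq_of_fppf_cover (Limits.diag F) y e sqW
  exact ⟨V, snd, fst, sqV⟩

end Groth.Agent.AlgSpc
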