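import Groth.Agent.AlgSpc.LocP
import Groth.Agent.AlgSpc.EtLocInst
import Groth.Prelude.Def_AlgSpRep
import Groth.Prelude.Def_AlgSp4

/-!
fppf local surjectivity of flat, locally finitely presented, surjective morphisms.
-/

universe u

open CategoryTheory CategoryTheory.Limits AlgebraicGeometry Opposite

set_option backward.isDefEq.respectTransparency false

namespace Groth.Agent.AlgSpc

open _root_.AlgSp

variable {S : Scheme.{u}}

/-- A sieve containing a flat, locally finitely presented, surjective morphism covers. -/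
theorem mem_J_of_cover {V T : Over S} (q : V ⟶ T) [Flat q.left] [LocallyOfFinitePresentation q.left]
    [Surjective q.left] {R : Sieve T} (hR : R q) : R ∈ J S T := by
  rw [J_eq, GrothendieckTopology.mem_over_iff]
  refine GrothendieckTopology.superset_covering _ ?_
    (Precoverage.generate_mem_toGrothendieck q.left.singleton_mem_fppfPrecoverage)
  rw [Sieve.generate_le_iff]
  rintro Z g ⟨⟩
  rw [Sieve.overEquiv_iff]
  have h : R ((Over.homMk (𝟙 V.left) (by simp) : Over.mk (q.left ≫ T.hom) ⟶ V) ≫ q) :=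
    R.downward_closed hR _
  convert! h

/-- Sections lifting locally make a morphism of sheaves locally surjective. -/
theorem isLocallySurjective_of_exists {F G : Sp S} {a : F ⟶ G}
    (h : ∀ (T : Over S) (g : (yon S).obj T ⟶ G), ∃ (V : Over S) (q : V ⟶ T) (x : (yon S).obj V ⟶ F),
      Flat q.left ∧ LocallyOfFinitePresentation q.left ∧ Surjective q.left ∧ x ≫ a = (yon S).map q ≫ g) :
    Sheaf.IsLocallySurjective a := by
  refine ⟨fun {T} s => ?_⟩
  obtain ⟨g, rfl⟩ := ((J S).uliftYonedaEquiv.{u + 1}).surjective s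
  obtain ⟨V, q, x, hq₁, hq₂, hq₃, w⟩ := h T g
  refine mem_J_of_cover q ⟨(J S).uliftYonedaEquiv.{u + 1} x, ?_⟩
  rw [← GrothendieckTopology.uliftYonedaEquiv_comp, w]
  exact ((J S).uliftYonedaEquiv_naturality g q).symm

theorem isLocallySurjective_of_repWith {F G : Sp S} {a : F ⟶ G} (h₁ : RepWith @Flat a)
    (h₂ : RepWith @LocallyOfFinitePresentation a) (h₃ : RepWith @Surjective a) :
    Sheaf.IsLocallySurjective a := by
  refine isLocallySurjective_of_exists fun T g => ?_
  obtain ⟨V, fst, snd, sq⟩ := exists_sq h₁.1 g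
  exact ⟨V, snd, fst, h₁.2 g fst snd sq, h₂.2 g fst snd sq, h₃.2 g fst snd sq, sq.w⟩

theorem isLocallySurjective_of_repBySpWith {F G : Sp S} {a : F ⟶ G}
    (ha : RepBySpWith (IsSurjectiveMor ⊓ LocP @Flat ⊓ LocP @LocallyOfFinitePresentation) a.hom) :
    Sheaf.IsLocallySurjective a := by
  refine isLocallySurjective_of_exists fun T g => ?_
  obtain ⟨hP, ⟨hs, hfl⟩, hfp⟩ := (repBySpWith_hom_iff _ a).1 ha g _ _ (IsPullback.of_hasPullback a g)
  obtain ⟨V, p, hp, hps⟩ := hP.atlas
  let q := pre (p ≫ pullback.snd a g)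
  have w : p ≫ pullback.snd a g = (yon S).map q ≫ 𝟙 _ := by simp [q]
  have hid : RepWith @Etale (𝟙 ((yon S).obj T)) := repWith_id _ T
  refine ⟨V, q, p ≫ pullback.fst a g, hfl p _ q hp hid w, hfp p _ q hp hid w, ⟨fun t => ?_⟩, ?_⟩
  · obtain ⟨x, hx⟩ := hs (Points.ofScheme T t)
    obtain ⟨v, rfl⟩ := surjective_ofPt hps x
    refine ⟨v, ?_⟩
    rw [Points.map_ofPt] at hx
    rw [← map_pre (p ≫ pullback.snd a g)] at hx
    have := congrArg (Points.toScheme T) hx
    rwa [Points.toScheme_ofPt, Points.toScheme_ofScheme] at this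
  · rw [Category.assoc, pullback.condition]
    simp [q]

end Groth.Agent.AlgSpc
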