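import Groth.Agent.Weighting.EtaleNbhd
import Mathlib.AlgebraicGeometry.AlgClosed.Basic
import Mathlib.AlgebraicGeometry.Morphisms.QuasiFinite
import Mathlib.AlgebraicGeometry.Morphisms.Etale
import Mathlib.FieldTheory.IsAlgClosed.AlgebraicClosure

/-!
Etale localization of a quasi-finite morphism of affine schemes isolating one geometric point.
-/

set_option autoImplicit false
set_option linter.style.haveILetI false
set_option backward.isDefEq.respectTransparency false

universe u

open CategoryTheory CategoryTheory.Limits AlgebraicGeometry TensorProduct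

namespace Groth.Agent.AlgSpc

theorem exists_etale_split_spec {A B : CommRingCat.{u}} (φ : A ⟶ B) (hft : φ.hom.FiniteType)
    (hqf : φ.hom.QuasiFinite) (x : ↥(Spec B)) :
    ∃ (Y' : Scheme.{u}) (c : Y' ⟶ Spec A) (Z : Scheme.{u}) (iZ : Z ⟶ Y') (z : Z ⟶ Spec B)
      (w : z ≫ Spec.map φ = iZ ≫ c), IsAffine Y' ∧ Etale c ∧ IsFinite iZ ∧
        IsOpenImmersion (pullback.lift z iZ w) ∧ IsClosedImmersion (pullback.lift z iZ w) ∧
      ∃ (K : Type u) (_ : Field K) (_ : IsAlgClosed K) (τ : Spec (.of K) ⟶ Z),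
        (τ ≫ z) (IsLocalRing.closedPoint K) = x ∧
        ∀ a : Spec (.of K) ⟶ Z, a ≫ iZ = τ ≫ iZ → a = τ := by
  algebraize [φ.hom]
  let K := AlgebraicClosure x.asIdeal.ResidueField
  let ρ : B →+* K := (algebraMap x.asIdeal.ResidueField K).comp (algebraMap B x.asIdeal.ResidueField)
  let _ : Algebra A K := (ρ.comp φ.hom).toAlgebra
  let xh : B →ₐ[A] K := { toRingHom := ρ, commutes' := fun a => rfl }
  have hker : RingHom.ker xh.toRingHom = x.asIdeal := by
    ext b
    change algebraMap x.asIdeal.ResidueField K (algebraMap B _ b) = 0 ↔ _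
    rw [map_eq_zero_iff _ (RingHom.injective _), Ideal.algebraMap_residueField_eq_zero]
  haveI : (RingHom.ker xh.toRingHom).IsPrime := RingHom.ker_isPrime _
  haveI : Algebra.QuasiFiniteAt A (RingHom.ker xh.toRingHom) := inferInstance
  obtain ⟨A', _, _, _, v, e, he, hfin, hne, huniq⟩ := Weighting.exists_etale_nbhd_algHom xh
  let C := Localization.Away e
  let iA : CommRingCat.of A' ⟶ CommRingCat.of C := CommRingCat.ofHom (algebraMap A' C)
  let iB : B ⟶ CommRingCat.of C := CommRingCat.ofHom
    ((algebraMap (A' ⊗[A] B) C).comp Algebra.TensorProduct.includeRight.toRingHom)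
  let c : Spec (.of A') ⟶ Spec A := Spec.map (CommRingCat.ofHom (algebraMap A A'))
  have w : Spec.map iB ≫ Spec.map φ = Spec.map iA ≫ c := by
    simp only [c, ← Spec.map_comp]
    congr 1
    ext a
    change algebraMap (A' ⊗[A] B) C (Algebra.TensorProduct.includeRight (φ.hom a)) = algebraMap A' C (algebraMap A A' a)
    rw [IsScalarTower.algebraMap_apply A' (A' ⊗[A] B) C]
    congr 1
    exact (Algebra.TensorProduct.includeRight : B →ₐ[A] A' ⊗[A] B).commutes a |>.trans
      ((Algebra.TensorProduct.includeLeft : A' →ₐ[A] A' ⊗[A] B).commutes a).symm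
  let E : pullback (Spec.map φ) c ≅ Spec (.of (A' ⊗[A] B)) :=
    pullbackSymmetry _ _ ≪≫ pullbackSpecIso A A' B
  have hE : pullback.lift (Spec.map iB) (Spec.map iA) w ≫ E.hom =
      Spec.map (CommRingCat.ofHom (algebraMap (A' ⊗[A] B) C)) := by
    rw [← Iso.eq_comp_inv]
    apply pullback.hom_ext
    · rw [pullback.lift_fst]
      simp only [E, Iso.trans_inv, Category.assoc]
      erw [pullbackSymmetry_inv_comp_fst, pullbackSpecIso_inv_snd, ← Spec.map_comp]
      rfl
    · rw [pullback.lift_snd]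
      simp only [E, Iso.trans_inv, Category.assoc]
      erw [pullbackSymmetry_inv_comp_snd, pullbackSpecIso_inv_fst, ← Spec.map_comp]
      rfl
  have hop : IsOpenImmersion (Spec.map (CommRingCat.ofHom (algebraMap (A' ⊗[A] B) C))) :=
    IsOpenImmersion.of_isLocalization e
  have hcl : IsClosedImmersion (Spec.map (CommRingCat.ofHom (algebraMap (A' ⊗[A] B) C))) := by
    refine IsClosedImmersion.spec_of_surjective _ ?_
    intro y
    obtain ⟨a, ⟨_, n, rfl⟩, rfl⟩ := IsLocalization.exists_mk'_eq (Submonoid.powers e) y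
    refine ⟨a, ?_⟩
    rw [IsLocalization.eq_mk'_iff_mul_eq]
    have hu : algebraMap (A' ⊗[A] B) C e = 1 :=
      (IsIdempotentElem.iff_eq_one_of_isUnit (IsLocalization.Away.algebraMap_isUnit e)).1 (he.map _)
    change algebraMap _ C a * algebraMap _ C (e ^ n) = algebraMap _ C a
    rw [map_pow, hu, one_pow, mul_one]
  let τh : A' ⊗[A] B →ₐ[A] K := Algebra.TensorProduct.lift v xh (fun _ _ ↦ .all _ _)
  have hτe : IsUnit (τh.toRingHom e) := isUnit_iff_ne_zero.2 hne
  let τ : Spec (.of K) ⟶ Spec (.of C) :=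
    Spec.map (CommRingCat.ofHom (IsLocalization.Away.lift e hτe))
  refine ⟨Spec (.of A'), c, Spec (.of C), Spec.map iA, Spec.map iB, w, inferInstance,
    HasRingHomProperty.Spec_iff.mpr (RingHom.etale_algebraMap.mpr ‹_›),
    (by rw [IsFinite.SpecMap_iff]; exact RingHom.finite_algebraMap.mpr hfin), ?_, ?_, K, inferInstance, inferInstance, τ, ?_, ?_⟩
  · rw [← MorphismProperty.cancel_right_of_respectsIso @IsOpenImmersion _ E.hom, hE]; exact hop
  · rw [← MorphismProperty.cancel_right_of_respectsIso @IsClosedImmersion _ E.hom, hE]; exact hcl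
  · simp only [τ, ← Spec.map_comp]
    apply PrimeSpectrum.ext
    ext b
    rw [show b ∈ x.asIdeal ↔ xh b = 0 from (SetLike.ext_iff.1 hker b).symm]
    change IsLocalization.Away.lift e hτe (algebraMap (A' ⊗[A] B) C (Algebra.TensorProduct.includeRight b)) ∈
      IsLocalRing.maximalIdeal K ↔ _
    rw [IsLocalization.Away.lift_eq, IsLocalRing.maximalIdeal_eq_bot, Ideal.mem_bot]
    change τh (Algebra.TensorProduct.includeRight b) = 0 ↔ xh b = 0
    simp [τh]
  · intro a ha
    obtain ⟨a, rfl⟩ := Spec.map_surjective a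
    congr 1
    simp only [τ, ← Spec.map_comp] at ha
    have ha' := Spec.map_injective ha
    have hA : ∀ t : A', a.hom (algebraMap A' C t) = v t := fun t => by
      have := congr($(ha').hom t)
      change a.hom (algebraMap A' C t) = IsLocalization.Away.lift e hτe (algebraMap A' C t) at this
      rw [this, IsScalarTower.algebraMap_apply A' (A' ⊗[A] B) C, IsLocalization.Away.lift_eq]
      simp [τh]
    let x' : B →ₐ[A] K :=
      { toRingHom := a.hom.comp iB.hom
        commutes' := fun t => by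
          have h1 : iB.hom (φ.hom t) = algebraMap A' C (algebraMap A A' t) := by
            change algebraMap (A' ⊗[A] B) C (Algebra.TensorProduct.includeRight (φ.hom t)) = _
            rw [IsScalarTower.algebraMap_apply A' (A' ⊗[A] B) C]
            congr 1
            exact (Algebra.TensorProduct.includeRight : B →ₐ[A] A' ⊗[A] B).commutes t |>.trans
              ((Algebra.TensorProduct.includeLeft : A' →ₐ[A] A' ⊗[A] B).commutes t).symm
          change a.hom (iB.hom (φ.hom t)) = _
          rw [h1, hA, v.commutes] }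
    have hfac : ∀ t : A' ⊗[A] B, a.hom (algebraMap _ C t) =
        Algebra.TensorProduct.lift v x' (fun _ _ ↦ .all _ _) t := by
      intro t
      induction t using TensorProduct.induction_on with
      | zero => simp
      | add p q hp hq => simp only [map_add, hp, hq]
      | tmul p q =>
        rw [Algebra.TensorProduct.lift_tmul, ← hA]
        change _ = a.hom (algebraMap A' C p) * a.hom (algebraMap (A' ⊗[A] B) C (1 ⊗ₜ q))
        rw [IsScalarTower.algebraMap_apply A' (A' ⊗[A] B) C, ← map_mul, ← map_mul,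
          Algebra.TensorProduct.algebraMap_apply, Algebra.TensorProduct.tmul_mul_tmul]
        simp
    have hx' : x' = xh := huniq x' (by
      rw [← hfac]
      exact ((IsLocalization.Away.algebraMap_isUnit e).map a.hom).ne_zero)
    ext1
    refine IsLocalization.ringHom_ext (Submonoid.powers e) ?_
    refine RingHom.ext fun t => ?_
    change a.hom (algebraMap _ C t) = IsLocalization.Away.lift e hτe (algebraMap _ C t)
    rw [IsLocalization.Away.lift_eq, hfac, hx']
    rfl

theorem exists_etale_split {X Y : Scheme.{u}} [IsAffine X] [IsAffine Y] (f : X ⟶ Y)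
    [LocallyOfFiniteType f] [LocallyQuasiFinite f] (x : X) :
    ∃ (Y' : Scheme.{u}) (c : Y' ⟶ Y) (Z : Scheme.{u}) (iZ : Z ⟶ Y') (z : Z ⟶ X)
      (w : z ≫ f = iZ ≫ c), IsAffine Y' ∧ Etale c ∧ IsFinite iZ ∧
        IsOpenImmersion (pullback.lift z iZ w) ∧ IsClosedImmersion (pullback.lift z iZ w) ∧
      ∃ (K : Type u) (_ : Field K) (_ : IsAlgClosed K) (τ : Spec (.of K) ⟶ Z),
        (τ ≫ z) (IsLocalRing.closedPoint K) = x ∧
        ∀ a : Spec (.of K) ⟶ Z, a ≫ iZ = τ ≫ iZ → a = τ := by
  obtain ⟨Y', c, Z, iZ, z, w, hA, hE, hF, hO, hC, K, _, _, τ, hτ, hu⟩ := exists_etale_split_spec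
    f.appTop ((HasRingHomProperty.iff_of_isAffine (P := @LocallyOfFiniteType)).1 ‹_›)
    ((HasRingHomProperty.iff_of_isAffine (P := @LocallyQuasiFinite)).1 ‹_›) (X.isoSpec.hom x)
  have hn : f ≫ Y.isoSpec.hom = X.isoSpec.hom ≫ Spec.map f.appTop := (Scheme.isoSpec_hom_naturality f).symm
  have w' : (z ≫ X.isoSpec.inv) ≫ f = iZ ≫ (c ≫ Y.isoSpec.inv) := by
    rw [← reassoc_of% w, ← cancel_mono Y.isoSpec.hom]
    simp [hn]
  let E : pullback (Spec.map f.appTop) c ≅ pullback f (c ≫ Y.isoSpec.inv) :=
    asIso (pullback.map (Spec.map f.appTop) c f (c ≫ Y.isoSpec.inv) X.isoSpec.inv (𝟙 _) Y.isoSpec.inv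
      (by rw [← cancel_mono Y.isoSpec.hom]; simp [hn]) (by simp))
  have hlift : pullback.lift (z ≫ X.isoSpec.inv) iZ w' = pullback.lift z iZ w ≫ E.hom := by
    apply pullback.hom_ext <;> simp [E]
  refine ⟨Y', c ≫ Y.isoSpec.inv, Z, iZ, z ≫ X.isoSpec.inv, w', hA, inferInstance, hF, ?_, ?_, K, inferInstance,
    inferInstance, τ, ?_, hu⟩
  · rw [hlift]; infer_instance
  · rw [hlift]; infer_instance
  · rw [← Category.assoc, Scheme.Hom.comp_apply, hτ, ← Scheme.Hom.comp_apply, Iso.hom_inv_id]
    rfl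

end Groth.Agent.AlgSpc
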