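import Groth.Agent.AlgSpc.EtSplit
import Groth.Agent.AlgSpc.CoverTest2

/-!
An etale neighbourhood over which a piece of a chart of a separated locally quasi-finite space embeds.
-/

set_option autoImplicit false
set_option linter.style.haveILetI false
set_option backward.isDefEq.respectTransparency false

universe u

open CategoryTheory CategoryTheory.Limits AlgebraicGeometry Opposite

namespace Groth.Agent.AlgSpc.SepLQF

open _root_.AlgSp Groth.Agent.AlgSpc Groth.Agent.AlgSpLoc

variable {S : Scheme.{u}}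

theorem exists_point_of_finite_fibre {C Y : Scheme.{u}} (f : C ⟶ Y) [IsFinite f] {K : Type u} [Field K]
    [IsAlgClosed K] (y : Spec (.of K) ⟶ Y) {c : C} (hc : f c = y (IsLocalRing.closedPoint K)) :
    ∃ a : Spec (.of K) ⟶ C, a ≫ f = y ∧ a (IsLocalRing.closedPoint K) = c := by
  obtain ⟨q, hq, -⟩ := Scheme.Pullback.exists_preimage_pullback (f := f) (g := y) c (IsLocalRing.closedPoint K) hc
  haveI : DiscreteTopology ↥(pullback f y) := isDiscrete_univ_iff.1 (by
    have := (pullback.snd f y).isDiscrete_preimage_singleton (IsLocalRing.closedPoint K)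
    rwa [show (pullback.snd f y : pullback f y ⟶ _) ⁻¹' {IsLocalRing.closedPoint K} = Set.univ from
      Set.eq_univ_of_forall fun x => Subsingleton.elim _ _] at this)
  exact ⟨pointOfClosedPoint (pullback.snd f y) q (isClosed_discrete _) ≫ pullback.fst f y, by
    rw [Category.assoc, pullback.condition, pointOfClosedPoint_comp_assoc], by
    rw [Scheme.Hom.comp_apply, pointOfClosedPoint_apply, hq]⟩

theorem isOpenImmersion_diag_point {R U : Over S} {r₁ : R ⟶ U} [Etale r₁.left] (e : U ⟶ R) (he : e ≫ r₁ = 𝟙 U) :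
    IsOpenImmersion e.left := by
  haveI : Etale (e.left ≫ r₁.left) := by rw [← Over.comp_left, he]; exact (inferInstance : Etale (𝟙 U.left))
  haveI : Etale e.left := Etale.of_comp e.left r₁.left
  haveI : IsSplitMono e := ⟨⟨⟨r₁, he⟩⟩⟩
  haveI : Mono e.left := inferInstanceAs (Mono ((Over.forget S).map e))
  exact IsOpenImmersion.of_flat_of_mono e.left

/-- The data of an etale localization with an embedded finite piece. -/
theorem exists_split_shrunk {D : Sp S} {T U R : Over S} [IsAffine T.left] [IsAffine U.left]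
    {f : D ⟶ (yon S).obj T} {p : (yon S).obj U ⟶ D} {u : U ⟶ T} (hu : (yon S).map u = p ≫ f)
    {r₁ r₂ : R ⟶ U} (sqR : IsPullback ((yon S).map r₁) ((yon S).map r₂) p p) [Etale r₁.left]
    [LocallyOfFiniteType u.left] [LocallyQuasiFinite u.left]
    (lR : R ⟶ pullback u u) (hl₁ : lR ≫ pullback.fst u u = r₁) (hl₂ : lR ≫ pullback.snd u u = r₂)
    [IsClosedImmersion lR.left] (u₀ : ↥U.left) :
    ∃ (T' : Over S) (c : T' ⟶ T) (Z : Over S) (iZ : Z ⟶ T') (z : Z ⟶ U) (w : z ≫ u = iZ ≫ c),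
      IsAffine T'.left ∧ Etale c.left ∧ IsFinite iZ.left ∧
        IsOpenImmersion (pullback.lift z iZ w).left ∧ IsClosedImmersion (pullback.lift z iZ w).left ∧
        (∃ z₀, z.left z₀ = u₀) ∧
        ∀ ⦃W : Over S⦄ (a b : W ⟶ Z), a ≫ iZ = b ≫ iZ →
          (yon S).map (a ≫ z) ≫ p = (yon S).map (b ≫ z) ≫ p → a = b := by
  obtain ⟨Y', c₀, Z₀, iZ₀, z₀, w₀, hY, hc₀, hi₀, ho₀, hcl₀, K, _, _, τ, hτ, hτu⟩ :=
    exists_etale_split u.left u₀
  let T₁ : Over S := Over.mk (c₀ ≫ T.hom)
  let c₁ : T₁ ⟶ T := Over.homMk c₀ rfl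
  let Z₁ : Over S := Over.mk (iZ₀ ≫ c₀ ≫ T.hom)
  let i₁ : Z₁ ⟶ T₁ := Over.homMk iZ₀ rfl
  let z₁ : Z₁ ⟶ U := Over.homMk z₀ (show z₀ ≫ U.hom = iZ₀ ≫ c₀ ≫ T.hom by rw [← Over.w u, reassoc_of% w₀])
  have w₁ : z₁ ≫ u = i₁ ≫ c₁ := Over.OverMorphism.ext w₀
  haveI : IsAffine T₁.left := hY
  haveI : Etale c₁.left := hc₀
  haveI : IsFinite i₁.left := hi₀
  have hlift₁ : IsOpenImmersion (pullback.lift z₁ i₁ w₁).left ∧ IsClosedImmersion (pullback.lift z₁ i₁ w₁).left := by
    have s := FppfDescent.isPullback_forget (IsPullback.of_hasPullback u c₁)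
    have e : (pullback.lift z₁ i₁ w₁).left ≫ s.isoPullback.hom = pullback.lift z₀ iZ₀ w₀ := by
      apply pullback.hom_ext
      · erw [Category.assoc, s.isoPullback_hom_fst, ← Over.comp_left, pullback.lift_fst, pullback.lift_fst]; rfl
      · erw [Category.assoc, s.isoPullback_hom_snd, ← Over.comp_left, pullback.lift_snd, pullback.lift_snd]; rfl
    rw [← MorphismProperty.cancel_right_of_respectsIso @IsOpenImmersion _ s.isoPullback.hom,
      ← MorphismProperty.cancel_right_of_respectsIso @IsClosedImmersion _ s.isoPullback.hom, e]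
    exact ⟨ho₀, hcl₀⟩
  haveI := hlift₁.1; haveI := hlift₁.2
  haveI : Mono (pullback.lift z₁ i₁ w₁) :=
    (Over.forget S).mono_of_mono_map (inferInstanceAs (Mono (pullback.lift z₁ i₁ w₁).left))
  -- `Z ×_{X'} Z`
  let P := pullback i₁ i₁
  let a₁ := pullback.fst i₁ i₁
  let a₂ := pullback.snd i₁ i₁
  let m : P ⟶ pullback u u := pullback.lift (a₁ ≫ z₁) (a₂ ≫ z₁)
    (by rw [Category.assoc, Category.assoc, w₁, pullback.condition_assoc])
  let RZ := pullback lR m
  let g := pullback.snd lR m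
  haveI : IsClosedImmersion g.left :=
    MorphismProperty.of_isPullback (P := @IsClosedImmersion) (FppfDescent.isPullback_forget (IsPullback.of_hasPullback lR m)) ‹_›
  haveI : IsFinite a₁.left :=
    MorphismProperty.of_isPullback (P := @IsFinite) (FppfDescent.isPullback_forget (IsPullback.of_hasPullback i₁ i₁).flip) ‹_›
  let q : RZ ⟶ T₁ := g ≫ a₁ ≫ i₁
  haveI : IsFinite q.left := by
    dsimp [q]
    infer_instance
  obtain ⟨e, he₁, he₂⟩ : ∃ e : U ⟶ R, e ≫ r₁ = 𝟙 U ∧ e ≫ r₂ = 𝟙 U :=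
    ⟨pre (sqR.lift (𝟙 _) (𝟙 _) rfl), (yon S).map_injective (by simp), (yon S).map_injective (by simp)⟩
  haveI : IsOpenImmersion e.left := isOpenImmersion_diag_point e he₁
  have wδ : (z₁ ≫ e) ≫ lR = pullback.lift (𝟙 Z₁) (𝟙 Z₁) rfl ≫ m := by
    apply pullback.hom_ext <;> simp [m, a₁, a₂, hl₁, hl₂, he₁, he₂] <;> exact (Category.id_comp _).symm
  let δ : Z₁ ⟶ RZ := pullback.lift (z₁ ≫ e) (pullback.lift (𝟙 Z₁) (𝟙 Z₁) rfl) wδ
  have hpr₁ : (pullback.fst lR m) ≫ r₁ = g ≫ a₁ ≫ z₁ := by
    rw [← hl₁, pullback.condition_assoc]; simp [m, g]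
  have hpr₂ : (pullback.fst lR m) ≫ r₂ = g ≫ a₂ ≫ z₁ := by
    rw [← hl₂, pullback.condition_assoc]; simp [m, g]
  have sqδ : IsPullback z₁ δ e (pullback.fst lR m) := by
    have hδ : δ ≫ pullback.fst lR m = z₁ ≫ e := pullback.lift_fst _ _ _
    have hkey : ∀ x : PullbackCone e (pullback.fst lR m), (x.snd ≫ g ≫ a₁) ≫ z₁ = x.fst ∧
        x.snd ≫ g ≫ a₁ = x.snd ≫ g ≫ a₂ := fun x => by
      have e₁ : (x.snd ≫ g ≫ a₁) ≫ z₁ = x.fst := by
        rw [Category.assoc, Category.assoc, ← hpr₁, ← Category.assoc, ← x.condition, Category.assoc, he₁,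
          Category.comp_id]
      have e₂ : (x.snd ≫ g ≫ a₂) ≫ z₁ = x.fst := by
        rw [Category.assoc, Category.assoc, ← hpr₂, ← Category.assoc, ← x.condition, Category.assoc, he₂,
          Category.comp_id]
      refine ⟨e₁, ?_⟩
      rw [← cancel_mono (pullback.lift z₁ i₁ w₁)]
      apply pullback.hom_ext
      · rw [Category.assoc, Category.assoc (x.snd ≫ g ≫ a₂), pullback.lift_fst, e₁, e₂]
      · simp only [Category.assoc, pullback.lift_snd, a₁, a₂, pullback.condition]
    refine IsPullback.of_isLimit' ⟨hδ.symm⟩ (PullbackCone.IsLimit.mk _ (fun x => x.snd ≫ g ≫ a₁)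
      (fun x => (hkey x).1) (fun x => ?_) fun x n _ hn => ?_)
    · apply pullback.hom_ext
      · rw [Category.assoc, hδ, ← Category.assoc, (hkey x).1, x.condition]
      · rw [Category.assoc, pullback.lift_snd]
        apply pullback.hom_ext
        · simp [a₁, g]
        · rw [Category.assoc, pullback.lift_snd, Category.comp_id, (hkey x).2]; simp [a₂, g]
    · rw [← hn, Category.assoc, ← Category.assoc δ g a₁, pullback.lift_snd, pullback.lift_fst, Category.comp_id]
  haveI : IsOpenImmersion δ.left :=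
    MorphismProperty.of_isPullback (P := @IsOpenImmersion) (FppfDescent.isPullback_forget sqδ) ‹_›
  let Cs : Set ↥RZ.left := (Set.range δ.left)ᶜ
  have hB : IsClosed (q.left '' Cs) := q.left.isClosedMap _ δ.left.isOpenEmbedding.isOpen_range.isClosed_compl
  let t' := (τ ≫ iZ₀) (IsLocalRing.closedPoint K)
  have ht : t' ∉ q.left '' Cs := by
    rintro ⟨y, hy, hyt⟩
    obtain ⟨α, hα, hαy⟩ := exists_point_of_finite_fibre q.left (τ ≫ iZ₀) hyt
    have h₁ : α ≫ (g ≫ a₁).left = τ := by
      refine hτu _ ?_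
      rw [← hα, Category.assoc]
      rfl
    have h₂ : α ≫ (g ≫ a₂).left = τ := by
      refine hτu _ ?_
      have : (g ≫ a₂) ≫ i₁ = q := by rw [Category.assoc, ← pullback.condition]
      rw [← hα, ← this, Category.assoc]
      rfl
    -- the point lies on the diagonal
    let WK : Over S := Over.mk (α ≫ RZ.hom)
    let αK : WK ⟶ RZ := Over.homMk α rfl
    have e₁ : αK ≫ g ≫ a₁ = αK ≫ g ≫ a₂ := Over.OverMorphism.ext (h₁.trans h₂.symm)
    have : (αK ≫ g ≫ a₁) ≫ δ = αK := by
      apply pullback.hom_ext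
      · rw [Category.assoc, pullback.lift_fst]
        refine (yon S).map_injective (sqR.hom_ext ?_ ?_) <;> rw [← Functor.map_comp, ← Functor.map_comp] <;>
          congr 1 <;> simp only [Category.assoc, he₁, he₂, hpr₁, hpr₂, Category.comp_id]
        simpa [Category.assoc] using congrArg (· ≫ z₁) e₁
      · rw [Category.assoc, pullback.lift_snd]
        apply pullback.hom_ext
        · simp [a₁, g]
        · rw [Category.assoc, pullback.lift_snd, Category.comp_id, e₁]; simp [a₂, g]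
    exact hy ⟨(αK ≫ g ≫ a₁).left (IsLocalRing.closedPoint K), by
      rw [← Scheme.Hom.comp_apply, ← Over.comp_left, this]; exact hαy⟩
  obtain ⟨_, ⟨A, hA, rfl⟩, htA, hAB⟩ := T₁.left.isBasis_affineOpens.exists_subset_of_mem_open
    (show t' ∈ (q.left '' Cs)ᶜ from ht) hB.isOpen_compl
  haveI : IsAffine (openSub T₁ A).left := hA
  let T' := openSub T₁ A
  let j := openSubι T₁ A
  let Z := pullback i₁ j
  have hsqZ := FppfDescent.isPullback_forget (IsPullback.of_hasPullback i₁ j)
  let iZ : Z ⟶ T' := pullback.snd i₁ j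
  haveI : IsFinite iZ.left := MorphismProperty.of_isPullback (P := @IsFinite) hsqZ ‹_›
  have w : (pullback.fst i₁ j ≫ z₁) ≫ u = iZ ≫ (j ≫ c₁) := by
    rw [Category.assoc, w₁, pullback.condition_assoc]
  have hsq : IsPullback (pullback.fst i₁ j) (pullback.lift (pullback.fst i₁ j ≫ z₁) iZ w)
      (pullback.lift z₁ i₁ w₁)
      (pullback.lift (pullback.fst u (j ≫ c₁)) (pullback.snd u (j ≫ c₁) ≫ j)
        (by rw [pullback.condition, Category.assoc])) := by
    have s₂ : IsPullback (pullback.lift (pullback.fst u (j ≫ c₁)) (pullback.snd u (j ≫ c₁) ≫ j)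
        (by rw [pullback.condition, Category.assoc])) (pullback.snd u (j ≫ c₁)) (pullback.snd u c₁) j := by
      refine IsPullback.of_right (h₁₂ := pullback.fst u c₁) (v₁₃ := u) (h₂₂ := c₁) ?_ (pullback.lift_snd _ _ _)
        (IsPullback.of_hasPullback u c₁)
      rw [pullback.lift_fst]
      exact IsPullback.of_hasPullback u (j ≫ c₁)
    refine IsPullback.of_bot (h₃₁ := j) (v₂₁ := pullback.snd u (j ≫ c₁)) (v₂₂ := pullback.snd u c₁) ?_ ?_ s₂
    · rw [pullback.lift_snd, pullback.lift_snd]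
      exact IsPullback.of_hasPullback i₁ j
    · apply pullback.hom_ext <;> simp [iZ, pullback.condition, w₁]
  obtain ⟨zz, hzz, -⟩ := Scheme.exists_preimage_of_isPullback hsqZ (τ (IsLocalRing.closedPoint K))
    (⟨t', htA⟩ : (A : Scheme.{u})) rfl
  refine ⟨T', j ≫ c₁, Z, iZ, pullback.fst i₁ j ≫ z₁, w, hA, ?_, inferInstance,
    MorphismProperty.of_isPullback (P := @IsOpenImmersion) (FppfDescent.isPullback_forget hsq) ‹_›,
    MorphismProperty.of_isPullback (P := @IsClosedImmersion) (FppfDescent.isPullback_forget hsq) ‹_›,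
    ⟨zz, ?_⟩, fun W a b hab hp => ?_⟩
  · rw [Over.comp_left]; infer_instance
  · rw [Over.comp_left, Scheme.Hom.comp_apply, hzz]
    exact hτ
  haveI : Mono j := (Over.forget S).mono_of_mono_map (inferInstanceAs (Mono (Scheme.Opens.ι A)))
  suffices h : a ≫ pullback.fst i₁ j = b ≫ pullback.fst i₁ j from pullback.hom_ext h hab
  let k : W ⟶ P := pullback.lift (a ≫ pullback.fst i₁ j) (b ≫ pullback.fst i₁ j)
    (by simp only [Category.assoc, pullback.condition]; rw [← Category.assoc, hab, Category.assoc])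
  let r : W ⟶ R := pre (sqR.lift _ _ hp)
  have hr₁ : r ≫ r₁ = a ≫ pullback.fst i₁ j ≫ z₁ := (yon S).map_injective (by simp [r])
  have hr₂ : r ≫ r₂ = b ≫ pullback.fst i₁ j ≫ z₁ := (yon S).map_injective (by simp [r])
  have hrk : r ≫ lR = k ≫ m := by
    apply pullback.hom_ext <;> simp [m, k, a₁, a₂, hl₁, hl₂, hr₁, hr₂]
  let n : W ⟶ RZ := pullback.lift r k hrk
  let O : RZ.left.Opens := ⟨Set.range δ.left, δ.left.isOpenEmbedding.isOpen_range⟩
  have hn : ∀ x, n.left x ∈ Set.range δ.left := fun x => by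
    by_contra hx
    have e : q.left (n.left x) = j.left ((a ≫ iZ).left x) := by
      rw [← Scheme.Hom.comp_apply, ← Scheme.Hom.comp_apply, ← Over.comp_left, ← Over.comp_left]
      congr 3
      simp only [q, n, g, a₁, pullback.lift_snd_assoc, k, pullback.lift_fst_assoc, Category.assoc]
      simp [iZ, pullback.condition]
    exact hAB ((range_openSubι T₁ A).le ⟨_, rfl⟩) ⟨n.left x, hx, e⟩
  let v := IsOpenImmersion.lift δ.left n.left (by rintro _ ⟨x, rfl⟩; exact hn x)
  have hv : v ≫ δ.left = n.left := IsOpenImmersion.lift_fac _ _ _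
  apply Over.OverMorphism.ext
  have hδ₁ : δ ≫ g ≫ a₁ = δ ≫ g ≫ a₂ := by simp [δ, g, a₁, a₂]
  have := congrArg (fun φ : Z₁ ⟶ Z₁ => v ≫ φ.left) hδ₁
  simp only [Over.comp_left, ← Category.assoc, hv] at this
  simp only [← Over.comp_left] at this
  simpa [n, g, a₁, a₂, k] using this

end Groth.Agent.AlgSpc.SepLQF
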