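import Groth.Agent.AlgSpc.SepLQFSplit

/-!
Separated locally quasi-finite algebraic spaces over an affine scheme: schematic neighbourhoods.
-/

set_option autoImplicit false
set_option linter.style.haveILetI false
set_option linter.unusedVariables false
set_option backward.isDefEq.respectTransparency false

universe u

open CategoryTheory CategoryTheory.Limits AlgebraicGeometry Opposite

namespace Groth.Agent.AlgSpc.SepLQF

open _root_.AlgSp Groth.Agent.AlgSpc Groth.Agent.AlgSpLoc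

variable {S : Scheme.{u}}

set_option maxHeartbeats 1600000 in
/-- Every point of the chart has a schematic open neighbourhood in the space. -/
theorem exists_scheme_nbhd {D : Sp S} {T U R : Over S} [IsAffine T.left] [IsAffine U.left] [IsAffine R.left]
    {f : D ⟶ (yon S).obj T} {p : (yon S).obj U ⟶ D} (hpE : RepWith @Etale p) (hpS : RepWith @Surjective p)
    {u : U ⟶ T} (hu : (yon S).map u = p ≫ f)
    {r₁ r₂ : R ⟶ U} (sqR : IsPullback ((yon S).map r₁) ((yon S).map r₂) p p) [Etale r₁.left] [Etale r₂.left]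
    [LocallyOfFiniteType u.left] [LocallyQuasiFinite u.left]
    (lR : R ⟶ pullback u u) (hl₁ : lR ≫ pullback.fst u u = r₁) (hl₂ : lR ≫ pullback.snd u u = r₂)
    [IsClosedImmersion lR.left] (u₀ : ↥U.left) :
    ∃ (V : Over S) (ev : (yon S).obj V ⟶ D), RepWith @IsOpenImmersion ev ∧
      Points.ofPt p u₀ ∈ Set.range (Points.ofPt ev) := by
  haveI : Sheaf.IsLocallySurjective p :=
    isLocallySurjective_of_repWith (repWith_mono (P := @Etale) (Q := @Flat) (fun _ _ f (h : Etale f) => inferInstance) hpE)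
      (repWith_mono (P := @Etale) (Q := @LocallyOfFinitePresentation) (fun _ _ f (h : Etale f) => inferInstance) hpE) hpS
  haveI : Epi p := inferInstance
  have hw : r₁ ≫ u = r₂ ≫ u := (yon S).map_injective (by simp [hu, reassoc_of% sqR.w])
  obtain ⟨B₀, hB₀, b₀, π₀, hπb, hπr, hstab⟩ := exists_stable_coequalizer u.left r₁.left r₂.left
    (congrArg CommaMorphism.left hw)
  let B : Over S := Over.mk (b₀ ≫ T.hom)
  let b : B ⟶ T := Over.homMk b₀ rfl
  let π : U ⟶ B := Over.homMk π₀ (show π₀ ≫ b₀ ≫ T.hom = U.hom by rw [reassoc_of% hπb]; exact Over.w u)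
  have : IsAffine B.left := hB₀
  have hπb' : π ≫ b = u := Over.OverMorphism.ext hπb
  haveI := effectiveEpi_of_epi p
  obtain ⟨m, hm⟩ : ∃ m : D ⟶ (yon S).obj B, p ≫ m = (yon S).map π := by
    refine ⟨EffectiveEpi.desc p ((yon S).map π) fun g₁ g₂ w => ?_, EffectiveEpi.fac _ _ _⟩
    rw [← sqR.lift_fst g₁ g₂ w, Category.assoc, ← Functor.map_comp,
      show r₁ ≫ π = r₂ ≫ π from Over.OverMorphism.ext hπr, Functor.map_comp, ← Category.assoc, sqR.lift_snd]
  have hmb : m ≫ (yon S).map b = f := by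
    rw [← cancel_epi p, reassoc_of% hm, ← Functor.map_comp, hπb', hu]
  -- etale localization
  obtain ⟨T', c, Z, iZ, z, w, hT', hc, hiZ, ho, hcl, ⟨z₀, hz₀⟩, hmono⟩ :=
    exists_split_shrunk hu sqR lR hl₁ hl₂ u₀
  let B' := pullback c b
  let U' := pullback c u
  let R' := pullback c (r₁ ≫ u)
  have hB' : IsAffine B'.left := IsAffine.of_isPullback (show IsPullback (pullback.fst c b).left
    (pullback.snd c b).left c.left b.left from (IsPullback.of_hasPullback c b).map (Over.forget S))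
  let π' : U' ⟶ B' := pullback.map c u c b (𝟙 _) π (𝟙 _) (by simp) (by simp [hπb'])
  let r₁' : R' ⟶ U' := pullback.map c (r₁ ≫ u) c u (𝟙 _) r₁ (𝟙 _) (by simp) (by simp)
  let r₂' : R' ⟶ U' := pullback.map c (r₁ ≫ u) c u (𝟙 _) r₂ (𝟙 _) (by simp) (by simp [hw])
  have coeq : ∀ {Q : Scheme.{u}} [IsAffine Q] (h : U'.left ⟶ Q), r₁'.left ≫ h = r₂'.left ≫ h →
      ∃! k : B'.left ⟶ Q, π'.left ≫ k = h :=
    hstab c.left inferInstance _ _ ((IsPullback.of_hasPullback c b).map (Over.forget S))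
      _ _ ((IsPullback.of_hasPullback c u).map (Over.forget S))
      _ _ ((IsPullback.of_hasPullback c (r₁ ≫ u)).map (Over.forget S))
      π'.left r₁'.left r₂'.left
      (by simp [π', ← Over.comp_left]) (by simp [π', ← Over.comp_left]; rfl)
      (by simp [r₁', ← Over.comp_left]) (by simp [r₁', ← Over.comp_left])
      (by simp [r₂', ← Over.comp_left]) (by simp [r₂', ← Over.comp_left])
  have hR'p : ∀ {W : Over S} (x : W ⟶ R'), (x ≫ r₁') ≫ pullback.fst c u = (x ≫ r₂') ≫ pullback.fst c u ∧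
      (yon S).map ((x ≫ r₁') ≫ pullback.snd c u) ≫ p = (yon S).map ((x ≫ r₂') ≫ pullback.snd c u) ≫ p := by
    intro W x
    simp [r₁', r₂', sqR.w]
  let ζ : Z ⟶ U' := pullback.lift iZ z w.symm
  have hζ : ζ = pullback.lift z iZ w ≫ (pullbackSymmetry u c).hom := by
    apply pullback.hom_ext <;> simp [ζ]
  haveI : IsIso (pullbackSymmetry u c).hom.left := inferInstanceAs (IsIso ((Over.forget S).map (pullbackSymmetry u c).hom))
  haveI : IsOpenImmersion ζ.left := by rw [hζ, Over.comp_left]; infer_instance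
  haveI : IsClosedImmersion ζ.left := by rw [hζ, Over.comp_left]; infer_instance
  let GR := pullback ζ r₁'
  let g₁ : GR ⟶ Z := pullback.fst ζ r₁'
  let g₂ : GR ⟶ U' := pullback.snd ζ r₁' ≫ r₂'
  have hg₁ζ : g₁ ≫ ζ = pullback.snd ζ r₁' ≫ r₁' := pullback.condition
  have hg₁z : g₁ ≫ z = pullback.snd ζ r₁' ≫ pullback.snd c (r₁ ≫ u) ≫ r₁ := by
    have e := congrArg (· ≫ pullback.snd c u) hg₁ζ
    simpa [ζ, r₁'] using e
  have hg₁i : g₁ ≫ iZ = pullback.snd ζ r₁' ≫ pullback.fst c (r₁ ≫ u) := by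
    have e := congrArg (· ≫ pullback.fst c u) hg₁ζ
    simpa [ζ, r₁'] using e
  have hprop : g₁ ≫ iZ = g₂ ≫ pullback.fst c u ∧
      (yon S).map (g₁ ≫ z) ≫ p = (yon S).map (g₂ ≫ pullback.snd c u) ≫ p := by
    refine ⟨by rw [hg₁i]; simp [g₂, r₂'], ?_⟩
    rw [hg₁z]
    simp [g₂, r₂', sqR.w]
  have hexist : ∀ {W : Over S} (a : W ⟶ Z) (y : W ⟶ U'), a ≫ iZ = y ≫ pullback.fst c u →
      (yon S).map (a ≫ z) ≫ p = (yon S).map (y ≫ pullback.snd c u) ≫ p →
      ∃ n : W ⟶ GR, n ≫ g₁ = a ∧ n ≫ g₂ = y := by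
    intro W a y h₁ h₂
    let r : W ⟶ R := pre (sqR.lift _ _ h₂)
    have hr₁ : r ≫ r₁ = a ≫ z := (yon S).map_injective (by simp [r])
    have hr₂ : r ≫ r₂ = y ≫ pullback.snd c u := (yon S).map_injective (by simp [r])
    let x : W ⟶ R' := pullback.lift (a ≫ iZ) r (by rw [Category.assoc, ← w, ← Category.assoc r, hr₁, Category.assoc])
    refine ⟨pullback.lift a x ?_, pullback.lift_fst _ _ _, ?_⟩
    · apply pullback.hom_ext <;> simp [ζ, x, r₁', hr₁]
    · rw [pullback.lift_snd_assoc]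
      apply pullback.hom_ext <;> simp [x, r₂', hr₂, h₁]
  haveI hg₂m : Mono g₂ := ⟨fun {W} n n' h => by
    have e₁ : n ≫ g₁ = n' ≫ g₁ := by
      refine hmono _ _ ?_ ?_
      · rw [Category.assoc, Category.assoc, hprop.1, reassoc_of% h]
      · rw [Category.assoc, Category.assoc, (yon S).map_comp n, (yon S).map_comp n', Category.assoc, Category.assoc,
          hprop.2, ← Functor.map_comp_assoc, ← Functor.map_comp_assoc, reassoc_of% h]
    apply pullback.hom_ext e₁
    apply pullback.hom_ext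
    · have := congrArg (· ≫ pullback.fst c u) h
      simpa [g₂, r₂'] using this
    · refine (yon S).map_injective (sqR.hom_ext ?_ ?_) <;> rw [← Functor.map_comp, ← Functor.map_comp] <;> congr 1
      · have := congrArg (· ≫ ζ ≫ pullback.snd c u) e₁
        simpa [g₁, pullback.condition_assoc, r₁'] using this
      · have := congrArg (· ≫ pullback.snd c u) h
        simpa [g₂, r₂'] using this⟩
  haveI : Mono g₂.left := inferInstanceAs (Mono ((Over.forget S).map g₂))
  haveI : IsOpenImmersion g₂.left := by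
    have s : IsPullback (pullback.snd c (r₁ ≫ u)) r₂' r₂ (pullback.snd c u) := by
      refine IsPullback.of_bot (h₃₁ := c) (v₂₁ := pullback.fst c u) (v₂₂ := u) ?_ ?_ ?_
      · rw [← hw, pullback.lift_fst, Category.comp_id]
        exact (IsPullback.of_hasPullback c (r₁ ≫ u)).flip
      · simp [r₂']
      · exact (IsPullback.of_hasPullback c u).flip
    haveI : Etale r₂'.left := MorphismProperty.of_isPullback (P := @Etale) (FppfDescent.isPullback_forget s) ‹_›
    haveI : IsOpenImmersion (pullback.snd ζ r₁').left :=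
      MorphismProperty.of_isPullback (P := @IsOpenImmersion) (FppfDescent.isPullback_forget (IsPullback.of_hasPullback ζ r₁')) ‹_›
    haveI : Etale g₂.left := by dsimp [g₂]; infer_instance
    exact IsOpenImmersion.of_flat_of_mono g₂.left
  have hGclosed : IsClosed (Set.range g₂.left) := by
    let P₂ := pullback iZ (pullback.fst c u)
    let κ : GR ⟶ P₂ := pullback.lift g₁ g₂ hprop.1
    let m₂ : P₂ ⟶ pullback u u := pullback.lift (pullback.fst _ _ ≫ z)
      (pullback.snd iZ (pullback.fst c u) ≫ pullback.snd c u) (by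
        rw [Category.assoc, Category.assoc, w, pullback.condition_assoc, pullback.condition])
    haveI : Mono (κ ≫ pullback.snd iZ (pullback.fst c u)) := by rw [pullback.lift_snd]; exact hg₂m
    haveI : Mono κ := mono_of_mono κ (pullback.snd iZ (pullback.fst c u))
    have hκ₁ : κ ≫ pullback.fst iZ (pullback.fst c u) = g₁ := pullback.lift_fst _ _ _
    have hκ₂ : κ ≫ pullback.snd iZ (pullback.fst c u) = g₂ := pullback.lift_snd _ _ _
    have hwκ : (pullback.snd ζ r₁' ≫ pullback.snd c (r₁ ≫ u)) ≫ lR = κ ≫ m₂ := by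
      apply pullback.hom_ext
      · simp only [m₂, Category.assoc, hl₁, pullback.lift_fst, reassoc_of% hκ₁, hg₁z]
      · simp only [m₂, Category.assoc, hl₂, pullback.lift_snd, reassoc_of% hκ₂]
        simp [g₂, r₂']
    have hlift : ∀ x : PullbackCone lR m₂, ∃ n : x.pt ⟶ GR,
        n ≫ pullback.snd ζ r₁' ≫ pullback.snd c (r₁ ≫ u) = x.fst ∧ n ≫ κ = x.snd := fun x => by
      have e₁ : (x.snd ≫ pullback.fst iZ (pullback.fst c u)) ≫ z = x.fst ≫ r₁ := by
        have := congrArg (· ≫ pullback.fst u u) x.condition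
        simpa [m₂, hl₁] using this.symm
      have e₂ : (x.snd ≫ pullback.snd iZ (pullback.fst c u)) ≫ pullback.snd c u = x.fst ≫ r₂ := by
        have := congrArg (· ≫ pullback.snd u u) x.condition
        simpa [m₂, hl₂] using this.symm
      obtain ⟨n, hn₁, hn₂⟩ := hexist (x.snd ≫ pullback.fst iZ (pullback.fst c u))
        (x.snd ≫ pullback.snd iZ (pullback.fst c u)) (by rw [Category.assoc, Category.assoc, pullback.condition])
        (by rw [e₁, e₂, Functor.map_comp, Functor.map_comp, Category.assoc, Category.assoc, sqR.w])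
      refine ⟨n, (yon S).map_injective (sqR.hom_ext ?_ ?_), ?_⟩
      · rw [← Functor.map_comp, ← Functor.map_comp]; congr 1
        rw [← e₁, ← hn₁]
        simp [hg₁z]
      · rw [← Functor.map_comp, ← Functor.map_comp]; congr 1
        rw [← e₂, ← hn₂]
        simp [g₂, r₂']
      · apply pullback.hom_ext
        · rw [Category.assoc, hκ₁, hn₁]
        · rw [Category.assoc, hκ₂, hn₂]
    choose n hn₁ hn₂ using hlift
    have sqκ : IsPullback (pullback.snd ζ r₁' ≫ pullback.snd c (r₁ ≫ u)) κ lR m₂ :=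
      IsPullback.of_isLimit' ⟨hwκ⟩ (PullbackCone.IsLimit.mk _ n hn₁ hn₂
        fun x k _ hk => (cancel_mono κ).1 (hk.trans (hn₂ x).symm))
    haveI : IsClosedImmersion κ.left :=
      MorphismProperty.of_isPullback (P := @IsClosedImmersion) (FppfDescent.isPullback_forget sqκ) ‹_›
    haveI : IsFinite (pullback.snd iZ (pullback.fst c u)).left :=
      MorphismProperty.of_isPullback (P := @IsFinite) (FppfDescent.isPullback_forget (IsPullback.of_hasPullback _ _)) hiZ
    haveI : IsFinite g₂.left := by rw [← hκ₂, Over.comp_left]; infer_instance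
    exact g₂.left.isClosedMap.isClosed_range
  let Gc : U'.left.Opens := ⟨(Set.range g₂.left)ᶜ, hGclosed.isOpen_compl⟩
  have hcompl : IsCompl g₂.left.opensRange (Scheme.Opens.ι Gc).opensRange := by
    rw [Scheme.Opens.opensRange_ι, isCompl_iff, disjoint_iff, codisjoint_iff,
      TopologicalSpace.Opens.ext_iff, TopologicalSpace.Opens.ext_iff]
    simp [Gc]
  obtain ⟨hcol⟩ := nonempty_isColimit_binaryCofanMk_of_isCompl g₂.left (Scheme.Opens.ι Gc) hcompl
  obtain ⟨h₂, hh₁, hh₀⟩ : ∃ h₂ : U'.left ⟶ Z.left ⨿ T'.left, g₂.left ≫ h₂ = g₁.left ≫ coprod.inl ∧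
      Scheme.Opens.ι Gc ≫ h₂ = Scheme.Opens.ι Gc ≫ (pullback.fst c u).left ≫ coprod.inr := by
    obtain ⟨l, h₁, h₂⟩ := BinaryCofan.IsColimit.desc' hcol (g₁.left ≫ (coprod.inl : Z.left ⟶ Z.left ⨿ T'.left))
      (Scheme.Opens.ι Gc ≫ (pullback.fst c u).left ≫ coprod.inr)
    exact ⟨l, h₁, h₂⟩
  have hswap : ∀ {W : Over S} (n : W ⟶ GR) (y : W ⟶ U'), y ≫ pullback.fst c u = (n ≫ g₂) ≫ pullback.fst c u →
      (yon S).map (y ≫ pullback.snd c u) ≫ p = (yon S).map ((n ≫ g₂) ≫ pullback.snd c u) ≫ p →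
      ∃ n' : W ⟶ GR, n' ≫ g₁ = n ≫ g₁ ∧ n' ≫ g₂ = y := by
    intro W n y e₁ e₂
    refine hexist _ _ ?_ ?_
    · rw [Category.assoc, hprop.1]
      simpa [Category.assoc] using e₁.symm
    · rw [e₂, Category.assoc, Category.assoc, Functor.map_comp, Category.assoc, hprop.2,
        ← Functor.map_comp_assoc]
  have hcoeq : r₁'.left ≫ h₂ = r₂'.left ≫ h₂ := by
    let n₁ := pullback.fst g₂ r₁'
    let q₁ := pullback.snd g₂ r₁'
    have s₁ := FppfDescent.isPullback_forget (IsPullback.of_hasPullback g₂ r₁')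
    have s₂ := FppfDescent.isPullback_forget (IsPullback.of_hasPullback g₂ r₂')
    haveI : IsOpenImmersion q₁.left := MorphismProperty.of_isPullback (P := @IsOpenImmersion) s₁ ‹_›
    obtain ⟨n', e₁, e₂⟩ := hswap n₁ (q₁ ≫ r₂') (by rw [pullback.condition, (hR'p q₁).1])
      (by rw [pullback.condition, (hR'p q₁).2])
    obtain ⟨n'', e₁', e₂'⟩ := hswap (pullback.fst g₂ r₂') (pullback.snd g₂ r₂' ≫ r₁')
      (by rw [pullback.condition, (hR'p (pullback.snd g₂ r₂')).1])
      (by rw [pullback.condition, (hR'p (pullback.snd g₂ r₂')).2])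
    have hrange : ∀ x : ↥R'.left, r₁'.left x ∈ Set.range g₂.left ↔ r₂'.left x ∈ Set.range g₂.left := fun x => by
      constructor
      · rintro ⟨y, hy⟩
        obtain ⟨v, -, rfl⟩ := Scheme.exists_preimage_of_isPullback s₁ y x hy
        exact ⟨n'.left v, congr($(congrArg CommaMorphism.left e₂) v)⟩
      · rintro ⟨y, hy⟩
        obtain ⟨v, -, rfl⟩ := Scheme.exists_preimage_of_isPullback s₂ y x hy
        exact ⟨n''.left v, congr($(congrArg CommaMorphism.left e₂') v)⟩
    let Rc : R'.left.Opens := r₁'.left ⁻¹ᵁ Gc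
    have hq : Set.range q₁.left = r₁'.left ⁻¹' Set.range g₂.left := by
      ext x
      refine ⟨?_, fun ⟨y, hy⟩ => ?_⟩
      · rintro ⟨v, rfl⟩; exact ⟨n₁.left v, congr($(s₁.w) v)⟩
      · obtain ⟨v, -, rfl⟩ := Scheme.exists_preimage_of_isPullback s₁ y x hy; exact ⟨v, rfl⟩
    have hcomplR : IsCompl q₁.left.opensRange (Scheme.Opens.ι Rc).opensRange := by
      rw [Scheme.Opens.opensRange_ι, isCompl_iff, disjoint_iff, codisjoint_iff,
        TopologicalSpace.Opens.ext_iff, TopologicalSpace.Opens.ext_iff]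
      simp [Rc, Gc, hq]
    obtain ⟨hcolR⟩ := nonempty_isColimit_binaryCofanMk_of_isCompl q₁.left (Scheme.Opens.ι Rc) hcomplR
    refine BinaryCofan.IsColimit.hom_ext hcolR ?_ ?_
    · change q₁.left ≫ r₁'.left ≫ h₂ = q₁.left ≫ r₂'.left ≫ h₂
      have A : q₁ ≫ r₁' = n₁ ≫ g₂ := pullback.condition.symm
      calc q₁.left ≫ r₁'.left ≫ h₂ = (n₁ ≫ g₂).left ≫ h₂ := by rw [← A]; simp only [Over.comp_left, Category.assoc]
        _ = n₁.left ≫ g₁.left ≫ coprod.inl := by rw [← hh₁]; simp only [Over.comp_left, Category.assoc]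
        _ = (n' ≫ g₁).left ≫ coprod.inl := by rw [e₁]; simp only [Over.comp_left, Category.assoc]
        _ = (n' ≫ g₂).left ≫ h₂ := by simp only [Over.comp_left, Category.assoc]; rw [← hh₁]
        _ = q₁.left ≫ r₂'.left ≫ h₂ := by rw [e₂]; simp only [Over.comp_left, Category.assoc]
    · change Scheme.Opens.ι Rc ≫ _ = Scheme.Opens.ι Rc ≫ _
      have hcl₁ : ∀ (r : R' ⟶ U'), (∀ x, r.left (Scheme.Opens.ι Rc x) ∈ Gc) →
          Scheme.Opens.ι Rc ≫ r.left ≫ h₂ = Scheme.Opens.ι Rc ≫ r.left ≫ (pullback.fst c u).left ≫ coprod.inr := by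
        intro r hr
        obtain ⟨l, hl⟩ : ∃ l, l ≫ Scheme.Opens.ι Gc = Scheme.Opens.ι Rc ≫ r.left :=
          ⟨IsOpenImmersion.lift (Scheme.Opens.ι Gc) (Scheme.Opens.ι Rc ≫ r.left)
            (by rw [Scheme.Opens.range_ι]; rintro _ ⟨x, rfl⟩; exact hr x), IsOpenImmersion.lift_fac _ _ _⟩
        rw [← reassoc_of% hl, hh₀, reassoc_of% hl]
      rw [hcl₁ r₁' (fun x => x.2), hcl₁ r₂' (fun x hx => x.2 ((hrange _).2 hx))]
      congr 1
      rw [← Category.assoc, ← Category.assoc, ← Over.comp_left, ← Over.comp_left]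
      congr 2
      simp [r₁', r₂']
  haveI : IsAffine (Z.left ⨿ T'.left) := by
    haveI : IsAffine Z.left := isAffine_of_isAffineHom iZ.left
    haveI : ∀ i : ULift.{u} WalkingPair, IsAffine (i.1.casesOn Z.left T'.left : Scheme.{u}) := by
      rintro ⟨_ | _⟩ <;> assumption
    exact IsAffine.of_isIso (coprodIsoSigma Z.left T'.left).hom
  obtain ⟨k₂, hk₂, -⟩ := coeq h₂ hcoeq
  let j : Z ⟶ B' := ζ ≫ π'
  obtain ⟨σ, hσ₁, hσ₂⟩ := hexist (𝟙 Z) ζ (by simp [ζ]) (by simp [ζ])
  have hζh : ζ.left ≫ h₂ = coprod.inl := by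
    rw [← hσ₂, Over.comp_left, Category.assoc, hh₁, ← Category.assoc, ← Over.comp_left, hσ₁]
    exact Category.id_comp _
  have hjk : j.left ≫ k₂ = coprod.inl := by
    rw [Over.comp_left, Category.assoc, hk₂, hζh]
  have hinl : ∀ t : ↥T'.left, (coprod.inr : T'.left ⟶ Z.left ⨿ T'.left) t ∉
      Set.range (coprod.inl : Z.left ⟶ Z.left ⨿ T'.left) := fun t h =>
    Set.disjoint_left.1 (isCompl_range_inl_inr Z.left T'.left).disjoint h ⟨t, rfl⟩
  haveI : IsOpenImmersion j.left := by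
    let B₁ : B'.left.Opens := k₂ ⁻¹ᵁ (coprod.inl : Z.left ⟶ Z.left ⨿ T'.left).opensRange
    let B₂ : B'.left.Opens := k₂ ⁻¹ᵁ (coprod.inr : T'.left ⟶ Z.left ⨿ T'.left).opensRange
    have hB : IsCompl (Scheme.Opens.ι B₁).opensRange (Scheme.Opens.ι B₂).opensRange := by
      rw [Scheme.Opens.opensRange_ι, Scheme.Opens.opensRange_ι]
      have h := isCompl_range_inl_inr Z.left T'.left
      refine IsCompl.of_eq (TopologicalSpace.Opens.ext ?_) (TopologicalSpace.Opens.ext ?_)
      · rw [TopologicalSpace.Opens.coe_inf, TopologicalSpace.Opens.coe_bot]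
        exact Set.disjoint_iff_inter_eq_empty.1 (h.disjoint.preimage k₂)
      · rw [TopologicalSpace.Opens.coe_sup, TopologicalSpace.Opens.coe_top]
        exact (Set.preimage_union (f := k₂)).symm.trans ((congrArg (k₂ ⁻¹' ·) h.sup_eq_top).trans Set.preimage_univ)
    obtain ⟨hcolB⟩ := nonempty_isColimit_binaryCofanMk_of_isCompl (Scheme.Opens.ι B₁) (Scheme.Opens.ι B₂) hB
    obtain ⟨k₁, hk₁⟩ : ∃ k₁, k₁ ≫ (coprod.inl : Z.left ⟶ Z.left ⨿ T'.left) = Scheme.Opens.ι B₁ ≫ k₂ :=
      ⟨IsOpenImmersion.lift (coprod.inl : Z.left ⟶ Z.left ⨿ T'.left) (Scheme.Opens.ι B₁ ≫ k₂)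
        (by rintro _ ⟨x, rfl⟩; exact x.2), IsOpenImmersion.lift_fac _ _ _⟩
    obtain ⟨e, he₁, he₂⟩ := BinaryCofan.IsColimit.desc' hcolB (k₁ ≫ j.left) (Scheme.Opens.ι B₂)
    change Scheme.Opens.ι B₁ ≫ e = _ at he₁
    change Scheme.Opens.ι B₂ ≫ e = _ at he₂
    obtain ⟨_, -, huniq⟩ := coeq π'.left (by
      rw [← Over.comp_left, ← Over.comp_left]
      congr 1
      apply pullback.hom_ext <;> simp [π', r₁', r₂', show r₁ ≫ π = r₂ ≫ π from Over.OverMorphism.ext hπr])
    have hid : e = 𝟙 _ := by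
      refine (huniq e ?_).trans (huniq (𝟙 _) (Category.comp_id _)).symm
      refine BinaryCofan.IsColimit.hom_ext hcol ?_ ?_
      · change g₂.left ≫ π'.left ≫ e = g₂.left ≫ π'.left
        obtain ⟨l, hl⟩ : ∃ l, l ≫ Scheme.Opens.ι B₁ = g₂.left ≫ π'.left :=
          ⟨IsOpenImmersion.lift (Scheme.Opens.ι B₁) (g₂.left ≫ π'.left) (by
            rw [Scheme.Opens.range_ι]
            rintro _ ⟨x, rfl⟩
            exact ⟨g₁.left x, by
              rw [← Scheme.Hom.comp_apply, ← Scheme.Hom.comp_apply, Category.assoc, hk₂, hh₁]⟩),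
            IsOpenImmersion.lift_fac _ _ _⟩
        have hlk : l ≫ k₁ = g₁.left := by
          rw [← cancel_mono (coprod.inl : Z.left ⟶ Z.left ⨿ T'.left), Category.assoc, hk₁,
            reassoc_of% hl, hk₂, hh₁]
        rw [← reassoc_of% hl, he₁, reassoc_of% hlk, ← Over.comp_left, ← Over.comp_left]
        congr 1
        change g₁ ≫ ζ ≫ π' = (pullback.snd ζ r₁' ≫ r₂') ≫ π'
        have E : r₁' ≫ π' = r₂' ≫ π' := by
          apply pullback.hom_ext <;>
            simp [π', r₁', r₂', show r₁ ≫ π = r₂ ≫ π from Over.OverMorphism.ext hπr]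
        calc g₁ ≫ ζ ≫ π' = (g₁ ≫ ζ) ≫ π' := (Category.assoc _ _ _).symm
          _ = (pullback.snd ζ r₁' ≫ r₁') ≫ π' := congrArg (· ≫ π') hg₁ζ
          _ = pullback.snd ζ r₁' ≫ r₂' ≫ π' := (Category.assoc _ _ _).trans (congrArg (pullback.snd ζ r₁' ≫ ·) E)
          _ = (pullback.snd ζ r₁' ≫ r₂') ≫ π' := (Category.assoc _ _ _).symm
      · change Scheme.Opens.ι Gc ≫ π'.left ≫ e = Scheme.Opens.ι Gc ≫ π'.left
        obtain ⟨l, hl⟩ : ∃ l, l ≫ Scheme.Opens.ι B₂ = Scheme.Opens.ι Gc ≫ π'.left :=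
          ⟨IsOpenImmersion.lift (Scheme.Opens.ι B₂) (Scheme.Opens.ι Gc ≫ π'.left) (by
            rw [Scheme.Opens.range_ι]
            rintro _ ⟨x, rfl⟩
            exact ⟨(pullback.fst c u).left (Scheme.Opens.ι Gc x), by
              rw [← Scheme.Hom.comp_apply, ← Scheme.Hom.comp_apply, ← Scheme.Hom.comp_apply, Category.assoc, hk₂, hh₀]⟩),
            IsOpenImmersion.lift_fac _ _ _⟩
        rw [← reassoc_of% hl, he₂, hl]
    have hkj : k₁ ≫ j.left = Scheme.Opens.ι B₁ := by rw [← he₁, hid]; exact Category.comp_id _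
    obtain ⟨jl, hjl⟩ : ∃ jl, jl ≫ Scheme.Opens.ι B₁ = j.left :=
      ⟨IsOpenImmersion.lift (Scheme.Opens.ι B₁) j.left (by
        rw [Scheme.Opens.range_ι]
        rintro _ ⟨x, rfl⟩
        exact ⟨x, congr($(hjk.symm) x)⟩), IsOpenImmersion.lift_fac _ _ _⟩
    haveI : IsIso jl := by
      refine ⟨k₁, ?_, ?_⟩
      · rw [← cancel_mono (coprod.inl : Z.left ⟶ Z.left ⨿ T'.left), Category.assoc, hk₁, reassoc_of% hjl, hjk,
          Category.id_comp]
      · rw [← cancel_mono (Scheme.Opens.ι B₁), Category.assoc, hjl, hkj, Category.id_comp]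
    rw [← hjl]
    infer_instance
  -- descend
  let φ : Z ⟶ B := z ≫ π
  have hφ : φ = j ≫ pullback.snd c b := by simp [φ, j, ζ, π']
  haveI : Flat (pullback.snd c b).left :=
    MorphismProperty.of_isPullback (P := @Flat) (FppfDescent.isPullback_forget (IsPullback.of_hasPullback c b)) inferInstance
  haveI : LocallyOfFinitePresentation (pullback.snd c b).left :=
    MorphismProperty.of_isPullback (P := @LocallyOfFinitePresentation)
      (FppfDescent.isPullback_forget (IsPullback.of_hasPullback c b)) inferInstance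
  haveI : Flat φ.left := by rw [hφ, Over.comp_left]; infer_instance
  haveI : LocallyOfFinitePresentation φ.left := by rw [hφ, Over.comp_left]; infer_instance
  let ψ : (yon S).obj Z ⟶ D := (yon S).map z ≫ p
  have hψ : ψ ≫ m = (yon S).map φ := by simp [ψ, φ, hm]
  have key : ∀ (W : Over S) (ξ : (yon S).obj W ⟶ D) (a : W ⟶ Z), ξ ≫ m = (yon S).map (a ≫ φ) →
      ξ = (yon S).map a ≫ ψ := by
    intro W ξ a hξ
    obtain ⟨W', c₁, v, h₁, h₂', h₃, hv⟩ := exists_fppf_lift p ξ
    haveI := h₁; haveI := h₂'; haveI := h₃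
    haveI : Sheaf.IsLocallySurjective ((yon S).map c₁) :=
      isLocallySurjective_of_repWith ((repWith_yon_map_iff _ _).2 h₁) ((repWith_yon_map_iff _ _).2 h₂')
        ((repWith_yon_map_iff _ _).2 h₃)
    haveI : Epi ((yon S).map c₁) := inferInstance
    have hvπ : v ≫ π = c₁ ≫ a ≫ φ := (yon S).map_injective (by
      rw [Functor.map_comp, ← hm, ← reassoc_of% hv, hξ, ← Functor.map_comp])
    let y : W' ⟶ U' := pullback.lift (c₁ ≫ a ≫ iZ) v (by
      rw [← hπb', reassoc_of% hvπ]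
      simp only [φ, Category.assoc, hπb', w])
    have hyπ : y ≫ π' = (c₁ ≫ a) ≫ j := by
      apply pullback.hom_ext
      · simp [y, π', j, ζ]
      · simp [y, π', j, ζ, hvπ, φ]
    have hyh : y.left ≫ h₂ = (c₁ ≫ a).left ≫ coprod.inl := by
      rw [← hk₂, ← Category.assoc, ← Over.comp_left, hyπ, Over.comp_left, Category.assoc, hjk]
    have hr : Set.range y.left ⊆ Set.range g₂.left := by
      rintro _ ⟨x, rfl⟩
      by_contra hx
      refine hinl ((pullback.fst c u).left (y.left x)) ⟨(c₁ ≫ a).left x, ?_⟩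
      rw [← Scheme.Hom.comp_apply, ← hyh, Scheme.Hom.comp_apply]
      exact congr($(hh₀) (⟨y.left x, hx⟩ : (Gc : Scheme.{u})))
    let n : W' ⟶ GR := Over.homMk (IsOpenImmersion.lift g₂.left y.left hr)
      (by rw [← Over.w g₂, IsOpenImmersion.lift_fac_assoc g₂.left y.left hr]; exact Over.w _)
    have hn : n ≫ g₂ = y := Over.OverMorphism.ext (IsOpenImmersion.lift_fac g₂.left y.left hr)
    have hn₁ : n ≫ g₁ = c₁ ≫ a := by
      apply Over.OverMorphism.ext
      rw [← cancel_mono (coprod.inl : Z.left ⟶ Z.left ⨿ T'.left), Over.comp_left, Category.assoc, ← hh₁,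
        ← Category.assoc, ← Over.comp_left, hn, hyh]
    rw [← cancel_epi ((yon S).map c₁), hv, ← Category.assoc, ← Functor.map_comp,
      show v = y ≫ pullback.snd c u from (pullback.lift_snd _ _ _).symm, ← hn, Category.assoc, Functor.map_comp,
      Category.assoc, ← hprop.2, ← Functor.map_comp_assoc, reassoc_of% hn₁]
    simp [ψ]
  have sqψ : IsPullback ψ ((yon S).map (𝟙 Z)) m ((yon S).map φ) :=
    IsPullback.of_isLimit' ⟨by rw [hψ]; simp⟩ (PullbackCone.IsLimit.mk _ (fun x => x.snd)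
      (fun x => AlgSpc.hom_ext fun W t => by
        have h := key W (t ≫ x.fst) (pre (t ≫ x.snd)) (by
          simp only [Functor.map_comp, map_pre, Category.assoc, x.condition])
        rw [map_pre, Category.assoc] at h
        exact h.symm)
      (fun x => by simp) fun x k _ hk => by simpa using hk)
  let O : B.left.Opens := ⟨Set.range φ.left, φ.left.isOpenMap.isOpen_range⟩
  let ιO := openSubι B O
  obtain ⟨c', hc'⟩ := exists_openSub_lift O φ (fun x => ⟨x, rfl⟩)
  haveI : Mono ιO := (Over.forget S).mono_of_mono_map (inferInstanceAs (Mono (Scheme.Opens.ι O)))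
  have s₀ : IsPullback (𝟙 Z) c' φ ιO := IsPullback.of_horiz_isIso_mono ⟨by simp [ιO, hc']⟩
  haveI : Flat c'.left := MorphismProperty.of_isPullback (P := @Flat) (FppfDescent.isPullback_forget s₀) ‹_›
  haveI : LocallyOfFinitePresentation c'.left :=
    MorphismProperty.of_isPullback (P := @LocallyOfFinitePresentation) (FppfDescent.isPullback_forget s₀) ‹_›
  haveI : Surjective c'.left := ⟨fun o => by
    obtain ⟨x, hx⟩ := (range_openSubι B O).le ⟨o, rfl⟩
    refine ⟨x, (openSubι B O).left.isOpenEmbedding.injective ?_⟩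
    rw [← Scheme.Hom.comp_apply, ← Over.comp_left, hc', hx]⟩
  have sqO := IsPullback.of_hasPullback m ((yon S).map ιO)
  let ψ' : (yon S).obj Z ⟶ pullback m ((yon S).map ιO) :=
    pullback.lift ψ ((yon S).map c') (by rw [hψ, ← Functor.map_comp, hc'])
  have sq' : IsPullback ψ' ((yon S).map (𝟙 Z)) (pullback.snd m ((yon S).map ιO)) ((yon S).map c') := by
    refine IsPullback.of_right (h₁₂ := pullback.fst m ((yon S).map ιO)) (v₁₃ := m) (h₂₂ := (yon S).map ιO) ?_
      (by simp [ψ']) sqO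
    rw [pullback.lift_fst, ← Functor.map_comp, hc']
    exact sqψ
  haveI : IsSeparated (𝟙 Z : Z ⟶ Z).left := inferInstanceAs (IsSeparated (𝟙 Z.left))
  haveI : LocallyQuasiFinite (𝟙 Z : Z ⟶ Z).left := inferInstanceAs (LocallyQuasiFinite (𝟙 Z.left))
  haveI : LocallyOfFiniteType (𝟙 Z : Z ⟶ Z).left := inferInstanceAs (LocallyOfFiniteType (𝟙 Z.left))
  obtain ⟨V, ⟨χ⟩⟩ := FppfDescent.exists_yon_iso_of_fppf_cover _ c' sq'
  refine ⟨V, χ.hom ≫ pullback.fst m ((yon S).map ιO), repWith_comp (repWith_iso χ.hom)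
    (repWith_of_isPullback sqO.flip ((repWith_yon_map_iff _ _).2 (inferInstanceAs (IsOpenImmersion (Scheme.Opens.ι O))))), ?_⟩
  refine ⟨(pre (ψ' ≫ χ.inv)).left z₀, ?_⟩
  rw [← ofPt_comp, map_pre, Category.assoc, Iso.inv_hom_id_assoc, pullback.lift_fst, ofPt_comp, hz₀]

end Groth.Agent.AlgSpc.SepLQF
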