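import Mathlib.AlgebraicGeometry.Morphisms.UniversallyOpen
import Mathlib.RingTheory.Spectrum.Prime.Chevalley
import Mathlib.AlgebraicGeometry.Pullbacks

/-!
Every morphism to the spectrum of a field is universally open.
-/

universe u

open CategoryTheory CategoryTheory.Limits AlgebraicGeometry MorphismProperty

set_option backward.isDefEq.respectTransparency false

namespace Groth.Agent.AlgSpc

theorem universallyOpen_to_field {X : Scheme.{u}} {k : Type u} [Field k]
    (f : X ⟶ Spec (CommRingCat.of k)) : UniversallyOpen f := by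
  wlog hX : ∃ A, X = Spec A generalizing X
  · exact IsZariskiLocalAtSource.of_openCover (P := @UniversallyOpen) X.affineCover
      fun i => this _ ⟨_, rfl⟩
  obtain ⟨A, rfl⟩ := hX
  refine ⟨universally_mk' _ _ fun {T} g _ => ?_⟩
  wlog hT : ∃ B, T = Spec B generalizing T
  · refine IsZariskiLocalAtTarget.of_openCover (P := topologically @IsOpenMap) T.affineCover fun i => ?_
    dsimp only [Scheme.Cover.pullbackHom]
    rw [← (topologically @IsOpenMap).cancel_left_of_respectsIso
      ((pullbackRightPullbackFstIso g f (T.affineCover.f i)).inv ≫ (pullbackSymmetry _ _).hom)]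
    have := this (T.affineCover.f i ≫ g) inferInstance ⟨_, rfl⟩
    simpa using this
  obtain ⟨B, rfl⟩ := hT
  obtain ⟨φ, rfl⟩ := Spec.map_surjective g
  obtain ⟨ψ, rfl⟩ := Spec.map_surjective f
  algebraize [φ.hom, ψ.hom]
  rw [← (topologically @IsOpenMap).cancel_left_of_respectsIso (pullbackSpecIso k B A).inv]
  erw [pullbackSpecIso_inv_fst']
  exact PrimeSpectrum.isOpenMap_comap_algebraMap_tensorProduct_of_field

end Groth.Agent.AlgSpc
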