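import Groth.Agent.AlgSpc.FppfDescent
import Groth.Agent.AlgSpLoc.AffineMor
import Mathlib.AlgebraicGeometry.Morphisms.FlatDescent

/-!
A sheaf over a scheme which becomes, fppf locally, a scheme separated and locally quasi-finite over the
base, is a scheme.
-/

set_option autoImplicit false
set_option linter.style.haveILetI false
set_option backward.isDefEq.respectTransparency false

universe u

open CategoryTheory CategoryTheory.Limits AlgebraicGeometry Opposite

namespace Groth.Agent.AlgSpc.FppfDescent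

open _root_.AlgSp Groth.Agent.AlgSpc Groth.Agent.AlgSpLoc

variable {S : Scheme.{u}}

theorem isPullback_forget {P A B C : Over S} {a : P ⟶ A} {b : P ⟶ B} {c : A ⟶ C} {d : B ⟶ C}
    (h : IsPullback a b c d) : IsPullback a.left b.left c.left d.left :=
  h.map (Over.forget S)

theorem isPullback_comp_mono {C : Type*} [Category C] {P A B X Y : C} {fst : P ⟶ A} {snd : P ⟶ B}
    {a : A ⟶ X} {b : B ⟶ X} (h : IsPullback fst snd a b) (j : X ⟶ Y) [Mono j] :
    IsPullback fst snd (a ≫ j) (b ≫ j) :=
  IsPullback.of_isLimit' ⟨by rw [reassoc_of% h.w]⟩ (PullbackCone.IsLimit.mk _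
    (fun x => h.lift x.fst x.snd ((cancel_mono j).1 (by simpa using x.condition)))
    (fun x => h.lift_fst _ _ _) (fun x => h.lift_snd _ _ _)
    (fun x n h₁ h₂ => h.hom_ext (by simp [h₁]) (by simp [h₂])))

/-- A quasi-compact scheme which is separated and locally quasi-finite over an affine scheme is quasi-affine. -/
theorem isQuasiAffine_of_locallyQuasiFinite {X Y : Scheme.{u}} (g : X ⟶ Y) [CompactSpace X] [IsAffine Y]
    [IsSeparated g] [LocallyQuasiFinite g] [LocallyOfFiniteType g] : X.IsQuasiAffine := by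
  haveI : QuasiCompact g := quasiCompact_of_compactSpace g
  haveI : IsAffine g.normalization := isAffine_of_isAffineHom g.fromNormalization
  exact Scheme.IsQuasiAffine.of_isImmersion g.toNormalization

/-- A sheaf over `T` which after an fppf base change becomes a scheme separated and locally quasi-finite over the
base is a scheme. -/
theorem exists_yon_iso_of_fppf_cover {D : Sp S} {T T' : Over S} (f : D ⟶ (yon S).obj T) (e : T' ⟶ T)
    [Flat e.left] [LocallyOfFinitePresentation e.left] [Surjective e.left]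
    {W : Over S} {qW : (yon S).obj W ⟶ D} {fW : W ⟶ T'}
    (sq : IsPullback qW ((yon S).map fW) f ((yon S).map e))
    [IsSeparated fW.left] [LocallyQuasiFinite fW.left] [LocallyOfFiniteType fW.left] :
    ∃ V : Over S, Nonempty ((yon S).obj V ≅ D) := by
  have hqF : RepWith @Flat qW := repWith_of_isPullback sq.flip ((repWith_yon_map_iff _ e).2 ‹_›)
  have hqL : RepWith @LocallyOfFinitePresentation qW :=
    repWith_of_isPullback sq.flip ((repWith_yon_map_iff _ e).2 ‹_›)
  have hqS : RepWith @Surjective qW := repWith_of_isPullback sq.flip ((repWith_yon_map_iff _ e).2 ‹_›)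
  have hopen : IsOpenMap (Points.ofPt qW) := by
    rw [ofPt_eq_comp]
    refine (isOpenMap_map_of_repWith (P := @Flat ⊓ @LocallyOfFinitePresentation)
      (fun X Y g hg => ?_) (repWith_inf hqF hqL)).comp (Points.schemeHomeo W).isOpenMap
    haveI := hg.1; haveI := hg.2
    exact g.isOpenMap
  suffices h : ∀ w : ↥W.left, ∃ (V : Over S) (ev : (yon S).obj V ⟶ D),
      RepWith @IsOpenImmersion ev ∧ Points.ofPt qW w ∈ Set.range (Points.ofPt ev) by
    choose V ev hev hx using h
    exact exists_yon_iso_of_open_cover (V := V) (e := ev) (fun x => hev x) (fun x => by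
      obtain ⟨w, rfl⟩ := surjective_ofPt hqS x
      exact ⟨w, hx w⟩)
  intro w
  -- affine neighbourhoods below
  obtain ⟨_, ⟨T1, hT1, rfl⟩, ht1, -⟩ := T.left.isBasis_affineOpens.exists_subset_of_mem_open
    (Set.mem_univ (e.left (fW.left w))) isOpen_univ
  obtain ⟨_, ⟨P, hP, rfl⟩, htP, hPT : P ≤ e.left ⁻¹ᵁ T1⟩ := T'.left.isBasis_affineOpens.exists_subset_of_mem_open
    (show fW.left w ∈ e.left ⁻¹ᵁ T1 from ht1) (e.left ⁻¹ᵁ T1).isOpen
  obtain ⟨_, ⟨T3, hT3, rfl⟩, ht3, hT3P : (T3 : Set T.left) ⊆ e.left '' P⟩ :=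
    T.left.isBasis_affineOpens.exists_subset_of_mem_open
    (show e.left (fW.left w) ∈ e.left '' P from ⟨_, htP, rfl⟩) (e.left.isOpenMap _ P.isOpen)
  haveI : IsAffine (openSub T T1).left := hT1
  haveI : IsAffine (openSub T' P).left := hP
  haveI : IsAffine (openSub T T3).left := hT3
  obtain ⟨eP, heP⟩ := exists_openSub_lift T1 (openSubι T' P ≫ e)
    fun z => hPT ((range_openSubι T' P).le ⟨z, rfl⟩)
  obtain ⟨k, hk⟩ := exists_openSub_lift T1 (openSubι T T3) fun z => by
    obtain ⟨y, hy, hy'⟩ := hT3P ((range_openSubι T T3).le ⟨z, rfl⟩)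
    exact hy' ▸ hPT hy
  haveI : IsOpenImmersion (k.left ≫ (openSubι T T1).left) := by rw [← Over.comp_left, hk]; infer_instance
  haveI : IsOpenImmersion k.left := IsOpenImmersion.of_comp k.left (openSubι T T1).left
  let T4 := pullback eP k
  let c : T4 ⟶ openSub T T3 := pullback.snd eP k
  let i : T4 ⟶ T' := pullback.fst eP k ≫ openSubι T' P
  have hsq4 := isPullback_forget (IsPullback.of_hasPullback eP k)
  haveI : IsAffine T4.left := IsAffine.of_isPullback hsq4
  haveI : IsOpenImmersion i.left := by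
    haveI : IsOpenImmersion (pullback.fst eP k).left :=
      MorphismProperty.of_isPullback (P := @IsOpenImmersion) hsq4.flip ‹_›
    dsimp [i]; infer_instance
  have hie : i ≫ e = c ≫ openSubι T T3 := by
    simp only [i, c, Category.assoc, ← heP, ← hk]
    rw [pullback.condition_assoc]
  haveI : IsOpenImmersion (openSubι T T3).left := inferInstance
  have hcfl : Flat c.left ∧ LocallyOfFinitePresentation c.left := by
    have hx : Flat (c.left ≫ (openSubι T T3).left) ∧
        LocallyOfFinitePresentation (c.left ≫ (openSubι T T3).left) := by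
      rw [← Over.comp_left, ← hie, Over.comp_left]
      exact ⟨inferInstance, inferInstance⟩
    have s : IsPullback (𝟙 T4.left) c.left (c.left ≫ (openSubι T T3).left) (openSubι T T3).left :=
      IsPullback.of_horiz_isIso_mono ⟨by simp⟩
    exact ⟨MorphismProperty.of_isPullback (P := @Flat) s hx.1,
      MorphismProperty.of_isPullback (P := @LocallyOfFinitePresentation) s hx.2⟩
  haveI := hcfl.1; haveI := hcfl.2
  haveI : Surjective c.left := ⟨fun z => by
    obtain ⟨y, hy, hy'⟩ := hT3P ((range_openSubι T T3).le ⟨z, rfl⟩)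
    obtain ⟨p, hp⟩ : y ∈ Set.range (openSubι T' P).left := (range_openSubι T' P).ge hy
    obtain ⟨q, -, hq⟩ := Scheme.exists_preimage_of_isPullback hsq4 p z (by
      apply (openSubι T T1).left.isOpenEmbedding.injective
      rw [← Scheme.Hom.comp_apply, ← Scheme.Hom.comp_apply, ← Over.comp_left, ← Over.comp_left, heP, hk,
        Over.comp_left, Scheme.Hom.comp_apply, hp, hy'])
    exact ⟨q, hq⟩⟩
  -- the base change of `W`
  let W3 := pullback fW i
  let ι3 : W3 ⟶ W := pullback.fst fW i
  let f3 : W3 ⟶ T4 := pullback.snd fW i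
  have hsq3 := isPullback_forget (IsPullback.of_hasPullback fW i)
  haveI : IsSeparated f3.left := MorphismProperty.of_isPullback (P := @IsSeparated) hsq3 ‹_›
  haveI : LocallyQuasiFinite f3.left := MorphismProperty.of_isPullback (P := @LocallyQuasiFinite) hsq3 ‹_›
  haveI : LocallyOfFiniteType f3.left := MorphismProperty.of_isPullback (P := @LocallyOfFiniteType) hsq3 ‹_›
  haveI : IsOpenImmersion ι3.left := MorphismProperty.of_isPullback (P := @IsOpenImmersion) hsq3.flip ‹_›
  have sq3 : IsPullback ((yon S).map ι3 ≫ qW) ((yon S).map f3) f ((yon S).map (c ≫ openSubι T T3)) := by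
    rw [← hie, Functor.map_comp]
    exact ((IsPullback.of_hasPullback fW i).map (yon S)).paste_horiz sq
  have hqFl : ∀ {A : Over S} (a : A ⟶ W), IsOpenMap a.left → IsOpenMap (Points.ofPt ((yon S).map a ≫ qW)) := by
    intro A a ha
    rw [show Points.ofPt ((yon S).map a ≫ qW) = Points.ofPt qW ∘ a.left from funext fun z => ofPt_comp a qW z]
    exact hopen.comp ha
  obtain ⟨w4, hw4⟩ : fW.left w ∈ Set.range i.left := by
    obtain ⟨z, hz⟩ : e.left (fW.left w) ∈ Set.range (openSubι T T3).left := (range_openSubι T T3).ge ht3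
    obtain ⟨p, hp⟩ : fW.left w ∈ Set.range (openSubι T' P).left := (range_openSubι T' P).ge htP
    obtain ⟨q, hq, -⟩ := Scheme.exists_preimage_of_isPullback hsq4 p z (by
      apply (openSubι T T1).left.isOpenEmbedding.injective
      rw [← Scheme.Hom.comp_apply, ← Scheme.Hom.comp_apply, ← Over.comp_left, ← Over.comp_left, heP, hk,
        Over.comp_left, Scheme.Hom.comp_apply, hp, hz])
    exact ⟨q, by rw [← hp, ← hq]; rfl⟩
  obtain ⟨w3, hw3, -⟩ := Scheme.exists_preimage_of_isPullback hsq3 w w4 hw4.symm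
  obtain ⟨_, ⟨A₀, hA₀, rfl⟩, hwA, -⟩ := W3.left.isBasis_affineOpens.exists_subset_of_mem_open
    (Set.mem_univ w3) isOpen_univ
  let A := openSub W3 A₀
  haveI : IsAffine A.left := hA₀
  let a : A ⟶ W := openSubι W3 A₀ ≫ ι3
  haveI : IsOpenImmersion a.left := by dsimp [a]; infer_instance
  have ha : IsOpenMap a.left := a.left.isOpenEmbedding.isOpenMap
  let O : Set (Points D) := Set.range (Points.ofPt ((yon S).map a ≫ qW))
  have hO : IsOpen O := by
    simpa [O, Set.image_univ] using hqFl a ha Set.univ isOpen_univ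
  let ι := ptsIncl D O
  have hι : RepWith @IsOpenImmersion ι := repWith_ptsIncl hO
  haveI : Mono ((yon S).map (openSubι T T3)) :=
    mono_of_repWith (P := @IsOpenImmersion) (fun _ _ k (hk : IsOpenImmersion k) => inferInstance)
      ((repWith_yon_map_iff _ _).2 inferInstance)
  have hw' : ((yon S).map a ≫ qW) ≫ f = (yon S).map ((openSubι W3 A₀ ≫ f3 ≫ c) ≫ openSubι T T3) := by
    simp only [a, Functor.map_comp, Category.assoc, ι3, f3]
    have := congrArg ((yon S).map (openSubι W3 A₀) ≫ ·) sq3.w
    simpa only [Functor.map_comp, Category.assoc] using this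
  obtain ⟨f', hf'⟩ : ∃ f', f' ≫ (yon S).map (openSubι T T3) = ι ≫ f := by
    refine (exists_factor_iff ((repWith_yon_map_iff _ _).2 inferInstance) _).2 ?_
    rintro _ ⟨y, rfl⟩
    obtain ⟨z, hz⟩ := (range_ptsIncl D O).le ⟨y, rfl⟩
    rw [Points.map_comp, ← hz, Points.map_ofPt, hw', AlgSpc.ofPt_pre, pre_map, Over.comp_left, Scheme.Hom.comp_apply]
    exact ⟨Points.ofScheme _ ((openSubι W3 A₀ ≫ f3 ≫ c).left z),
      by rw [← Points.ofPt_eq_map_ofScheme, AlgSpc.ofPt_pre, pre_map]⟩
  obtain ⟨V, fst, snd, sqV⟩ := exists_sq hι.1 ((yon S).map ι3 ≫ qW)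
  haveI : IsOpenImmersion snd.left := hι.2 _ _ _ sqV
  let g : V ⟶ T4 := snd ≫ f3
  have sqO : IsPullback fst ((yon S).map g) f' ((yon S).map c) := by
    refine isPullback_of_mono ((yon S).map (openSubι T T3)) ?_
    rw [hf', ← Functor.map_comp]
    simp only [g, Functor.map_comp]
    exact sqV.paste_vert sq3
  -- quasi-compactness
  haveI : CompactSpace ↥V.left := by
    let Q := pullback (openSubι W3 A₀ ≫ f3 ≫ c) c
    have hQ := isPullback_forget (IsPullback.of_hasPullback (openSubι W3 A₀ ≫ f3 ≫ c) c)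
    haveI : IsAffine Q.left := IsAffine.of_isPullback hQ
    let Qc := isPullback_comp_mono ((IsPullback.of_hasPullback (openSubι W3 A₀ ≫ f3 ≫ c) c).map (yon S))
      ((yon S).map (openSubι T T3))
    let q : Q ⟶ W3 := pre (sq3.lift ((yon S).map (pullback.fst _ _) ≫ (yon S).map a ≫ qW) ((yon S).map (pullback.snd _ _)) (by
      rw [Category.assoc, hw', Functor.map_comp _ _ (openSubι T T3), Qc.w, Functor.map_comp]))
    have hq1 : (yon S).map (pullback.fst _ _) ≫ (yon S).map a ≫ qW = (yon S).map q ≫ (yon S).map ι3 ≫ qW := by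
      simp [q]
    have hq2 : (yon S).map q ≫ (yon S).map f3 = (yon S).map (pullback.snd _ _) := by simp [q]
    have sqQ : IsPullback ((yon S).map (pullback.fst (openSubι W3 A₀ ≫ f3 ≫ c) c)) ((yon S).map q)
        ((yon S).map a ≫ qW) ((yon S).map ι3 ≫ qW) := by
      refine IsPullback.of_bot ?_ hq1 sq3
      rw [hq2, hw', Functor.map_comp _ _ (openSubι T T3), Functor.map_comp _ c (openSubι T T3)]
      exact Qc
    have hrange : Set.range snd.left = Set.range q.left := by
      ext v
      constructor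
      · rintro ⟨v', rfl⟩
        have hv : Points.ofPt ((yon S).map ι3 ≫ qW) (snd.left v') ∈ O := by
          rw [← map_ofPt_sq sqV.w v']
          exact (range_ptsIncl D O).le ⟨_, rfl⟩
        obtain ⟨z, hz⟩ := hv
        obtain ⟨r, -, hr⟩ := exists_point_of_sq sqQ (Points.ofScheme A z) (snd.left v') (by
          rw [← Points.ofPt_eq_map_ofScheme]; exact hz)
        exact ⟨r, hr⟩
      · rintro ⟨r, rfl⟩
        have hr : Points.ofPt ((yon S).map ι3 ≫ qW) (q.left r) ∈ O :=
          ⟨(pullback.fst _ _ : Q ⟶ A).left r, by rw [← ofPt_comp, ← ofPt_comp q, hq1]⟩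
        obtain ⟨y, hy⟩ := (range_ptsIncl D O).ge hr
        obtain ⟨v, -, hv⟩ := exists_point_of_sq sqV y (q.left r) hy
        exact ⟨v, hv⟩
    refine ⟨?_⟩
    rw [snd.left.isOpenEmbedding.isEmbedding.isInducing.isCompact_iff, Set.image_univ, hrange]
    exact isCompact_range q.left.continuous
  haveI : IsSeparated g.left := by dsimp [g]; infer_instance
  haveI : LocallyQuasiFinite g.left := by dsimp [g]; infer_instance
  haveI : LocallyOfFiniteType g.left := by dsimp [g]; infer_instance
  haveI := isQuasiAffine_of_locallyQuasiFinite g.left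
  obtain ⟨V0, ⟨φ⟩⟩ := exists_yon_iso_of_quasiAffine c f' fst g sqO
  refine ⟨V0, φ.hom ≫ ι, repWith_comp (repWith_iso φ.hom) hι, ?_⟩
  have hxO : Points.ofPt qW w ∈ O := by
    refine ⟨(⟨w3, hwA⟩ : (A₀ : Scheme.{u})), ?_⟩
    rw [ofPt_comp]
    exact congrArg _ hw3
  obtain ⟨y, hy⟩ := (range_ptsIncl D O).ge hxO
  obtain ⟨v, hv⟩ := (Points.schemeHomeo V0).surjective (Points.map φ.inv y)
  refine ⟨v, ?_⟩
  rw [Points.ofPt_eq_map_ofScheme, Points.map_comp]
  change Points.map ι (Points.map φ.hom (Points.schemeHomeo V0 v)) = _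
  rw [hv, ← Points.map_comp φ.inv φ.hom, φ.inv_hom_id, Points.map_id, hy]

end Groth.Agent.AlgSpc.FppfDescent
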