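import Groth.Prelude.Def_AlgSp
import Groth.Prelude.Def_AlgSp2
import Groth.Prelude.Def_AlgSpDec
import Mathlib.AlgebraicGeometry.Morphisms.Flat
import Mathlib.AlgebraicGeometry.Morphisms.UniversallyOpen
import Mathlib.AlgebraicGeometry.Morphisms.UniversallyClosed
import Mathlib.AlgebraicGeometry.Morphisms.UniversallyInjective

/-!
Core lemmas on representable morphisms of fppf sheaves over `S` and on their points.
-/

universe u

open CategoryTheory CategoryTheory.Limits AlgebraicGeometry Opposite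

namespace Groth.Agent.AlgSpc

open _root_.AlgSp

variable {S : Scheme.{u}}

/-- A morphism `h_U ⟶ h_V` as a morphism `U ⟶ V`. -/
noncomputable abbrev pre {U V : Over S} (g : (yon S).obj U ⟶ (yon S).obj V) : U ⟶ V :=
  (yon S).preimage g

@[simp] theorem map_pre {U V : Over S} (g : (yon S).obj U ⟶ (yon S).obj V) :
    (yon S).map (pre g) = g := (yon S).map_preimage g

@[simp] theorem pre_map {U V : Over S} (g : U ⟶ V) : pre ((yon S).map g) = g :=
  (yon S).map_injective (map_pre _)

/-- Morphisms of sheaves are determined on schemes. -/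
theorem hom_ext {F G : Sp S} {f g : F ⟶ G}
    (h : ∀ (T : Over S) (a : (yon S).obj T ⟶ F), a ≫ f = a ≫ g) : f = g :=
  GrothendieckTopology.hom_ext_uliftYoneda _ h

theorem mono_of_cancel {F G : Sp S} {f : F ⟶ G}
    (h : ∀ (T : Over S) (a b : (yon S).obj T ⟶ F), a ≫ f = b ≫ f → a = b) : Mono f :=
  ⟨fun a b w => hom_ext fun T p => h T _ _ (by rw [Category.assoc, Category.assoc, w])⟩

/-- Fibre product of a representable morphism with a scheme, fully inside the essential image. -/
theorem exists_sq {F G : Sp S} {f : F ⟶ G} (hf : Representable f) {T : Over S}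
    (g : (yon S).obj T ⟶ G) :
    ∃ (V : Over S) (fst : (yon S).obj V ⟶ F) (snd : V ⟶ T),
      IsPullback fst ((yon S).map snd) f g := by
  obtain ⟨V, snd, fst, sq⟩ := hf g
  exact ⟨V, fst, snd, sq⟩

theorem repWith_mk {P : MorphismProperty Scheme.{u}} [P.RespectsIso] {F G : Sp S} {f : F ⟶ G}
    (h : ∀ ⦃T : Over S⦄ (g : (yon S).obj T ⟶ G),
      ∃ (V : Over S) (fst : (yon S).obj V ⟶ F) (snd : V ⟶ T),
        IsPullback fst ((yon S).map snd) f g ∧ P snd.left) : RepWith P f := by
  have : (P.inverseImage (Over.forget S)).RespectsIso :=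
    MorphismProperty.RespectsIso.inverseImage P _
  refine MorphismProperty.relative.of_exists fun T g => ?_
  obtain ⟨V, fst, snd, sq, hP⟩ := h g
  exact ⟨V, fst, snd, sq, hP⟩

theorem repWith_mono {P Q : MorphismProperty Scheme.{u}} (h : P ≤ Q) {F G : Sp S} {f : F ⟶ G}
    (hf : RepWith P f) : RepWith Q f :=
  ⟨hf.1, fun _ _ g fst snd sq => h _ (hf.2 g fst snd sq)⟩

theorem repWith_inf {P Q : MorphismProperty Scheme.{u}} {F G : Sp S} {f : F ⟶ G}
    (h₁ : RepWith P f) (h₂ : RepWith Q f) : RepWith (P ⊓ Q) f :=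
  ⟨h₁.1, fun _ _ g fst snd sq => ⟨h₁.2 g fst snd sq, h₂.2 g fst snd sq⟩⟩

theorem repWith_of_isPullback {P : MorphismProperty Scheme.{u}} {F' F G G' : Sp S}
    {fst : F' ⟶ F} {snd : F' ⟶ G'} {f : F ⟶ G} {g : G' ⟶ G} (sq : IsPullback fst snd f g)
    (hf : RepWith P f) : RepWith P snd :=
  MorphismProperty.of_isPullback sq hf

theorem representable_of_isPullback {F' F G G' : Sp S}
    {fst : F' ⟶ F} {snd : F' ⟶ G'} {f : F ⟶ G} {g : G' ⟶ G} (sq : IsPullback fst snd f g)
    (hf : Representable f) : Representable snd :=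
  MorphismProperty.of_isPullback sq hf

theorem repWith_comp {P : MorphismProperty Scheme.{u}} [P.IsStableUnderComposition]
    {F G H : Sp S} {f : F ⟶ G} {g : G ⟶ H} (hf : RepWith P f) (hg : RepWith P g) :
    RepWith P (f ≫ g) :=
  MorphismProperty.comp_mem _ f g hf hg

theorem repWith_iso {P : MorphismProperty Scheme.{u}} [P.RespectsIso] [P.ContainsIdentities]
    {F G : Sp S} (f : F ⟶ G) [IsIso f] : RepWith P f :=
  repWith_mk fun T g => ⟨T, g ≫ inv f, 𝟙 T,
    by rw [CategoryTheory.Functor.map_id]; exact IsPullback.of_vert_isIso ⟨by simp⟩, P.id_mem _⟩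

theorem repWith_pre {P : MorphismProperty Scheme.{u}} [P.IsStableUnderBaseChange] {U V : Over S}
    (g : (yon S).obj U ⟶ (yon S).obj V) : RepWith P g ↔ P (pre g).left := by
  conv_lhs => rw [← map_pre g]
  exact repWith_yon_map_iff P _

/-- A morphism of sheaves that is representable by monomorphisms is a monomorphism. -/
theorem mono_of_repWith {P : MorphismProperty Scheme.{u}}
    (hP : ∀ ⦃X Y : Scheme.{u}⦄ (f : X ⟶ Y), P f → Mono f)
    {F G : Sp S} {f : F ⟶ G} (hf : RepWith P f) : Mono f := by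
  refine mono_of_cancel fun T a b h => ?_
  obtain ⟨V, fst, snd, sq⟩ := exists_sq hf.1 (a ≫ f)
  have hsnd : Mono snd.left := hP _ (hf.2 _ _ _ sq)
  have key : ∀ c, (hc : c ≫ f = a ≫ f) → (yon S).map (pre (sq.lift c (𝟙 _) (by simpa using hc))) ≫ fst = c ∧
      (pre (sq.lift c (𝟙 _) (by simpa using hc))) ≫ snd = 𝟙 T := by
    intro c hc
    refine ⟨by rw [map_pre, sq.lift_fst], (yon S).map_injective ?_⟩
    rw [Functor.map_comp, map_pre, sq.lift_snd, CategoryTheory.Functor.map_id]
  obtain ⟨h1, h2⟩ := key a rfl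
  obtain ⟨h3, h4⟩ := key b h.symm
  rw [← h1, ← h3]
  congr 2
  apply Over.OverMorphism.ext
  rw [← cancel_mono snd.left]
  exact congrArg CommaMorphism.left (h2.trans h4.symm)

/-! ### points -/

/-- Every point of a sheaf is the image of the point of the spectrum of a field. -/
theorem exists_ofPt {F : Sp S} (x : Points F) :
    ∃ (T : Over S) (a : (yon S).obj T ⟶ F) (t : ↥T.left), Points.ofPt a t = x := by
  induction x using Points.ind with
  | h p => exact ⟨p.pt, p.toHom, IsLocalRing.closedPoint p.K, Points.ofPt_toHom p _⟩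

theorem toHom_map_eq {F : Sp S} (p : FieldPt F) {T : Over S} (a : T ⟶ p.pt) :
    (yon S).map a ≫ p.toHom = (J S).uliftYonedaEquiv.symm (F.obj.map a.op p.val) :=
  GrothendieckTopology.uliftYonedaEquiv_symm_naturality_left _ a F p.val

theorem ofPt_comp {F : Sp S} {T T' : Over S} (φ : T ⟶ T') (g : (yon S).obj T' ⟶ F) (t : ↥T.left) :
    Points.ofPt ((yon S).map φ ≫ g) t = Points.ofPt g (φ.left t) := by
  rw [← Points.map_ofPt, Points.ofPt_eq_map_ofScheme g]
  congr 1
  rw [← Points.ofScheme_toScheme T' (Points.ofPt _ t), Points.toScheme_ofPt]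

theorem ofPt_pre {T T' : Over S} (g : (yon S).obj T ⟶ (yon S).obj T') (t : ↥T.left) :
    Points.ofPt g t = Points.ofScheme T' ((pre g).left t) := by
  conv_lhs => rw [← map_pre g, ← Category.comp_id ((yon S).map (pre g)), ofPt_comp]

/-- The points of a fibre product surject onto the fibre product of the sets of points. -/
theorem exists_point_of_isPullback {P F H G : Sp S} {fst : P ⟶ F} {snd : P ⟶ H}
    {f : F ⟶ G} {g : H ⟶ G} (sq : IsPullback fst snd f g) (x : Points F) (y : Points H)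
    (h : Points.map f x = Points.map g y) :
    ∃ z : Points P, Points.map fst z = x ∧ Points.map snd z = y := by
  induction x using Points.ind with
  | h p =>
  induction y using Points.ind with
  | h q =>
  obtain ⟨Ω, _, w, a, b, hab⟩ := Points.mk_eq_mk_iff.1 h
  let a' : Over.mk w ⟶ p.pt := a
  let b' : Over.mk w ⟶ q.pt := b
  have w' : ((yon S).map a' ≫ p.toHom) ≫ f = ((yon S).map b' ≫ q.toHom) ≫ g :=
    calc ((yon S).map a' ≫ p.toHom) ≫ f = (yon S).map a' ≫ (p.toHom ≫ f) := Category.assoc _ _ _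
      _ = (J S).uliftYonedaEquiv.symm (G.obj.map a.op (p.map f).val) :=
          (congrArg ((yon S).map a' ≫ ·) (FieldPt.toHom_map f p).symm).trans (toHom_map_eq (p.map f) a)
      _ = (J S).uliftYonedaEquiv.symm (G.obj.map b.op (q.map g).val) := congrArg _ hab
      _ = (yon S).map b' ≫ (q.toHom ≫ g) :=
          ((congrArg ((yon S).map b' ≫ ·) (FieldPt.toHom_map g q).symm).trans (toHom_map_eq (q.map g) b)).symm
      _ = ((yon S).map b' ≫ q.toHom) ≫ g := (Category.assoc _ _ _).symm
  let l := sq.lift _ _ w'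
  refine ⟨Points.ofPt l (IsLocalRing.closedPoint Ω), ?_, ?_⟩
  · refine (Points.map_ofPt l fst _).trans ?_
    simp only [show l ≫ fst = _ from sq.lift_fst _ _ w']
    exact (ofPt_comp a' p.toHom _).trans (Points.ofPt_toHom p _)
  · refine (Points.map_ofPt l snd _).trans ?_
    simp only [show l ≫ snd = _ from sq.lift_snd _ _ w']
    exact (ofPt_comp b' q.toHom _).trans (Points.ofPt_toHom q _)

/-- The points version for a represented fibre product. -/
theorem exists_point_of_sq {F G : Sp S} {f : F ⟶ G} {T V : Over S} {g : (yon S).obj T ⟶ G}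
    {fst : (yon S).obj V ⟶ F} {snd : V ⟶ T} (sq : IsPullback fst ((yon S).map snd) f g)
    (x : Points F) (t : ↥T.left) (h : Points.map f x = Points.ofPt g t) :
    ∃ v : ↥V.left, Points.ofPt fst v = x ∧ snd.left v = t := by
  obtain ⟨z, hz₁, hz₂⟩ := exists_point_of_isPullback sq x (Points.ofScheme T t)
    (by rw [h, Points.ofPt_eq_map_ofScheme])
  obtain ⟨v, rfl⟩ := (Points.schemeEquiv V).surjective z
  refine ⟨v, ?_, ?_⟩
  · rw [Points.ofPt_eq_map_ofScheme]; exact hz₁
  · have := congrArg (Points.toScheme T) hz₂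
    change Points.toScheme T (Points.map _ (Points.ofPt _ v)) = _ at this
    rwa [Points.map_ofPt, Category.id_comp, Points.toScheme_ofPt, Points.toScheme_ofScheme] at this

theorem map_ofPt_sq {F G : Sp S} {f : F ⟶ G} {T V : Over S} {g : (yon S).obj T ⟶ G}
    {fst : (yon S).obj V ⟶ F} {snd : V ⟶ T} (w : fst ≫ f = (yon S).map snd ≫ g) (v : ↥V.left) :
    Points.map f (Points.ofPt fst v) = Points.ofPt g (snd.left v) := by
  rw [Points.map_ofPt, w, ofPt_comp]

theorem preimage_ofPt_image {F G : Sp S} {f : F ⟶ G} {T V : Over S} {g : (yon S).obj T ⟶ G}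
    {fst : (yon S).obj V ⟶ F} {snd : V ⟶ T} (sq : IsPullback fst ((yon S).map snd) f g)
    (W : Set (Points F)) :
    Points.ofPt g ⁻¹' (Points.map f '' W) = snd.left '' (Points.ofPt fst ⁻¹' W) := by
  ext t
  constructor
  · rintro ⟨x, hx, he⟩
    obtain ⟨v, rfl, rfl⟩ := exists_point_of_sq sq x t he
    exact ⟨v, hx, rfl⟩
  · rintro ⟨v, hv, rfl⟩
    exact ⟨_, hv, map_ofPt_sq sq.w v⟩

/-! ### topological properties of representable morphisms -/

/-- Surjectivity on points of a morphism, from surjectivity of its base changes to schemes. -/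
theorem surjective_map_of_sq {F G : Sp S} {f : F ⟶ G}
    (h : ∀ ⦃T : Over S⦄ (g : (yon S).obj T ⟶ G), ∃ (V : Over S) (fst : (yon S).obj V ⟶ F) (snd : V ⟶ T),
      fst ≫ f = (yon S).map snd ≫ g ∧ Function.Surjective snd.left) :
    Function.Surjective (Points.map f) := by
  intro y
  obtain ⟨T, g, t, rfl⟩ := exists_ofPt y
  obtain ⟨V, fst, snd, w, hs⟩ := h g
  obtain ⟨v, rfl⟩ := hs t
  exact ⟨_, map_ofPt_sq w v⟩

theorem surjective_map_of_repWith {F G : Sp S} {f : F ⟶ G} (hf : RepWith @Surjective f) :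
    Function.Surjective (Points.map f) :=
  surjective_map_of_sq fun T g => by
    obtain ⟨V, fst, snd, sq⟩ := exists_sq hf.1 g
    exact ⟨V, fst, snd, sq.w, (hf.2 g fst snd sq).surj⟩

theorem surjective_of_sq {F G : Sp S} {f : F ⟶ G} (hf : Function.Surjective (Points.map f))
    {T V : Over S} {g : (yon S).obj T ⟶ G}
    {fst : (yon S).obj V ⟶ F} {snd : V ⟶ T} (sq : IsPullback fst ((yon S).map snd) f g) :
    Surjective snd.left := ⟨fun t => by
  obtain ⟨x, hx⟩ := hf (Points.ofPt g t)
  obtain ⟨v, -, hv⟩ := exists_point_of_sq sq x t hx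
  exact ⟨v, hv⟩⟩

theorem repWith_surjective_iff {F G : Sp S} {f : F ⟶ G} (hf : Representable f) :
    RepWith @Surjective f ↔ Function.Surjective (Points.map f) :=
  ⟨surjective_map_of_repWith, fun h => ⟨hf, fun _ _ _ _ _ sq => surjective_of_sq h sq⟩⟩

theorem surjective_ofPt {F : Sp S} {U : Over S} {p : (yon S).obj U ⟶ F}
    (hp : RepWith @Surjective p) : Function.Surjective (Points.ofPt p) := by
  intro y
  obtain ⟨x, hx⟩ := surjective_map_of_repWith hp y
  obtain ⟨u, rfl⟩ := (Points.schemeEquiv U).surjective x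
  exact ⟨u, (Points.ofPt_eq_map_ofScheme p u).trans hx⟩

theorem isOpenMap_map_of_sq {F G : Sp S} {f : F ⟶ G}
    (h : ∀ ⦃T : Over S⦄ (g : (yon S).obj T ⟶ G), ∃ (V : Over S) (fst : (yon S).obj V ⟶ F) (snd : V ⟶ T),
      IsPullback fst ((yon S).map snd) f g ∧ IsOpenMap snd.left) :
    IsOpenMap (Points.map f) := fun W hW => Points.isOpen_iff.2 fun T g => by
  obtain ⟨V, fst, snd, sq, hs⟩ := h g
  rw [preimage_ofPt_image sq]
  exact hs _ (hW.preimage (Points.continuous_ofPt fst))

theorem isClosed_iff {F : Sp S} {C : Set (Points F)} :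
    IsClosed C ↔ ∀ (T : Over S) (g : (yon S).obj T ⟶ F), IsClosed (Points.ofPt g ⁻¹' C) := by
  simp only [← isOpen_compl_iff, ← Set.preimage_compl, Points.isOpen_iff]

theorem isClosedMap_map_of_sq {F G : Sp S} {f : F ⟶ G}
    (h : ∀ ⦃T : Over S⦄ (g : (yon S).obj T ⟶ G), ∃ (V : Over S) (fst : (yon S).obj V ⟶ F) (snd : V ⟶ T),
      IsPullback fst ((yon S).map snd) f g ∧ IsClosedMap snd.left) :
    IsClosedMap (Points.map f) := fun W hW => isClosed_iff.2 fun T g => by
  obtain ⟨V, fst, snd, sq, hs⟩ := h g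
  rw [preimage_ofPt_image sq]
  exact hs _ (hW.preimage (Points.continuous_ofPt fst))

theorem injective_map_of_sq {F G : Sp S} {f : F ⟶ G}
    (h : ∀ ⦃T : Over S⦄ (g : (yon S).obj T ⟶ G), ∃ (V : Over S) (fst : (yon S).obj V ⟶ F) (snd : V ⟶ T),
      IsPullback fst ((yon S).map snd) f g ∧ Function.Injective snd.left) :
    Function.Injective (Points.map f) := fun x y hxy => by
  obtain ⟨T, g, t, ht⟩ := exists_ofPt (Points.map f x)
  obtain ⟨V, fst, snd, sq, hs⟩ := h g
  obtain ⟨v, rfl, hv⟩ := exists_point_of_sq sq x t ht.symm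
  obtain ⟨v', rfl, hv'⟩ := exists_point_of_sq sq y t (hxy.symm.trans ht.symm)
  rw [hs (hv.trans hv'.symm)]

theorem isQuotientMap_map_of_sq {F G : Sp S} {f : F ⟶ G}
    (h : ∀ ⦃T : Over S⦄ (g : (yon S).obj T ⟶ G), ∃ (V : Over S) (fst : (yon S).obj V ⟶ F) (snd : V ⟶ T),
      IsPullback fst ((yon S).map snd) f g ∧ Topology.IsQuotientMap snd.left) :
    Topology.IsQuotientMap (Points.map f) := by
  refine (Topology.isQuotientMap_iff _).2 ⟨?_, surjective_map_of_sq fun T g => ?_⟩
  · refine Topology.isCoinducing_iff.2 fun W => ⟨fun hW => ?_, fun hW => hW.preimage (Points.continuous_map f)⟩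
    refine Points.isOpen_iff.2 fun T g => ?_
    obtain ⟨V, fst, snd, sq, hs⟩ := h g
    rw [← hs.isOpen_preimage]
    have : snd.left ⁻¹' (Points.ofPt g ⁻¹' W) = Points.ofPt fst ⁻¹' (Points.map f ⁻¹' W) := by
      ext v
      simp only [Set.mem_preimage, map_ofPt_sq sq.w v]
    rw [this]
    exact hW.preimage (Points.continuous_ofPt fst)
  · obtain ⟨V, fst, snd, sq, hs⟩ := h g
    exact ⟨V, fst, snd, sq.w, hs.surjective⟩

theorem ofPt_eq_comp {F : Sp S} {U : Over S} (p : (yon S).obj U ⟶ F) :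
    Points.ofPt p = Points.map p ∘ Points.schemeHomeo U :=
  funext fun u => Points.ofPt_eq_map_ofScheme p u

theorem isOpenMap_map_of_repWith {P : MorphismProperty Scheme.{u}}
    (hP : ∀ ⦃X Y : Scheme.{u}⦄ (f : X ⟶ Y), P f → IsOpenMap f)
    {F G : Sp S} {f : F ⟶ G} (hf : RepWith P f) : IsOpenMap (Points.map f) :=
  isOpenMap_map_of_sq fun T g => by
    obtain ⟨V, fst, snd, sq⟩ := exists_sq hf.1 g
    exact ⟨V, fst, snd, sq, hP _ (hf.2 g fst snd sq)⟩

theorem isOpenMap_of_etale ⦃X Y : Scheme.{u}⦄ (f : X ⟶ Y) (hf : Etale f) : IsOpenMap f :=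
  f.isOpenMap

theorem isOpenMap_ofPt {F : Sp S} {U : Over S} {a : (yon S).obj U ⟶ F} (ha : RepWith @Etale a) :
    IsOpenMap (Points.ofPt a) := by
  rw [ofPt_eq_comp]
  exact (isOpenMap_map_of_repWith isOpenMap_of_etale ha).comp (Points.schemeHomeo U).isOpenMap

theorem isQuotientMap_ofPt {F : Sp S} {U : Over S} {p : (yon S).obj U ⟶ F}
    (hp : RepWith @Etale p) (hs : RepWith @Surjective p) :
    Topology.IsQuotientMap (Points.ofPt p) :=
  (isOpenMap_ofPt hp).isQuotientMap (Points.continuous_ofPt p) (surjective_ofPt hs)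

end Groth.Agent.AlgSpc
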