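import Groth.Agent.AlgSpc.CoverTest
import Groth.Agent.AlgSpc.DecentNoeth
import Groth.Agent.AlgSpc.SpCoprod
import Groth.Agent.AlgSpc.EqvRel
import Groth.Agent.AlgSpc.EtLocInst
import Groth.Agent.AlgSpLoc.AffineMor
import Groth.Agent.AlgSpc.Universal
import Groth.Agent.LimSch.Constructible

/-!
Separation properties from charts, points, open subspaces which are schemes.
-/

set_option autoImplicit false
set_option linter.style.haveILetI false
set_option backward.isDefEq.respectTransparency false

universe u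

open CategoryTheory CategoryTheory.Limits AlgebraicGeometry Opposite Topology

namespace Groth.Agent.AlgSpc

open _root_.AlgSp Groth.Agent.AlgSpLoc

variable {S : Scheme.{u}}

theorem ofPt_eq_iff_of_sq {X : Sp S} {R U : Over S} {p : (yon S).obj U ⟶ X} {t s : R ⟶ U}
    (h : IsPullback ((yon S).map t) ((yon S).map s) p p) (u u' : ↥U.left) :
    Points.ofPt p u = Points.ofPt p u' ↔ ∃ r : ↥R.left, t.left r = u ∧ s.left r = u' := by
  constructor
  · intro e
    obtain ⟨z, hz₁, hz₂⟩ := exists_point_of_isPullback h (Points.ofScheme U u) (Points.ofScheme U u')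
      (by rw [← Points.ofPt_eq_map_ofScheme, ← Points.ofPt_eq_map_ofScheme, e])
    obtain ⟨r, rfl⟩ := (Points.schemeHomeo R).surjective z
    refine ⟨r, (Points.schemeHomeo U).injective ?_, (Points.schemeHomeo U).injective ?_⟩
    · refine Eq.trans ?_ hz₁
      change Points.ofScheme U (t.left r) = Points.map _ (Points.ofScheme R r)
      rw [← Points.ofPt_eq_map_ofScheme, AlgSpc.ofPt_pre, pre_map]
    · refine Eq.trans ?_ hz₂
      change Points.ofScheme U (s.left r) = Points.map _ (Points.ofScheme R r)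
      rw [← Points.ofPt_eq_map_ofScheme, AlgSpc.ofPt_pre, pre_map]
  · rintro ⟨r, rfl, rfl⟩
    rw [← ofPt_comp, ← ofPt_comp, h.w]

/-- The fibre product over a sheaf maps by a monomorphism to the product over the base. -/
theorem exists_mono_lift {X : Sp S} {U V W : Over S} {a : (yon S).obj U ⟶ X} {b : (yon S).obj V ⟶ X}
    {fst : (yon S).obj W ⟶ (yon S).obj U} {snd : W ⟶ V} (sq : IsPullback fst ((yon S).map snd) a b) :
    ∃ l : W ⟶ pullback (toBase U) (toBase V), l ≫ pullback.fst _ _ = pre fst ∧ l ≫ pullback.snd _ _ = snd ∧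
      Mono l.left := by
  refine ⟨pullback.lift (pre fst) snd (toBase_unique _ _), pullback.lift_fst _ _ _, pullback.lift_snd _ _ _, ?_⟩
  haveI : Mono (pullback.lift (pre fst) snd (toBase_unique _ _) : W ⟶ pullback (toBase U) (toBase V)) :=
    ⟨fun {Z} x y e => by
      have e₁ := congrArg (· ≫ pullback.fst (toBase U) (toBase V)) e
      have e₂ := congrArg (· ≫ pullback.snd (toBase U) (toBase V)) e
      simp only [Category.assoc, pullback.lift_fst, pullback.lift_snd] at e₁ e₂
      exact (yon S).map_injective (sq.hom_ext (by rw [← map_pre fst, ← Functor.map_comp, e₁, Functor.map_comp])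
        (by rw [← Functor.map_comp, e₂, Functor.map_comp]))⟩
  exact inferInstanceAs (Mono ((Over.forget S).map _))

theorem repWith_isSeparated_of_separated {X : Sp S} (hX : IsAlgSpace X) {U : Over S}
    [U.left.IsSeparated] (a : (yon S).obj U ⟶ X) : RepWith @IsSeparated a := by
  refine repWith_mk fun T g => ?_
  obtain ⟨V, fst, snd, sq⟩ := exists_sq (hX.representable_from_yon a) g
  refine ⟨V, fst, snd, sq, ?_⟩
  obtain ⟨l, -, hl₂, hm⟩ := exists_mono_lift sq
  haveI := hm
  haveI : IsSeparated U.hom := by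
    haveI : IsSeparated (U.hom ≫ terminal.from S) := by rw [terminal.comp_from]; infer_instance
    exact IsSeparated.of_comp U.hom (terminal.from S)
  haveI : IsSeparated (pullback.snd (toBase U) (toBase T)).left :=
    MorphismProperty.of_isPullback (P := @IsSeparated)
      (FppfDescent.isPullback_forget (IsPullback.of_hasPullback (toBase U) (toBase T))) (inferInstanceAs (IsSeparated U.hom))
  rw [← hl₂, Over.comp_left]
  infer_instance

theorem isSeparated_relation {X : Sp S} (hX : IsAlgSpace X) {R U : Over S} [U.left.IsSeparated]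
    {a : (yon S).obj U ⟶ X} {t s : R ⟶ U} (h : IsPullback ((yon S).map t) ((yon S).map s) a a) :
    R.left.IsSeparated := by
  haveI : IsSeparated s.left := (repWith_isSeparated_of_separated hX a).2 a _ s h
  refine ⟨?_⟩
  rw [← terminal.comp_from s.left]
  infer_instance

theorem exists_compact_open_image {C D : Scheme.{u}} (c : C ⟶ D) (hc : IsOpenMap c) {U : Set D} (hUo : IsOpen U)
    (hUc : IsCompact U) (hU : U ⊆ Set.range c) : ∃ K : C.Opens, IsCompact (K : Set C) ∧ c '' K = U := by
  choose w hw using fun x : ↥U => hU x.2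
  choose T hT hxT hTU using fun x : ↥U => C.isBasis_affineOpens.exists_subset_of_mem_open
    (show w x ∈ c ⁻¹' U by rw [Set.mem_preimage, hw]; exact x.2) (hUo.preimage c.continuous)
  choose O hO hOT using hT
  obtain ⟨F, hF⟩ := hUc.elim_finite_subcover (fun x : ↥U => c '' (O x : Set C))
    (fun x => hc _ (O x).isOpen) (fun x hx => Set.mem_iUnion.2 ⟨⟨x, hx⟩, w ⟨x, hx⟩, hOT _ ▸ hxT _, hw ⟨x, hx⟩⟩)
  refine ⟨⨆ x ∈ F, O x, ?_, ?_⟩
  · simp only [TopologicalSpace.Opens.coe_iSup]
    exact F.finite_toSet.isCompact_biUnion fun x _ => (hO x).isCompact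
  · simp only [TopologicalSpace.Opens.coe_iSup, Set.image_iUnion₂]
    refine Set.Subset.antisymm (Set.iUnion₂_subset fun x _ => ?_) hF
    rintro _ ⟨y, hy, rfl⟩
    exact hTU x (hOT x ▸ hy)

theorem quasiCompact_of_surjective_descent {A B C D : Scheme.{u}} {a : A ⟶ B} {k' : A ⟶ C} {k : B ⟶ D}
    {c : C ⟶ D} (s : IsPullback a k' k c) [Flat c] [LocallyOfFinitePresentation c] [Surjective c]
    [QuasiCompact k'] : QuasiCompact k := by
  refine ⟨fun U hUo hUc => ?_⟩
  obtain ⟨K, hK, hKU⟩ := exists_compact_open_image c c.isOpenMap hUo hUc (c.surjective.range_eq ▸ Set.subset_univ U)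
  have hKc := (QuasiCompact.isCompact_preimage (f := k') _ K.isOpen hK).image a.continuous
  convert hKc
  ext b
  constructor
  · intro hb
    obtain ⟨y, hy, e⟩ := hKU.ge hb
    obtain ⟨z, hz₁, hz₂⟩ := Scheme.Pullback.exists_preimage_pullback b y e.symm
    refine ⟨s.isoPullback.inv z, ?_, ?_⟩
    · rw [Set.mem_preimage, ← Scheme.Hom.comp_apply, s.isoPullback_inv_snd, hz₂]
      exact hy
    · rw [← Scheme.Hom.comp_apply, s.isoPullback_inv_fst, hz₁]
  · rintro ⟨z, hz, rfl⟩
    rw [Set.mem_preimage, ← Scheme.Hom.comp_apply, s.w, Scheme.Hom.comp_apply]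
    exact hKU.le ⟨_, hz, rfl⟩

theorem isQuasiSeparatedSp_of_chart {X : Sp S} (hX : IsAlgSpace X) {R U : Over S}
    {p : (yon S).obj U ⟶ X} (hp : RepWith @Etale p) (hs : RepWith @Surjective p)
    [QuasiSeparatedSpace ↥U.left] {s t : R ⟶ U}
    (hR : IsPullback ((yon S).map t) ((yon S).map s) p p) [QuasiCompact t.left] : IsQuasiSeparatedSp X := by
  have hQ := (IsPullback.of_hasPullback (toBase U) (toBase U)).map (Over.forget S)
  obtain ⟨l, hl₁, -, sql⟩ := isPullback_diag_chart hR (π₁ := pullback.fst (toBase U) (toBase U))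
    (π₂ := pullback.snd (toBase U) (toBase U)) (by simpa [toBase] using hQ)
  haveI : QuasiSeparated U.hom := QuasiSeparated.of_quasiSeparatedSpace _
  haveI : QuasiSeparated (pullback.fst (toBase U) (toBase U)).left :=
    MorphismProperty.of_isPullback (P := @QuasiSeparated) hQ.flip (inferInstanceAs (QuasiSeparated U.hom))
  haveI : QuasiCompact (l.left ≫ (pullback.fst (toBase U) (toBase U)).left) := by
    rw [← Over.comp_left, hl₁, pre_map]; infer_instance
  refine repWith_of_cover (P := @QuasiCompact) (fun A B C D a k' k c s h₁ h₂ h₃ hk =>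
      haveI := h₁; haveI := h₂; haveI := h₃; haveI := hk; quasiCompact_of_surjective_descent s)
    hX.diag sql (fun T x => ?_) (QuasiCompact.of_comp l.left (pullback.fst (toBase U) (toBase U)).left)
  obtain ⟨T₁, c₁, m₁, f₁, p₁, s₁, w₁⟩ := exists_lift_of_atlas hp hs T (x ≫ prod.fst)
  obtain ⟨T₂, c₂, m₂, f₂, p₂, s₂, w₂⟩ := exists_lift_of_atlas hp hs T₁ ((yon S).map c₁ ≫ x ≫ prod.snd)
  refine ⟨T₂, c₂ ≫ c₁, pullback.lift (c₂ ≫ m₁) m₂ (toBase_unique _ _), ?_, ?_, ?_, ?_⟩
  · rw [Over.comp_left]; infer_instance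
  · rw [Over.comp_left]; infer_instance
  · rw [Over.comp_left]; infer_instance
  · apply Limits.prod.hom_ext
    · rw [Category.assoc, Category.assoc, prod.lift_fst, Functor.map_comp, Category.assoc, w₁,
        ← Functor.map_comp_assoc, ← Functor.map_comp_assoc, pullback.lift_fst]
    · rw [Category.assoc, Category.assoc, prod.lift_snd, Functor.map_comp, Category.assoc, w₂,
        ← Functor.map_comp_assoc, pullback.lift_snd]

/-- Testing the diagonal over affine schemes. -/
theorem repWith_diag_of_affine {X : Sp S} (hX : IsAlgSpace X) {P : MorphismProperty Scheme.{u}}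
    [IsZariskiLocalAtTarget P]
    (h : ∀ ⦃T W K : Over S⦄ (a b : (yon S).obj T ⟶ X) (fst snd : W ⟶ T) (i : K ⟶ W) (k : K ⟶ T),
      IsAffine T.left → IsPullback ((yon S).map fst) ((yon S).map snd) a b → i ≫ fst = k → i ≫ snd = k →
      IsClosedImmersion i.left → P k.left) :
    RepWith P (diag X) := by
  refine repWith_of_tested (diag X) fun T hT x => ?_
  haveI : IsAffine T.left := hT
  obtain ⟨W, fst₀, snd, sq⟩ := exists_sq (hX.representable_from_yon (x ≫ prod.fst)) (x ≫ prod.snd)
  let fst : W ⟶ T := pre fst₀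
  have sq' : IsPullback ((yon S).map fst) ((yon S).map snd) (x ≫ prod.fst) (x ≫ prod.snd) := by
    rw [map_pre]; exact sq
  let l : W ⟶ pullback (toBase T) (toBase T) := pullback.lift fst snd (toBase_unique _ _)
  let Δ : T ⟶ pullback (toBase T) (toBase T) := pullback.diagonal (toBase T)
  have s := IsPullback.of_hasPullback l Δ
  let p := pullback.fst l Δ
  let k := pullback.snd l Δ
  have hk₁ : p ≫ fst = k := by simpa [p, k, l, Δ] using congrArg (· ≫ pullback.fst (toBase T) (toBase T)) s.w
  have hk₂ : p ≫ snd = k := by simpa [p, k, l, Δ] using congrArg (· ≫ pullback.snd (toBase T) (toBase T)) s.w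
  haveI : IsClosedImmersion Δ.left := by
    haveI : IsSeparated (toBase T).left := by
      haveI : IsSeparated (T.hom ≫ terminal.from S) := by rw [terminal.comp_from]; infer_instance
      exact IsSeparated.of_comp T.hom (terminal.from S)
    have sT := FppfDescent.isPullback_forget (IsPullback.of_hasPullback (toBase T) (toBase T))
    have : Δ.left ≫ sT.isoPullback.hom = pullback.diagonal (toBase T).left := by
      apply pullback.hom_ext
      · erw [Category.assoc, sT.isoPullback_hom_fst, ← Over.comp_left, pullback.diagonal_fst, pullback.diagonal_fst]; rfl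
      · erw [Category.assoc, sT.isoPullback_hom_snd, ← Over.comp_left, pullback.diagonal_snd, pullback.diagonal_snd]; rfl
    rw [← MorphismProperty.cancel_right_of_respectsIso @IsClosedImmersion _ sT.isoPullback.hom, this]
    infer_instance
  haveI hp : IsClosedImmersion p.left :=
    MorphismProperty.of_isPullback (P := @IsClosedImmersion) (FppfDescent.isPullback_forget s.flip) ‹_›
  haveI : Mono p := (Over.forget S).mono_of_mono_map (inferInstanceAs (Mono p.left))
  have hlift : ∀ c : PullbackCone (diag X) x, ∃ n, n ≫ (yon S).map k ≫ x ≫ prod.fst = c.fst ∧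
      n ≫ (yon S).map k = c.snd := fun c => by
    have e₁ : c.snd ≫ x ≫ prod.fst = c.fst := by simpa using congrArg (· ≫ prod.fst) c.condition.symm
    have e₂ : c.snd ≫ x ≫ prod.snd = c.fst := by simpa using congrArg (· ≫ prod.snd) c.condition.symm
    let m := sq'.lift c.snd c.snd (e₁.trans e₂.symm)
    have w : m ≫ (yon S).map l = c.snd ≫ (yon S).map Δ := by
      apply ((IsPullback.of_hasPullback (toBase T) (toBase T)).map (yon S)).hom_ext
      · rw [Category.assoc, Category.assoc, ← Functor.map_comp, ← Functor.map_comp, pullback.lift_fst,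
          pullback.diagonal_fst, sq'.lift_fst, CategoryTheory.Functor.map_id, Category.comp_id]
      · rw [Category.assoc, Category.assoc, ← Functor.map_comp, ← Functor.map_comp, pullback.lift_snd,
          pullback.diagonal_snd, sq'.lift_snd, CategoryTheory.Functor.map_id, Category.comp_id]
    refine ⟨(s.map (yon S)).lift m c.snd w, ?_, (s.map (yon S)).lift_snd _ _ _⟩
    rw [(s.map (yon S)).lift_snd_assoc, e₁]
  choose n hn₁ hn₂ using hlift
  haveI : Mono k := by
    refine ⟨fun {Z} a b h => ?_⟩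
    rw [← cancel_mono p]
    exact (yon S).map_injective (sq'.hom_ext (by rw [← Functor.map_comp, ← Functor.map_comp, Category.assoc,
      Category.assoc, hk₁, h]) (by rw [← Functor.map_comp, ← Functor.map_comp, Category.assoc, Category.assoc,
      hk₂, h]))
  refine ⟨_, k, (yon S).map k ≫ x ≫ prod.fst, IsPullback.of_isLimit' ⟨?_⟩ (PullbackCone.IsLimit.mk _ n hn₁ hn₂
    fun c m _ hm => (cancel_mono ((yon S).map k)).1 (hm.trans (hn₂ c).symm)),
    h _ _ fst snd p k hT sq' hk₁ hk₂ hp⟩
  ext
  · simp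
  · have := congrArg ((yon S).map p ≫ ·) sq'.w
    simp only [← Functor.map_comp_assoc, hk₁, hk₂] at this
    simp [this]

theorem isQuasiSeparatedSp_of_affine {X : Sp S} (hX : IsAlgSpace X)
    (h : ∀ (U V P : Over S) (a : (yon S).obj U ⟶ X) (b : (yon S).obj V ⟶ X) (fst : P ⟶ U) (snd : P ⟶ V),
      IsAffine U.left → IsAffine V.left →
      IsPullback ((yon S).map fst) ((yon S).map snd) a b → CompactSpace ↥P.left) :
    IsQuasiSeparatedSp X := by
  refine repWith_diag_of_affine hX fun T W K a b fst snd i k hT sq _ _ hi => ?_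
  haveI := h T T W a b fst snd hT hT sq
  haveI := hT; haveI := hi
  haveI : CompactSpace ↥K.left := QuasiCompact.compactSpace_of_compactSpace i.left
  exact quasiCompact_of_compactSpace k.left

theorem isSeparatedSp_of_affine {X : Sp S} (hX : IsAlgSpace X)
    (h : ∀ (U V P : Over S) (a : (yon S).obj U ⟶ X) (b : (yon S).obj V ⟶ X) (fst : P ⟶ U) (snd : P ⟶ V),
      IsAffine U.left → IsAffine V.left →
      IsPullback ((yon S).map fst) ((yon S).map snd) a b →
        IsAffine P.left ∧ Function.Surjective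
          (Algebra.TensorProduct.productMap fst.left.appTop.hom.toIntAlgHom snd.left.appTop.hom.toIntAlgHom)) :
    IsSeparatedSp X := by
  refine repWith_diag_of_affine hX fun T W K a b fst snd i k hT sq e₁ e₂ hi => ?_
  obtain ⟨hW, hsurj⟩ := h T T W a b fst snd hT hT sq
  haveI := hT; haveI := hW; haveI := hi
  haveI : IsAffine K.left := isAffine_of_isAffineHom i.left
  refine IsClosedImmersion.of_surjective_of_isAffine _ ?_
  have hi' := (IsClosedImmersion.isAffine_surjective_of_isAffine i.left).2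
  intro y
  obtain ⟨w, rfl⟩ := hi' y
  obtain ⟨q, rfl⟩ := hsurj w
  induction q using TensorProduct.induction_on with
  | zero => exact ⟨0, by simp⟩
  | add p q hp hq =>
    obtain ⟨y₁, h₁⟩ := hp; obtain ⟨y₂, h₂⟩ := hq
    exact ⟨y₁ + y₂, by simp [map_add, h₁, h₂]⟩
  | tmul p q =>
    refine ⟨p * q, ?_⟩
    simp only [Algebra.TensorProduct.productMap_apply_tmul, map_mul]
    congr 1
    · change _ = i.left.appTop.hom (fst.left.appTop.hom p)
      rw [← e₁]; simp
    · change _ = i.left.appTop.hom (snd.left.appTop.hom q)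
      rw [← e₂]; simp

theorem finite_fibres_of_qc_proj {X : Sp S} {R U : Over S} {a : (yon S).obj U ⟶ X} (ha : RepWith @Etale a)
    {s t : R ⟶ U} (hR : IsPullback ((yon S).map t) ((yon S).map s) a a)
    [QuasiCompact s.left] [QuasiCompact t.left] (x : Points X) :
    (Points.ofPt a ⁻¹' {x}).Finite ∧ (Points.ofPt ((yon S).map t ≫ a) ⁻¹' {x}).Finite := by
  haveI : Etale s.left := ha.2 a _ s hR
  haveI : Etale t.left := ha.2 a _ t hR.flip
  haveI : LocallyQuasiFinite s.left := lqf_of_etale _
  haveI : LocallyQuasiFinite t.left := lqf_of_etale _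
  have h₁ : (Points.ofPt a ⁻¹' {x}).Finite := by
    rcases (Points.ofPt a ⁻¹' {x}).eq_empty_or_nonempty with h | ⟨u₀, hu₀⟩
    · simp [h]
    refine ((s.left.finite_preimage_singleton u₀).image t.left).subset fun u hu => ?_
    obtain ⟨r, hr₁, hr₂⟩ := (ofPt_eq_iff_of_sq hR u u₀).1 (by
      rw [Set.mem_preimage, Set.mem_singleton_iff] at hu hu₀; rw [hu, hu₀])
    exact ⟨r, hr₂, hr₁⟩
  refine ⟨h₁, (t.left.finite_preimage h₁).subset fun r hr => ?_⟩
  rw [Set.mem_preimage, Set.mem_preimage] at *
  rwa [ofPt_comp] at hr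

theorem isLocallyConstructible_preimage {X : Sp S} (hX : IsAlgSpace X) (E : Set (Points X)) {U : Over S}
    {p : (yon S).obj U ⟶ X} (hp : RepWith @Etale p) (hs : RepWith @Surjective p)
    (hE : IsLocallyConstructible (Points.ofPt p ⁻¹' E)) {V : Over S} {a : (yon S).obj V ⟶ X}
    (ha : RepWith @Etale a) : IsLocallyConstructible (Points.ofPt a ⁻¹' E) := by
  obtain ⟨W, q, r, sq⟩ := exists_sq hp.1 a
  haveI : Etale r.left := hp.2 _ _ _ sq
  haveI : Surjective r.left := hs.2 _ _ _ sq
  haveI : Etale (pre q).left := sq_etale sq ha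
  have hpre : r.left ⁻¹' (Points.ofPt a ⁻¹' E) = (pre q).left ⁻¹' (Points.ofPt p ⁻¹' E) := by
    ext z
    simp only [Set.mem_preimage, ← ofPt_comp, map_pre, sq.w]
  intro v
  obtain ⟨_, ⟨B, hB, rfl⟩, hvB, -⟩ := V.left.isBasis_affineOpens.exists_subset_of_mem_open
    (Set.mem_univ v) isOpen_univ
  refine ⟨B, B.isOpen.mem_nhds hvB, B.isOpen, ?_⟩
  obtain ⟨K, hK, hKB⟩ := exists_compact_open_image r.left r.left.isOpenMap B.isOpen hB.isCompact
    (r.left.surjective.range_eq ▸ Set.subset_univ _)
  have le : K ≤ r.left ⁻¹ᵁ B := fun z hz => hKB.le ⟨z, hz, rfl⟩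
  let f : K.toScheme ⟶ Scheme.Opens.toScheme (B : V.left.Opens) := r.left.resLE B K le
  haveI : IsAffine (Scheme.Opens.toScheme (B : V.left.Opens)) := hB
  haveI : CompactSpace K.toScheme := isCompact_iff_compactSpace.1 hK
  haveI : QuasiCompact f := quasiCompact_of_compactSpace f
  haveI : LocallyOfFinitePresentation f := inferInstance
  have h2 := f.isLocallyConstructible_image (LimSch.isLocallyConstructible_preimage (K.ι ≫ (pre q).left) hE)
  have heq : (Subtype.val ⁻¹' (Points.ofPt a ⁻¹' E) : Set ↥(B : Set V.left)) = f '' ((K.ι ≫ (pre q).left) ⁻¹' (Points.ofPt p ⁻¹' E)) := by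
    have hf : ∀ z : ↥K, (f z).1 = r.left z.1 := fun z => by
      change (f ≫ Scheme.Opens.ι B) z = (K.ι ≫ r.left) z
      rw [Scheme.Hom.resLE_comp_ι]
    ext ⟨b, hb⟩
    constructor
    · intro h
      obtain ⟨z, hz, e⟩ := hKB.ge hb
      exact ⟨⟨z, hz⟩, (Set.ext_iff.1 hpre z).1 (show r.left z ∈ Points.ofPt a ⁻¹' E by rw [e]; exact h), Subtype.ext ((hf _).trans e)⟩
    · rintro ⟨z, hz, e⟩
      have := (Set.ext_iff.1 hpre z.1).2 hz
      rw [Set.mem_preimage, ← hf, e] at this
      exact this
  exact heq ▸ h2.isConstructible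

theorem exists_factor_open_image {X X' : Sp S} (hX' : IsAlgSpace X') {U : Over S} (a : (yon S).obj U ⟶ X)
    (ha : RepWith @Etale a) (j : X' ⟶ X) (hj : RepWith @IsOpenImmersion j)
    (himage : Set.range (Points.map j) = Set.range (Points.ofPt a)) :
    ∃ a' : (yon S).obj U ⟶ X', a' ≫ j = a ∧ RepWith @Etale a' ∧ RepWith @Surjective a' ∧
      ∀ (R : Over S) (s t : R ⟶ U), IsPullback ((yon S).map t) ((yon S).map s) a a → IsPresentation s t a' := by
  haveI : Mono j := mono_of_repWith (fun _ _ k (hk : IsOpenImmersion k) => inferInstance) hj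
  obtain ⟨a', ha'⟩ := (exists_factor_iff hj a).2 (by
    rw [himage]
    rintro _ ⟨x, rfl⟩
    obtain ⟨u, rfl⟩ := (Points.schemeHomeo U).surjective x
    exact ⟨u, (Points.ofPt_eq_map_ofScheme a u).trans rfl⟩)
  have sq : IsPullback (𝟙 _) a' a j := IsPullback.of_horiz_isIso_mono ⟨by simp [ha']⟩
  have he := repWith_of_isPullback sq ha
  have hs : RepWith @Surjective a' := by
    refine (repWith_surjective_iff he.1).2 fun y => ?_
    obtain ⟨u, hu⟩ := himage.le ⟨y, rfl⟩
    obtain ⟨z, -, hz⟩ := exists_point_of_isPullback sq (Points.ofScheme U u) y (by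
      rw [← Points.ofPt_eq_map_ofScheme, hu])
    exact ⟨z, hz⟩
  refine ⟨a', ha', he, hs, fun R s t hR => ?_⟩
  have hR' : IsPullback ((yon S).map t) ((yon S).map s) a' a' := isPullback_of_mono j (by rw [ha']; exact hR)
  exact ⟨isEtaleEqvRel_of_isPullback he hR', he, hs, hR'⟩

theorem exists_largest_scheme_open {X : Sp S} (hX : IsAlgSpace X) :
    ∃ (O : Set (Points X)), IsOpen O ∧ (∃ W : Over S, Nonempty ((yon S).obj W ≅ ptsSheaf X O)) ∧
      ∀ (W : Over S) (e : (yon S).obj W ⟶ X), RepWith @IsOpenImmersion e → Set.range (Points.ofPt e) ⊆ O := by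
  obtain ⟨U, p, hp, hps⟩ := hX.atlas
  let O : Set (Points X) :=
    {x | ∃ (W : Over S) (e : (yon S).obj W ⟶ X), RepWith @IsOpenImmersion e ∧ x ∈ Set.range (Points.ofPt e)}
  have hopen : ∀ (W : Over S) (e : (yon S).obj W ⟶ X), RepWith @IsOpenImmersion e →
      IsOpen (Set.range (Points.ofPt e)) := fun W e he =>
    (isOpenMap_ofPt (repWith_mono (P := @IsOpenImmersion) (Q := @Etale)
      (fun _ _ k (hk : IsOpenImmersion k) => inferInstance) he)).isOpen_range
  have hO : IsOpen O := isOpen_iff_forall_mem_open.2 fun x ⟨W, e, he, hx⟩ =>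
    ⟨_, fun y hy => ⟨W, e, he, hy⟩, hopen W e he, hx⟩
  refine ⟨O, hO, ?_, fun W e he x hx => ⟨W, e, he, hx⟩⟩
  let κ := {u : ↥U.left // Points.ofPt p u ∈ O}
  choose W e he hx using fun k : κ => k.2
  haveI : Mono (ptsIncl X O) := inferInstance
  choose e' he' using fun k : κ => (exists_ptsIncl_iff O (e k)).2 fun w => ⟨W k, e k, he k, w, rfl⟩
  refine exists_yon_iso_of_open_cover (V := W) (e := e') (fun k => repWith_of_isPullback
    (IsPullback.of_horiz_isIso_mono ⟨by simp [he' k]⟩ : IsPullback (𝟙 _) (e' k) (e k) (ptsIncl X O)) (he k)) fun y => ?_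
  obtain ⟨u, hu⟩ := surjective_ofPt hps (Points.map (ptsIncl X O) y)
  have hk : Points.ofPt p u ∈ O := hu ▸ (range_ptsIncl X O).le ⟨y, rfl⟩
  obtain ⟨w, hw⟩ := hx ⟨u, hk⟩
  refine ⟨⟨u, hk⟩, w, injective_map_of_repWith (fun _ _ f (hf : IsOpenImmersion f) => f.isOpenEmbedding.injective) (repWith_ptsIncl hO) ?_⟩
  rw [Points.map_ofPt, he', hw, hu]

theorem repWith_etale_of_comp {X : Sp S} (hX : IsAlgSpace X) {U U' : Over S} (χ : U ⟶ U') [Etale χ.left]
    [Surjective χ.left] (φ : (yon S).obj U' ⟶ X) (h : RepWith @Etale ((yon S).map χ ≫ φ)) : RepWith @Etale φ := by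
  refine repWith_mk fun T g => ?_
  obtain ⟨V, fst, snd, sq⟩ := exists_sq (hX.representable_from_yon φ) g
  refine ⟨V, fst, snd, sq, ?_⟩
  have s₀ := IsPullback.of_hasPullback (pre fst) χ
  have big : IsPullback ((yon S).map (pullback.snd (pre fst) χ)) ((yon S).map (pullback.fst (pre fst) χ ≫ snd))
      ((yon S).map χ ≫ φ) g := by
    have s₁ := s₀.flip.map (yon S)
    rw [map_pre] at s₁
    rw [Functor.map_comp]
    exact s₁.paste_vert sq
  haveI : Etale (pullback.fst (pre fst) χ).left :=
    MorphismProperty.of_isPullback (P := @Etale) (FppfDescent.isPullback_forget s₀.flip) ‹_›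
  haveI : Surjective (pullback.fst (pre fst) χ).left :=
    MorphismProperty.of_isPullback (P := @Surjective) (FppfDescent.isPullback_forget s₀.flip) ‹_›
  have he := h.2 g _ _ big
  change Etale (pullback.fst (pre fst) χ ≫ snd).left at he
  rw [Over.comp_left] at he
  exact EtLoc.descend (pullback.fst (pre fst) χ).left snd.left ‹_› ‹_› he

end Groth.Agent.AlgSpc
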