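import Groth.Agent.AlgSpc.Compact
import Groth.Agent.AlgSpc.UnivOpenField
import Groth.Prelude.Def_AlgSpEt
import Groth.Prelude.Def_AlgSpOX
import Groth.Prelude.Def_AlgSpRep
import Groth.Prelude.Def_AlgSpMor5
import Groth.Prelude.Def_ModSite

/-!
Further consequences of the core lemmas.
-/

universe u

open CategoryTheory CategoryTheory.Limits AlgebraicGeometry Opposite

set_option backward.isDefEq.respectTransparency false

namespace Groth.Agent.AlgSpc

open _root_.AlgSp

variable {S : Scheme.{u}}

theorem isQuasiCompactSp_of_surjective {F G : Sp S} (hG : IsAlgSpace G) {f : F ⟶ G}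
    (hf : Function.Surjective (Points.map f)) (hF : IsQuasiCompactSp F) : IsQuasiCompactSp G := by
  have := compactSpace_points hF
  refine (isQuasiCompactSp_iff hG).2 ⟨?_⟩
  rw [← hf.range_eq]
  exact isCompact_range (Points.continuous_map f)

/-- A quasi-compact open of the points is covered by an affine scheme etale over the sheaf. -/
theorem exists_affine_range {F : Sp S} (hF : IsAlgSpace F) {V : Set (Points F)} (hV : IsOpen V)
    (hVc : IsCompact V) :
    ∃ (W : Over S) (q : (yon S).obj W ⟶ F),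
      IsAffine W.left ∧ RepWith @Etale q ∧ Set.range (Points.ofPt q) = V := by
  obtain ⟨U, p, hp, hs⟩ := hF.atlas
  let O : U.left.Opens := ⟨Points.ofPt p ⁻¹' V, hV.preimage (Points.continuous_ofPt p)⟩
  obtain ⟨t, ht⟩ := hVc.elim_finite_subcover
    (fun i : {i : U.left.affineOpens // i.1 ≤ O} => Points.ofPt p '' (i.1.1 : Set U.left))
    (fun i => isOpenMap_ofPt hp _ i.1.1.2) (fun x hx => by
      obtain ⟨u, rfl⟩ := surjective_ofPt hs x
      obtain ⟨W, hW, hu, hle⟩ := exists_isAffineOpen_mem_and_subset (show u ∈ O from hx)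
      exact Set.mem_iUnion.2 ⟨⟨⟨W, hW⟩, hle⟩, u, hu, rfl⟩)
  let g : t → Scheme.{u} := fun i => i.1.1.1
  have : ∀ i, IsAffine (g i) := fun i => i.1.1.2
  let φ : (∐ g) ⟶ U.left := Sigma.desc fun i => i.1.1.1.ι
  have hφ : Etale φ := by
    refine IsZariskiLocalAtSource.of_openCover (P := @Etale) (sigmaOpenCover g) fun i => ?_
    change Etale (Sigma.ι g i ≫ φ)
    rw [Sigma.ι_desc]
    infer_instance
  let W : Over S := Over.mk (φ ≫ U.hom)
  let k : W ⟶ U := Over.homMk φ rfl
  refine ⟨W, (yon S).map k ≫ p, inferInstanceAs (IsAffine (∐ g)),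
    repWith_comp ((repWith_yon_map_iff _ k).2 hφ) hp, ?_⟩
  ext x
  constructor
  · rintro ⟨w, rfl⟩
    rw [ofPt_comp]
    obtain ⟨i, y, rfl⟩ := (sigmaOpenCover g).exists_eq w
    change Points.ofPt p (φ (Sigma.ι g i y)) ∈ V
    rw [← Scheme.Hom.comp_apply, Sigma.ι_desc]
    exact i.1.2 y.2
  · intro hx
    obtain ⟨i, hi, u, hu, rfl⟩ : ∃ i ∈ t, ∃ u ∈ (i.1.1 : Set U.left), Points.ofPt p u = x := by
      simpa [Set.mem_iUnion] using ht hx
    refine ⟨Sigma.ι g ⟨i, hi⟩ ⟨u, hu⟩, (ofPt_comp k p _).trans ?_⟩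
    congr 1
    change φ (Sigma.ι g ⟨i, hi⟩ ⟨u, hu⟩) = u
    rw [← Scheme.Hom.comp_apply, Sigma.ι_desc]
    rfl

theorem isCompact_preimage_of_qcMor {F G : Sp S} (hG : IsAlgSpace G) {f : F ⟶ G}
    (hf : IsQuasiCompactMor f) {V : Set (Points G)} (hV : IsOpen V) (hVc : IsCompact V) :
    IsCompact (Points.map f ⁻¹' V) := by
  obtain ⟨W, q, hW, -, hr⟩ := exists_affine_range hG hV hVc
  have sq : IsPullback (pullback.fst f q) (pullback.snd f q) f q := IsPullback.of_hasPullback f q
  have := compactSpace_points (hf (IsAlgSpace.yon_obj W) (isQuasiCompactSp_yon (T := W)) q _ _ sq)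
  suffices Points.map f ⁻¹' V = Set.range (Points.map (pullback.fst f q)) from
    this ▸ isCompact_range (Points.continuous_map _)
  ext x
  constructor
  · intro hx
    obtain ⟨w, hw⟩ : Points.map f x ∈ Set.range (Points.ofPt q) := by rw [hr]; exact hx
    obtain ⟨z, hz, -⟩ := exists_point_of_isPullback sq x (Points.ofScheme W w)
      (by rw [← hw, Points.ofPt_eq_map_ofScheme])
    exact ⟨z, hz⟩
  · rintro ⟨z, rfl⟩
    obtain ⟨w, hw⟩ := (Points.schemeEquiv W).surjective (Points.map (pullback.snd f q) z)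
    rw [Set.mem_preimage, ← hr, ← Points.map_comp, sq.w, Points.map_comp, ← hw]
    exact ⟨w, Points.ofPt_eq_map_ofScheme q w⟩

theorem isClosedImmersion_iff_closed_range {F G : Sp S} {i : F ⟶ G} (hi : RepWith @IsImmersion i) :
    RepWith @IsClosedImmersion i ↔ IsClosed (Set.range (Points.map i)) := by
  refine ⟨fun h => (isClosedMap_map_of_repWith (P := @IsClosedImmersion)
    (fun _ _ k hk => by haveI := hk; exact k.isClosedEmbedding.isClosedMap) h).isClosed_range,
    fun h => ⟨hi.1, fun T V g fst snd sq => ?_⟩⟩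
  have : IsImmersion snd.left := hi.2 g fst snd sq
  have heq : Points.ofPt g ⁻¹' Set.range (Points.map i) = Set.range snd.left := by
    rw [← Set.image_univ, preimage_ofPt_image sq, Set.preimage_univ, Set.image_univ]
  exact @IsClosedImmersion.of_isPreimmersion _ _ snd.left inferInstance (heq ▸ h.preimage (Points.continuous_ofPt g))

theorem exists_isCompact_isOpen_nhd {F : Sp S} (hF : IsAlgSpace F) (x : Points F)
    {W : Set (Points F)} (hW : IsOpen W) (hx : x ∈ W) :
    ∃ V : Set (Points F), IsOpen V ∧ IsCompact V ∧ x ∈ V ∧ V ⊆ W := by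
  obtain ⟨U, p, hp, hs⟩ := hF.atlas
  obtain ⟨u, rfl⟩ := surjective_ofPt hs x
  obtain ⟨A, hA, hu, hle⟩ := exists_isAffineOpen_mem_and_subset
    (show u ∈ (⟨Points.ofPt p ⁻¹' W, hW.preimage (Points.continuous_ofPt p)⟩ : U.left.Opens) from hx)
  exact ⟨Points.ofPt p '' (A : Set U.left), isOpenMap_ofPt hp _ A.2,
    hA.isCompact.image (Points.continuous_ofPt p), ⟨u, hu, rfl⟩, Set.image_subset_iff.2 hle⟩

theorem exists_noetherian_nhd {F : Sp S} (hN : IsLocNoethSp F) (x : Points F) :
    ∃ W : Set (Points F), IsOpen W ∧ x ∈ W ∧ TopologicalSpace.NoetherianSpace ↥W := by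
  obtain ⟨U, p, hp, hs, hU⟩ := hN
  have : IsLocallyNoetherian U.left := hU
  obtain ⟨u, rfl⟩ := surjective_ofPt hs x
  obtain ⟨A, hA, hu, -⟩ := exists_isAffineOpen_mem_and_subset (show u ∈ (⊤ : U.left.Opens) from trivial)
  refine ⟨Points.ofPt p '' (A : Set U.left), isOpenMap_ofPt hp _ A.2, ⟨u, hu, rfl⟩, ?_⟩
  have : IsNoetherianRing Γ(U.left, A) := IsLocallyNoetherian.component_noetherian ⟨A, hA⟩
  have : TopologicalSpace.NoetherianSpace ↥A := noetherianSpace_of_isAffineOpen _ hA
  rw [Set.image_eq_range]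
  exact TopologicalSpace.NoetherianSpace.range _ ((Points.continuous_ofPt p).comp continuous_subtype_val)

/-- Codimension zero points are dense. -/
theorem exists_codim_zero {U : Scheme.{u}} {O : U.Opens} {u : U} (hu : u ∈ O) :
    ∃ v ∈ O, ringKrullDim ↥(U.presheaf.stalk v) = 0 := by
  obtain ⟨A, hA, huA, hle⟩ := exists_isAffineOpen_mem_and_subset hu
  have : Nontrivial Γ(U, A) := by
    by_contra hn
    rw [not_nontrivial_iff_subsingleton] at hn
    exact (hA.primeIdealOf ⟨u, huA⟩).isPrime.ne_top (Subsingleton.elim _ _)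
  obtain ⟨P, hP⟩ := Ideal.nonempty_minimalPrimes (R := Γ(U, A)) (I := (⊥ : Ideal Γ(U, A))) (by simp)
  have hPp : P.IsPrime := hP.1.1
  let y : PrimeSpectrum Γ(U, A) := ⟨P, hPp⟩
  have hmem : hA.fromSpec y ∈ A := by
    rw [← SetLike.mem_coe, ← hA.range_fromSpec]; exact ⟨y, rfl⟩
  refine ⟨hA.fromSpec y, hle hmem, ?_⟩
  letI : Algebra Γ(U, A) (U.presheaf.stalk (hA.fromSpec y)) :=
    TopCat.Presheaf.algebra_section_stalk U.presheaf ⟨hA.fromSpec y, hmem⟩
  have : IsLocalization.AtPrime (U.presheaf.stalk (hA.fromSpec y)) y.asIdeal :=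
    hA.isLocalization_stalk' y hmem
  rw [IsLocalization.AtPrime.ringKrullDim_eq_height y.asIdeal, WithBot.coe_eq_zero]
  exact Ideal.height_eq_zero_iff.2 hP

theorem dense_codim_zero {F : Sp S} (hF : IsAlgSpace F) :
    Dense {x : Points F | HasAt (fun U u => ringKrullDim ↥(U.presheaf.stalk u) = 0) F x} := by
  refine dense_iff_inter_open.2 fun W hW ⟨x, hx⟩ => ?_
  obtain ⟨U, p, hp, hs⟩ := hF.atlas
  obtain ⟨u, rfl⟩ := surjective_ofPt hs x
  obtain ⟨v, hv, hd⟩ := exists_codim_zero
    (show u ∈ (⟨Points.ofPt p ⁻¹' W, hW.preimage (Points.continuous_ofPt p)⟩ : U.left.Opens) from hx)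
  exact ⟨Points.ofPt p v, hv, U, p, v, hp, rfl, hd⟩

theorem isOpenMap_of_comp_surjective {α β γ : Type*} [TopologicalSpace α] [TopologicalSpace β]
    [TopologicalSpace γ] {a : α → β} {b : β → γ} (hac : Continuous a) (ha : Function.Surjective a)
    (h : IsOpenMap (b ∘ a)) : IsOpenMap b := by
  intro W hW
  rw [← ha.image_preimage W, ← Set.image_comp]
  exact h _ (hW.preimage hac)

theorem isClosedMap_of_comp_surjective {α β γ : Type*} [TopologicalSpace α] [TopologicalSpace β]
    [TopologicalSpace γ] {a : α → β} {b : β → γ} (hac : Continuous a) (ha : Function.Surjective a)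
    (h : IsClosedMap (b ∘ a)) : IsClosedMap b := by
  intro W hW
  rw [← ha.image_preimage W, ← Set.image_comp]
  exact h _ (hW.preimage hac)

/-- Base change of a surjection is surjective on points. -/
theorem surjective_map_base_change {P F H G : Sp S} {fst : P ⟶ F} {snd : P ⟶ H}
    {f : F ⟶ G} {g : H ⟶ G} (sq : IsPullback fst snd f g)
    (hf : Function.Surjective (Points.map f)) : Function.Surjective (Points.map snd) := fun y => by
  obtain ⟨x, hx⟩ := hf (Points.map g y)
  obtain ⟨z, -, hz⟩ := exists_point_of_isPullback sq x y hx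
  exact ⟨z, hz⟩

theorem univOpen_to_field {F : Sp S} (hF : IsAlgSpace F) {k : Type u} [Field k]
    {str : Spec (CommRingCat.of k) ⟶ S} (p : F ⟶ (yon S).obj (Over.mk str)) : IsUnivOpenMor p := by
  intro Z Z' _ g fst snd sq
  obtain ⟨U, a, ha, hs⟩ := hF.atlas
  have hU : RepWith @UniversallyOpen (a ≫ p) := (repWith_pre _).2 (universallyOpen_to_field _)
  have sq' : IsPullback (pullback.fst a fst) (pullback.snd a fst ≫ snd) (a ≫ p) g :=
    (IsPullback.of_hasPullback a fst).paste_vert sq
  refine isOpenMap_of_comp_surjective (Points.continuous_map (pullback.snd a fst))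
    (surjective_map_base_change (IsPullback.of_hasPullback a fst) (surjective_map_of_repWith hs)) ?_
  have := isOpenMap_map_of_repWith (P := @UniversallyOpen) (fun _ _ k hk => by haveI := hk; exact k.isOpenMap)
    (repWith_of_isPullback sq' hU)
  convert this using 1
  exact funext fun x => (Points.map_comp _ _ x).symm

theorem univClosed_of_surjective {X Y B : Sp S} {f : X ⟶ Y} {p : X ⟶ B} {q : Y ⟶ B}
    (comm : f ≫ q = p) (hp : IsUnivClosedMor p) (hf : Function.Surjective (Points.map f)) :
    IsUnivClosedMor q := by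
  intro Z Z' hZ g fst snd sq
  have sq' : IsPullback (pullback.fst f fst) (pullback.snd f fst ≫ snd) p g :=
    comm ▸ (IsPullback.of_hasPullback f fst).paste_vert sq
  refine isClosedMap_of_comp_surjective (Points.continuous_map (pullback.snd f fst))
    (surjective_map_base_change (IsPullback.of_hasPullback f fst) hf) ?_
  change IsClosedMap (Points.map snd ∘ Points.map (pullback.snd f fst))
  rw [show Points.map snd ∘ Points.map (pullback.snd f fst) = Points.map (pullback.snd f fst ≫ snd) from
    funext fun x => (Points.map_comp _ _ x).symm]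
  exact hp hZ g _ _ sq'

theorem isOpenMap_of_isEtaleMor {F G : Sp S} (hF : IsAlgSpace F) {f : F ⟶ G} (hf : IsEtaleMor f) :
    IsOpenMap (Points.map f) := by
  obtain ⟨U, a, ha, hs⟩ := hF.atlas
  refine isOpenMap_of_comp_surjective (Points.continuous_ofPt a) (surjective_ofPt hs) ?_
  convert isOpenMap_ofPt (hf a ha) using 1
  exact funext fun u => Points.map_ofPt a f u

theorem uniqVC_of_isSeparatedMor {F G : Sp S} {f : F ⟶ G} (hf : IsSeparatedMor f) : UniqVC f := by
  intro sq l l' h1 h2 h1' h2'
  let b : (yon S).obj sq.ptA ⟶ pullback f f := pullback.lift l l' (h2.trans h2'.symm)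
  obtain ⟨V, fst, snd, hsq⟩ := exists_sq hf.1 b
  have : IsClosedImmersion snd.left := hf.2 b fst snd hsq
  have w : sq.top ≫ pullback.diagonal f = (yon S).map sq.j ≫ b := by
    apply pullback.hom_ext <;>
      simp only [Category.assoc, pullback.diagonal_fst, pullback.diagonal_snd, b, pullback.lift_fst,
        pullback.lift_snd, Category.comp_id, h1, h1']
  have hk : pre (hsq.lift sq.top ((yon S).map sq.j) w) ≫ snd = sq.j := (yon S).map_injective (by
    rw [Functor.map_comp, map_pre, hsq.lift_snd])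
  have : IsDominant (Spec.map (CommRingCat.ofHom (algebraMap sq.A sq.K))) := by
    refine ⟨?_⟩
    refine PrimeSpectrum.denseRange_comap_iff_ker_le_nilRadical _ |>.2 ?_
    change RingHom.ker (algebraMap sq.A sq.K) ≤ _
    rw [(RingHom.injective_iff_ker_eq_bot _).1 (IsFractionRing.injective sq.A sq.K)]
    exact bot_le
  have : IsDominant snd.left := by
    have h := congrArg CommaMorphism.left hk
    refine ⟨(Scheme.Hom.denseRange (Spec.map (CommRingCat.ofHom (algebraMap sq.A sq.K)))).mono ?_⟩
    rintro _ ⟨x, rfl⟩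
    exact ⟨(pre (hsq.lift sq.top ((yon S).map sq.j) w)).left x, by
      rw [← Scheme.Hom.comp_apply]; exact congrArg (fun m => m x) h⟩
  have : IsReduced sq.ptA.left := inferInstanceAs (IsReduced (Spec (CommRingCat.of sq.A)))
  have : Surjective snd.left := ⟨Set.range_eq_univ.1
    ((snd.left.isClosedEmbedding.isClosed_range.closure_eq).symm.trans (Scheme.Hom.denseRange snd.left).closure_range)⟩
  have : IsIso snd.left := isIso_of_isClosedImmersion_of_surjective _
  have : IsIso ((Over.forget S).map snd) := ‹IsIso snd.left›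
  have : IsIso snd := isIso_of_reflects_iso snd (Over.forget S)
  have hb : fst ≫ pullback.diagonal f = (yon S).map snd ≫ b := hsq.w
  have e1 := congrArg (· ≫ pullback.fst f f) hb
  have e2 := congrArg (· ≫ pullback.snd f f) hb
  simp only [Category.assoc, pullback.diagonal_fst, pullback.diagonal_snd, Category.comp_id, b,
    pullback.lift_fst, pullback.lift_snd] at e1 e2
  exact (cancel_epi ((yon S).map snd)).1 (e1.symm.trans e2)

end Groth.Agent.AlgSpc
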