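import Groth.Agent.AlgSpc.Decent2
import Groth.Agent.AlgSpc.FibreProd
import Groth.Agent.AlgSpLoc.Glue
import Mathlib.CategoryTheory.Limits.Shapes.Diagonal

/-!
Decent morphisms of algebraic spaces.
-/

universe u

open CategoryTheory CategoryTheory.Limits AlgebraicGeometry Opposite

set_option linter.style.haveILetI false
set_option backward.isDefEq.respectTransparency false

namespace Groth.Agent.AlgSpc

open _root_.AlgSp

variable {S : Scheme.{u}}

/-- Schemes are decent. -/
theorem isDecent_yon (T : Over S) : IsDecent ((yon S).obj T) := by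
  intro x
  obtain ⟨t, rfl⟩ := (Points.schemeEquiv T).surjective x
  let P : Over S := Over.mk (T.left.fromSpecResidueField t ≫ T.hom)
  let j : P ⟶ T := Over.homMk (T.left.fromSpecResidueField t) rfl
  haveI : Mono j.left := inferInstanceAs (Mono (T.left.fromSpecResidueField t))
  haveI : Mono ((yon S).map j) := mono_of_repWith (P := MorphismProperty.monomorphisms _)
    (fun _ _ _ h => h) ((repWith_yon_map_iff _ j).2 (MorphismProperty.monomorphisms.infer_property j.left))
  obtain ⟨p, h₁, h₂, h₃⟩ := exists_fieldPt_toHom_eq (K := T.left.residueField t) ((yon S).map j)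
  refine ⟨p, ?_, h₂ inferInstance,
    h₃ _ ((repWith_yon_map_iff _ j).2 (quasiCompact_from_field (K := T.left.residueField t) _))⟩
  have := ofPt_comp j (𝟙 ((yon S).obj T)) (IsLocalRing.closedPoint (T.left.residueField t))
  rw [Category.comp_id] at this
  rw [h₁, this, show j.left (IsLocalRing.closedPoint (T.left.residueField t)) = t from
    Scheme.fromSpecResidueField_apply _ _, Points.ofPt_eq_map_ofScheme, Points.map_id]
  rfl

/-- A space with a decent morphism to a decent space is decent. -/
theorem isDecent_of_isDecentMor {X Y : Sp S} {f : X ⟶ Y} (hf : IsDecentMor f) (hY : IsDecent Y) :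
    IsDecent X := by
  intro x
  obtain ⟨q, hq, hm, hqc⟩ := hY (Points.map f x)
  have sq := IsPullback.of_hasPullback f q.toHom
  obtain ⟨z, hz, -⟩ := exists_point_of_isPullback sq x (Points.ofScheme q.pt (IsLocalRing.closedPoint q.K))
    (by rw [← Points.ofPt_eq_map_ofScheme, Points.ofPt_toHom, hq])
  obtain ⟨p, hp, hpm, hpq⟩ := hf q.toHom _ _ sq z
  haveI := hm
  haveI := hpm
  refine ⟨p.map (pullback.fst f q.toHom), ?_, ?_, ?_⟩
  · rw [← Points.map_mk, hp, hz]
  · rw [FieldPt.toHom_map]; infer_instance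
  · rw [FieldPt.toHom_map]; exact repWith_comp hpq (repWith_of_isPullback sq.flip hqc)

/-- A morphism with decent source is decent. -/
theorem isDecentMor_of_isDecent {X Y : Sp S} (hY : IsAlgSpace Y) (f : X ⟶ Y) (hX : IsDecent X) :
    IsDecentMor f := by
  intro T F' g fst snd sq
  refine isDecent_of_representable (f := fst) ?_ hX
  intro W w
  obtain ⟨V, a, b, sqV⟩ := exists_sq (hY.representable_from_yon g) (w ≫ f)
  refine ⟨V, b, sq.lift ((yon S).map b ≫ w) a (by rw [Category.assoc, ← sqV.w]), ?_⟩
  exact IsPullback.of_right (by rw [sq.lift_snd]; exact sqV) (sq.lift_fst _ _ _) sq.flip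

theorem isDecentMor_comp {X Y Z : Sp S} {f : X ⟶ Y} {g : Y ⟶ Z} (hf : IsDecentMor f) (hg : IsDecentMor g) :
    IsDecentMor (f ≫ g) := by
  intro T F' h fst snd sq
  have sq₂ := IsPullback.of_hasPullback g h
  have hY' : IsDecent (pullback g h) := hg h _ _ sq₂
  let m : F' ⟶ pullback g h := pullback.lift (fst ≫ f) snd (by rw [Category.assoc]; exact sq.w)
  have sm : IsPullback fst m f (pullback.fst g h) := IsPullback.of_bot
    (by rw [pullback.lift_snd]; exact sq) (pullback.lift_fst _ _ _).symm sq₂
  refine isDecent_of_isDecentMor (f := m) ?_ hY'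
  intro T' F'' h' fst' snd' sq'
  exact hf (h' ≫ pullback.fst g h) _ _ (sq'.paste_horiz sm)

theorem isDecentMor_of_isPullback {P X Y Z : Sp S} {fst : P ⟶ X} {snd : P ⟶ Z} {f : X ⟶ Y} {g : Z ⟶ Y}
    (sq : IsPullback fst snd f g) (hf : IsDecentMor f) : IsDecentMor snd :=
  fun _ _ h _ _ sq' => hf (h ≫ g) _ _ (sq'.paste_horiz sq)

/-- Decency of a morphism can be tested over affine schemes. -/
theorem isDecentMor_of_affine {X Y : Sp S} (hX : IsAlgSpace X) (hY : IsAlgSpace Y) {f : X ⟶ Y}
    (h : ∀ (Z : Over S) (g : (yon S).obj Z ⟶ Y) (P : Sp S) (fst : P ⟶ X) (snd : P ⟶ (yon S).obj Z),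
      IsAffine Z.left → IsPullback fst snd f g → IsDecent P) : IsDecentMor f := by
  intro T F' g fst snd sq
  have hF' : IsAlgSpace F' := isAlgSpace_of_isPullback hX hY (IsAlgSpace.yon_obj T) sq
  let j : ∀ i : T.left.affineOpens, (yon S).obj (AlgSpLoc.openSub T i.1) ⟶ (yon S).obj T :=
    fun i => (yon S).map (AlgSpLoc.openSubι T i.1)
  have hj : ∀ i, RepWith @IsOpenImmersion (pullback.fst snd (j i)) := fun i =>
    repWith_of_isPullback (IsPullback.of_hasPullback snd (j i)).flip
      ((repWith_yon_map_iff _ _).2 (inferInstanceAs (IsOpenImmersion (AlgSpLoc.openSubι T i.1).left)))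
  refine isDecent_of_zarCover hF' hj (fun x => ?_) fun i => ?_
  · obtain ⟨t, ht⟩ := (Points.schemeEquiv T).surjective (Points.map snd x)
    obtain ⟨_, ⟨O, hO, rfl⟩, htO, -⟩ :=
      T.left.isBasis_affineOpens.exists_subset_of_mem_open (Set.mem_univ t) isOpen_univ
    obtain ⟨z, hz, -⟩ := exists_point_of_isPullback (IsPullback.of_hasPullback snd (j ⟨O, hO⟩)) x
      (Points.ofScheme _ ⟨t, htO⟩) (by
        have := ofPt_comp (AlgSpLoc.openSubι T O) (𝟙 ((yon S).obj T)) ⟨t, htO⟩
        rw [Category.comp_id] at this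
        rw [← Points.ofPt_eq_map_ofScheme, this, Points.ofPt_eq_map_ofScheme, Points.map_id, ← ht]
        rfl)
    exact ⟨_, z, hz⟩
  · exact h _ (j i ≫ g) _ (pullback.fst _ _ ≫ fst) (pullback.snd _ _) i.2
      ((IsPullback.of_hasPullback snd (j i)).paste_horiz sq)

theorem isQuasiCompactSp_pullback {X Y : Sp S} {f : X ⟶ Y} (hq : IsQuasiCompactMor f) {U : Over S}
    [CompactSpace ↥U.left] (a : (yon S).obj U ⟶ Y) : IsQuasiCompactSp (pullback f a) :=
  hq (IsAlgSpace.yon_obj U) isQuasiCompactSp_yon a _ _ (IsPullback.of_hasPullback f a)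

/-- Decency descends along quasi-compact surjections. -/
theorem isDecent_of_qc_surjective {X Y : Sp S} (hA : IsAlgSpace X) (hB : IsAlgSpace Y) {f : X ⟶ Y}
    (hq : IsQuasiCompactMor f) (hs : Function.Surjective (Points.map f)) (hX : IsDecent X) : IsDecent Y := by
  refine isDecent_of_hasCompactFibres hB fun U a hU _ K _ str g V fst snd sq => ?_
  haveI := hU
  have sP := IsPullback.of_hasPullback f a
  have hP : IsAlgSpace (pullback f a) := isAlgSpace_of_isPullback hA hB (IsAlgSpace.yon_obj U) sP
  obtain ⟨W, p, hW, hp, hps⟩ := (isQuasiCompactSp_iff_affine hP).1 (isQuasiCompactSp_pullback hq a)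
  haveI := hW
  -- a field valued point of the fibre of `f`
  obtain ⟨x, hx⟩ := hs (Points.ofPt g (IsLocalRing.closedPoint K))
  obtain ⟨z, -, -⟩ := exists_point_of_isPullback (IsPullback.of_hasPullback f g) x
    (Points.ofScheme (Over.mk str) (IsLocalRing.closedPoint K))
    (by rw [hx, Points.ofPt_eq_map_ofScheme])
  induction z using Points.ind with
  | h q =>
    let c : q.pt ⟶ Over.mk str := pre (q.toHom ≫ pullback.snd f g)
    let g' : (yon S).obj q.pt ⟶ X := q.toHom ≫ pullback.fst f g
    have hg' : g' ≫ f = (yon S).map c ≫ g := by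
      simp [g', c, pullback.condition]
    -- extend the fibre
    let V' := pullback snd c
    let fst' := (yon S).map (pullback.fst snd c) ≫ fst
    have sq' : IsPullback fst' ((yon S).map (pullback.snd snd c)) a (g' ≫ f) := by
      rw [hg']
      exact ((IsPullback.of_hasPullback snd c).map (yon S)).paste_horiz sq
    let m : (yon S).obj V' ⟶ pullback f a := pullback.lift ((yon S).map (pullback.snd snd c) ≫ g') fst'
      (by rw [Category.assoc, ← sq'.w])
    have sm : IsPullback m ((yon S).map (pullback.snd snd c)) (pullback.fst f a) g' :=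
      IsPullback.of_right (by rw [pullback.lift_snd]; exact sq') (pullback.lift_fst _ _ _) sP.flip
    obtain ⟨W', w₁, w₂, sqW⟩ := exists_sq hp.1 m
    haveI hcW : CompactSpace ↥W'.left := compactFibres_of_isDecent hX (p ≫ pullback.fst f a) q.K q.str g' W'
      w₁ (w₂ ≫ pullback.snd snd c) (by rw [Functor.map_comp]; exact sqW.paste_vert sm)
    haveI : Surjective w₂.left := hps.2 _ _ _ sqW
    haveI : CompactSpace ↥V'.left := ⟨by
      rw [← w₂.left.surjective.range_eq]; exact isCompact_range w₂.left.continuous⟩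
    haveI : Surjective c.left := ⟨fun x => ⟨IsLocalRing.closedPoint q.K,
      @Subsingleton.elim (PrimeSpectrum K) _ _ _⟩⟩
    haveI : Surjective (pullback.fst snd c).left :=
      MorphismProperty.of_isPullback (P := @Surjective)
        ((IsPullback.of_hasPullback snd c).flip.map (Over.forget S)) ‹_›
    refine ⟨?_⟩
    rw [← (pullback.fst snd c).left.surjective.range_eq]
    exact isCompact_range (pullback.fst snd c).left.continuous

/-- A space quasi-separated over an affine scheme is decent. -/
theorem isDecent_of_qs_over_affine {F : Sp S} (hF : IsAlgSpace F) {T : Over S} [IsAffine T.left]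
    (s : F ⟶ (yon S).obj T) (hs : IsQuasiSeparatedMor s) : IsDecent F := by
  refine isDecent_of_hasCompactFibres hF fun U a hU _ K _ str g V fst snd sq => ?_
  haveI := hU
  have sD := pullback_map_diagonal_isPullback a g s
  have hD := repWith_of_isPullback sD hs
  let n := pullback.map a g (a ≫ s) (g ≫ s) _ _ s (Category.id_comp _).symm (Category.id_comp _).symm
  let Q := pullback (pre (a ≫ s)) (pre (g ≫ s))
  have sQ : IsPullback ((yon S).map (pullback.fst (pre (a ≫ s)) (pre (g ≫ s))))
      ((yon S).map (pullback.snd (pre (a ≫ s)) (pre (g ≫ s)))) (a ≫ s) (g ≫ s) := by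
    have := (IsPullback.of_hasPullback (pre (a ≫ s)) (pre (g ≫ s))).map (yon S)
    rwa [map_pre, map_pre] at this
  haveI : CompactSpace ↥Q.left := by
    haveI : IsAffine (Over.mk str).left := inferInstanceAs (IsAffine (Spec (CommRingCat.of K)))
    haveI : QuasiCompact (pullback.fst (pre (a ≫ s)) (pre (g ≫ s))).left :=
      MorphismProperty.of_isPullback (P := @QuasiCompact)
        ((IsPullback.of_hasPullback (pre (a ≫ s)) (pre (g ≫ s))).flip.map (Over.forget S))
        (haveI := quasiCompact_from_field (pre (g ≫ s)).left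
         inferInstanceAs (QuasiCompact (pre (g ≫ s)).left))
    exact QuasiCompact.compactSpace_of_compactSpace (pullback.fst (pre (a ≫ s)) (pre (g ≫ s))).left
  let l : (yon S).obj V ⟶ (yon S).obj Q :=
    sq.isoPullback.hom ≫ n ≫ sQ.isoPullback.inv
  haveI : QuasiCompact (pre l).left := by
    refine (repWith_yon_map_iff _ (pre l)).1 ?_
    rw [map_pre]
    exact MorphismProperty.RespectsIso.precomp _ _ _ (MorphismProperty.RespectsIso.postcomp _ _ _ hD)
  exact QuasiCompact.compactSpace_of_compactSpace (pre l).left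

theorem isQuasiSeparatedMor_of_isPullback {P X Y Z : Sp S} {fst : P ⟶ X} {snd : P ⟶ Z} {f : X ⟶ Y}
    {g : Z ⟶ Y} (sq : IsPullback fst snd f g) (hf : IsQuasiSeparatedMor f) : IsQuasiSeparatedMor snd := by
  have : (RepWith @QuasiCompact : MorphismProperty (Sp S)).diagonal snd :=
    MorphismProperty.of_isPullback sq hf
  exact this

theorem isDecentMor_of_isQuasiSeparatedMor {X Y : Sp S} (hX : IsAlgSpace X) (hY : IsAlgSpace Y) {f : X ⟶ Y}
    (hf : IsQuasiSeparatedMor f) : IsDecentMor f :=
  isDecentMor_of_affine hX hY fun Z g P fst snd hZ sq =>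
    haveI := hZ
    isDecent_of_qs_over_affine (isAlgSpace_of_isPullback hX hY (IsAlgSpace.yon_obj Z) sq) snd
      (isQuasiSeparatedMor_of_isPullback sq hf)

theorem isDecentMor_of_representable {X Y : Sp S} {f : X ⟶ Y} (hf : Representable f) : IsDecentMor f := by
  intro T F' g fst snd sq
  refine isDecent_of_representable (f := snd) ?_ (isDecent_yon T)
  exact (repWith_of_isPullback (P := ⊤) sq ⟨hf, fun _ _ _ _ _ _ => trivial⟩).1

/-- Decency of a morphism is etale local on the target. -/
theorem isDecentMor_of_cover {X Y : Sp S} (hX : IsAlgSpace X) (hY : IsAlgSpace Y) {f : X ⟶ Y} {V : Over S}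
    {p : (yon S).obj V ⟶ Y} (hp : RepWith @Etale p) (hps : RepWith @Surjective p) {X' : Sp S}
    {fst : X' ⟶ X} {snd : X' ⟶ (yon S).obj V} (hsq : IsPullback fst snd f p) (h : IsDecentMor snd) :
    IsDecentMor f := by
  refine isDecentMor_of_affine hX hY fun Z g P q₁ q₂ hZ sq => ?_
  haveI := hZ
  have hP := isAlgSpace_of_isPullback hX hY (IsAlgSpace.yon_obj Z) sq
  obtain ⟨T, a, b, sqT⟩ := exists_sq hp.1 g
  haveI : Etale b.left := hp.2 _ _ _ sqT
  haveI : Surjective b.left := hps.2 _ _ _ sqT
  -- finitely many affine opens of `T` cover `Z`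
  obtain ⟨t, ht⟩ := isCompact_univ.elim_finite_subcover
    (fun i : T.left.affineOpens => b.left '' (i.1 : Set T.left)) (fun i => b.left.isOpenMap _ i.1.2)
    (fun z _ => by
      obtain ⟨x, rfl⟩ := b.left.surjective z
      obtain ⟨_, ⟨O, hO, rfl⟩, hx, -⟩ :=
        T.left.isBasis_affineOpens.exists_subset_of_mem_open (Set.mem_univ x) isOpen_univ
      exact Set.mem_iUnion.2 ⟨⟨O, hO⟩, x, hx, rfl⟩)
  let O : T.left.Opens := ⟨⋃ i ∈ t, (i.1 : Set T.left), isOpen_biUnion fun i _ => i.1.2⟩
  haveI : CompactSpace ↥(AlgSpLoc.openSub T O).left :=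
    isCompact_iff_compactSpace.1 (t.finite_toSet.isCompact_biUnion fun i _ => i.2.isCompact)
  let w := AlgSpLoc.openSubι T O ≫ b
  haveI : Surjective w.left := ⟨fun z => by
    obtain ⟨i, hi, x, hx, rfl⟩ := Set.mem_iUnion₂.1 (ht (Set.mem_univ z))
    exact ⟨⟨x, Set.mem_iUnion₂.2 ⟨i, hi, hx⟩⟩, rfl⟩⟩
  haveI : QuasiCompact w.left := quasiCompact_of_compactSpace w.left
  have hwq : RepWith @QuasiCompact ((yon S).map w) := (repWith_yon_map_iff _ _).2 ‹_›
  have hws : RepWith @Surjective ((yon S).map w) := (repWith_yon_map_iff _ _).2 ‹_›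
  have sW := IsPullback.of_hasPullback q₂ ((yon S).map w)
  let l := (yon S).map (AlgSpLoc.openSubι T O) ≫ a
  have hl : l ≫ p = (yon S).map w ≫ g := by simp [l, w, sqT.w]
  let m : pullback q₂ ((yon S).map w) ⟶ X' := hsq.lift (pullback.fst _ _ ≫ q₁) (pullback.snd _ _ ≫ l)
    (by rw [Category.assoc, sq.w, Category.assoc, hl, pullback.condition_assoc])
  have sm : IsPullback m (pullback.snd _ _) snd l := IsPullback.of_right
    (by rw [hsq.lift_fst, hl]; exact sW.paste_horiz sq) (hsq.lift_snd _ _ _) hsq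
  exact isDecent_of_qc_surjective (isAlgSpace_of_isPullback hP (IsAlgSpace.yon_obj Z) (IsAlgSpace.yon_obj _) sW)
    hP (f := pullback.fst q₂ ((yon S).map w))
    (isQuasiCompactMor_of_repWith (repWith_of_isPullback sW.flip hwq))
    (surjective_map_base_change sW.flip (surjective_map_of_repWith hws)) (h l _ _ sm)

end Groth.Agent.AlgSpc
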