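import Groth.Agent.AlgSpc.Basic
import Groth.Prelude.Def_AlgSpMor5

/-!
For representable morphisms the existence part of the valuative criterion needs no extension.
-/

universe u

open CategoryTheory CategoryTheory.Limits AlgebraicGeometry Opposite

set_option backward.isDefEq.respectTransparency false

namespace Groth.Agent.AlgSpc

open _root_.AlgSp

/-- A valuation ring is the intersection of its fraction field with any dominating valuation ring. -/
theorem exists_algebraMap_eq_of_dom {A K A' K' : Type u} [CommRing A] [IsDomain A] [ValuationRing A]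
    [Field K] [Algebra A K] [IsFractionRing A K] [CommRing A'] [IsDomain A'] [Field K'] [Algebra A' K']
    [IsFractionRing A' K'] (φ : A →+* A') [IsLocalHom φ] (ψ : K →+* K')
    (comm : (algebraMap A' K').comp φ = ψ.comp (algebraMap A K)) (x : K) (a' : A')
    (h : ψ x = algebraMap A' K' a') : ∃ a : A, algebraMap A K a = x := by
  obtain hx | hx := (ValuationRing.isInteger_or_isInteger A x : _)
  · exact hx
  obtain ⟨b, hb⟩ := hx
  by_cases hx0 : x = 0
  · exact ⟨0, by simp [hx0]⟩
  have hu : IsUnit (φ b) := by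
    refine IsUnit.of_mul_eq_one a' (IsFractionRing.injective A' K' ?_)
    rw [map_mul, map_one, show algebraMap A' K' (φ b) = ψ (algebraMap A K b) from
      DFunLike.congr_fun comm b, hb, ← h, ← map_mul, inv_mul_cancel₀ hx0, map_one]
  obtain ⟨c, hc⟩ := (isUnit_of_map_unit φ b hu).exists_left_inv
  refine ⟨c, ?_⟩
  have := congrArg (algebraMap A K) hc
  rw [map_mul, map_one, hb] at this
  field_simp at this
  exact this

/-- The scheme-theoretic statement. -/
theorem exists_lift_of_dom {A K A' K' : Type u} [CommRing A] [IsDomain A] [ValuationRing A]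
    [Field K] [Algebra A K] [IsFractionRing A K] [CommRing A'] [IsDomain A'] [ValuationRing A'] [Field K']
    [Algebra A' K'] [IsFractionRing A' K'] (φ : A →+* A') [IsLocalHom φ] (ψ : K →+* K')
    (comm : (algebraMap A' K').comp φ = ψ.comp (algebraMap A K)) {V : Scheme.{u}}
    (q : V ⟶ Spec (CommRingCat.of A)) (tK : Spec (CommRingCat.of K) ⟶ V)
    (htK : tK ≫ q = Spec.map (CommRingCat.ofHom (algebraMap A K)))
    (l' : Spec (CommRingCat.of A') ⟶ V)
    (hl' : Spec.map (CommRingCat.ofHom (algebraMap A' K')) ≫ l' = Spec.map (CommRingCat.ofHom ψ) ≫ tK) :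
    ∃ l : Spec (CommRingCat.of A) ⟶ V,
      Spec.map (CommRingCat.ofHom (algebraMap A K)) ≫ l = tK ∧ l ≫ q = 𝟙 _ := by
  obtain ⟨W, hW, hz, -⟩ :=
    exists_isAffineOpen_mem_and_subset (show l' (IsLocalRing.closedPoint A') ∈ (⊤ : V.Opens) from trivial)
  have hl'W : Set.range l' ⊆ Set.range W.ι := by
    rintro _ ⟨p, rfl⟩
    rw [Scheme.Opens.range_ι]
    exact ((IsLocalRing.specializes_closedPoint p).map l'.continuous).mem_open W.2 hz
  have htW : Set.range tK ⊆ Set.range W.ι := by
    rintro _ ⟨p, rfl⟩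
    let pK' : Spec (CommRingCat.of K') := IsLocalRing.closedPoint K'
    have : tK p = l' (Spec.map (CommRingCat.ofHom (algebraMap A' K')) pK') := by
      rw [← Scheme.Hom.comp_apply, hl', Scheme.Hom.comp_apply]
      exact congrArg _ (Subsingleton.elim _ _)
    rw [this]
    exact hl'W ⟨_, rfl⟩
  let e := W.ι
  obtain ⟨r, hr⟩ := Spec.map_surjective (IsOpenImmersion.lift e l' hl'W ≫ hW.isoSpec.hom)
  obtain ⟨s, hs⟩ := Spec.map_surjective (IsOpenImmersion.lift e tK htW ≫ hW.isoSpec.hom)
  have hr' : Spec.map r ≫ hW.fromSpec = l' := by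
    rw [hr, Category.assoc, show hW.isoSpec.hom ≫ hW.fromSpec = e from (Iso.hom_inv_id_assoc _ _),
      IsOpenImmersion.lift_fac]
  have hs' : Spec.map s ≫ hW.fromSpec = tK := by
    rw [hs, Category.assoc, show hW.isoSpec.hom ≫ hW.fromSpec = e from (Iso.hom_inv_id_assoc _ _),
      IsOpenImmersion.lift_fac]
  have hrs : (algebraMap A' K').comp r.hom = ψ.comp s.hom := by
    have : r ≫ CommRingCat.ofHom (algebraMap A' K') = s ≫ CommRingCat.ofHom ψ := by
      apply Spec.map_injective
      rw [Spec.map_comp, Spec.map_comp, ← cancel_mono hW.fromSpec, Category.assoc, Category.assoc, hr', hs',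
        hl']
    exact congrArg CommRingCat.Hom.hom this
  have hmem : ∀ x, s.hom x ∈ (algebraMap A K).range := fun x =>
    exists_algebraMap_eq_of_dom φ ψ comm _ (r.hom x) (DFunLike.congr_fun hrs x).symm
  let eA := RingEquiv.ofBijective (algebraMap A K).rangeRestrict
    ⟨fun a b h => IsFractionRing.injective A K (congrArg Subtype.val h), (algebraMap A K).rangeRestrict_surjective⟩
  let t : Γ(V, W) →+* A := eA.symm.toRingHom.comp (s.hom.codRestrict _ hmem)
  have ht : (algebraMap A K).comp t = s.hom :=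
    RingHom.ext fun x => congrArg Subtype.val (eA.apply_symm_apply ⟨s.hom x, hmem x⟩)
  have ht' : Spec.map (CommRingCat.ofHom (algebraMap A K)) ≫ Spec.map (CommRingCat.ofHom t) = Spec.map s := by
    rw [← Spec.map_comp, ← CommRingCat.ofHom_comp, ht]; rfl
  refine ⟨Spec.map (CommRingCat.ofHom t) ≫ hW.fromSpec, by rw [reassoc_of% ht', hs'], ?_⟩
  obtain ⟨σ, hσ⟩ := Spec.map_surjective ((Spec.map (CommRingCat.ofHom t) ≫ hW.fromSpec) ≫ q)
  rw [← hσ, ← Spec.map_id]
  congr 1
  have : σ ≫ CommRingCat.ofHom (algebraMap A K) = CommRingCat.ofHom (algebraMap A K) := by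
    apply Spec.map_injective
    rw [Spec.map_comp, hσ, Category.assoc, reassoc_of% ht', reassoc_of% hs', htK]
  ext a
  exact IsFractionRing.injective A K (DFunLike.congr_fun (congrArg CommRingCat.Hom.hom this) a)

variable {S : Scheme.{u}}

/-- A dotted arrow gives one for every extension. -/
theorem hasLift_domExt {F G : Sp S} {f : F ⟶ G} {sq : ValSq f} (h : sq.HasLift) (e : sq.DomExt) :
    e.HasLift := by
  obtain ⟨l, hl₁, hl₂⟩ := h
  let iA : e.ptA' ⟶ sq.ptA := Over.homMk (Spec.map (CommRingCat.ofHom e.φ)) rfl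
  refine ⟨(yon S).map iA ≫ l, ?_, ?_⟩
  · rw [← hl₁, ← Category.assoc, ← Category.assoc, ← Functor.map_comp, ← Functor.map_comp]
    congr 2
    ext : 1
    change Spec.map (CommRingCat.ofHom (algebraMap e.A' e.K')) ≫ Spec.map (CommRingCat.ofHom e.φ) =
      Spec.map (CommRingCat.ofHom e.ψ) ≫ Spec.map (CommRingCat.ofHom (algebraMap sq.A sq.K))
    rw [← Spec.map_comp, ← Spec.map_comp, ← CommRingCat.ofHom_comp, ← CommRingCat.ofHom_comp, e.comm]
  · rw [Category.assoc, hl₂]

theorem existVC_of_strict {F G : Sp S} {f : F ⟶ G} (h : ExistVCStrict f) : ExistVC f := fun sq =>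
  ⟨{ A' := sq.A, K' := sq.K, φ := RingHom.id _, ψ := RingHom.id _, comm := rfl,
     isLocalHom := ⟨fun _ h => h⟩ }, hasLift_domExt (h sq) _⟩

theorem existVCStrict_of_representable {F G : Sp S} {f : F ⟶ G} (hf : Representable f) (h : ExistVC f) :
    ExistVCStrict f := by
  intro sq
  obtain ⟨e, l', hl₁, hl₂⟩ := h sq
  obtain ⟨V, fst, snd, sqP⟩ := exists_sq hf sq.bot
  let tK := pre (sqP.lift sq.top ((yon S).map sq.j) sq.comm)
  let lA := pre (sqP.lift l' ((yon S).map (Over.homMk (Spec.map (CommRingCat.ofHom e.φ)) rfl : e.ptA' ⟶ sq.ptA)) hl₂)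
  let jA : e.ptK' ⟶ e.ptA' := Over.homMk (Spec.map (CommRingCat.ofHom (algebraMap e.A' e.K'))) rfl
  let kψ : e.ptK' ⟶ sq.ptK := Over.homMk (Spec.map (CommRingCat.ofHom e.ψ)) (by
    change Spec.map _ ≫ Spec.map _ ≫ _ = Spec.map _ ≫ Spec.map _ ≫ _
    rw [← Spec.map_comp_assoc, ← Spec.map_comp_assoc, ← CommRingCat.ofHom_comp,
      ← CommRingCat.ofHom_comp, e.comm])
  have h₁ : tK ≫ snd = sq.j := (yon S).map_injective (by simp [tK])
  have h₂ : jA ≫ lA = kψ ≫ tK := by
    apply (yon S).map_injective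
    apply sqP.hom_ext
    · simp only [Functor.map_comp, tK, lA, map_pre, Category.assoc, IsPullback.lift_fst]
      exact hl₁
    · simp only [Functor.map_comp, tK, lA, map_pre, Category.assoc, IsPullback.lift_snd]
      rw [← Functor.map_comp, ← Functor.map_comp]
      congr 1
      ext : 1
      change Spec.map _ ≫ Spec.map _ = Spec.map _ ≫ Spec.map _
      rw [← Spec.map_comp, ← Spec.map_comp, ← CommRingCat.ofHom_comp, ← CommRingCat.ofHom_comp, e.comm]
  have : IsLocalHom e.φ := e.isLocalHom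
  obtain ⟨l, hl, hlq⟩ := exists_lift_of_dom (A := sq.A) (K := sq.K) (A' := e.A') (K' := e.K') e.φ e.ψ e.comm
    snd.left tK.left (congrArg CommaMorphism.left h₁) lA.left (congrArg CommaMorphism.left h₂)
  let lo : sq.ptA ⟶ V := Over.homMk l (by rw [← Over.w snd, ← Category.assoc, hlq]; exact Category.id_comp _)
  have e₁ : sq.j ≫ lo = tK := by ext : 1; exact hl
  have e₂ : lo ≫ snd = 𝟙 _ := by ext : 1; exact hlq
  refine ⟨(yon S).map lo ≫ fst, ?_, ?_⟩
  · rw [← Category.assoc, ← Functor.map_comp, e₁]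
    simp [tK]
  · rw [Category.assoc, sqP.w, ← Category.assoc, ← Functor.map_comp, e₂]
    simp

end Groth.Agent.AlgSpc
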