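import Groth.Agent.AlgSpc.DecentSober
import Groth.Agent.FpqcDescent.Basic
import Groth.Agent.SmoothReduced.Basic

/-!
Closed points of decent algebraic spaces, and points over closed points of the base.
-/

universe u

open CategoryTheory CategoryTheory.Limits AlgebraicGeometry Opposite

set_option linter.style.haveILetI false
set_option backward.isDefEq.respectTransparency false

namespace Groth.Agent.AlgSpc

open _root_.AlgSp

variable {S : Scheme.{u}}

/-- A property which is local on the target and descends may be tested on affine etale charts. -/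
theorem repWith_of_affine_charts {P : MorphismProperty Scheme.{u}} [P.IsStableUnderBaseChange]
    [IsZariskiLocalAtTarget P] [P.DescendsAlong (@Surjective ⊓ @Flat ⊓ @LocallyOfFinitePresentation)]
    {X : Sp S} (hX : IsAlgSpace X) {F : Sp S} {f : F ⟶ X} (hf : Representable f)
    (h : ∀ (U : Over S) (a : (yon S).obj U ⟶ X) (V : Over S) (fst : (yon S).obj V ⟶ F) (snd : V ⟶ U),
      IsAffine U.left → RepWith @Etale a → IsPullback fst ((yon S).map snd) f a → P snd.left) :
    RepWith P f := by
  obtain ⟨U, a, ha, hs⟩ := hX.atlas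
  obtain ⟨V₀, f₀, s₀, sq₀⟩ := exists_sq hf a
  have h₀ : P s₀.left := by
    refine IsZariskiLocalAtTarget.of_openCover (P := P) U.left.affineCover fun i => ?_
    let B : Over S := Over.mk (U.left.affineCover.f i ≫ U.hom)
    let j : B ⟶ U := Over.homMk (U.left.affineCover.f i) rfl
    haveI : IsAffine B.left := inferInstanceAs (IsAffine (U.left.affineCover.X i))
    have hsq : IsPullback ((yon S).map (pullback.fst s₀ j) ≫ f₀) ((yon S).map (pullback.snd s₀ j)) f
        ((yon S).map j ≫ a) := ((IsPullback.of_hasPullback s₀ j).map (yon S)).paste_horiz sq₀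
    have hB := h B _ _ _ _ ‹_› (repWith_comp ((repWith_yon_map_iff _ j).2
      (inferInstanceAs (Etale (U.left.affineCover.f i)))) ha) hsq
    have h' : IsPullback (pullback.fst s₀ j).left (pullback.snd s₀ j).left s₀.left j.left :=
      (IsPullback.of_hasPullback s₀ j).map (Over.forget S)
    rw [← P.cancel_left_of_respectsIso h'.isoPullback.hom]
    change P (h'.isoPullback.hom ≫ pullback.snd s₀.left j.left)
    rw [h'.isoPullback_hom_snd]
    exact hB
  refine ⟨hf, fun T V g fst snd sq => ?_⟩
  obtain ⟨W, k, e, sqW⟩ := exists_sq ha.1 g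
  haveI : Etale e.left := ha.2 _ _ _ sqW
  haveI : Surjective e.left := hs.2 _ _ _ sqW
  let l := pullback.snd snd e
  have hl : P l.left := by
    have sqB : IsPullback ((yon S).map (pullback.fst snd e) ≫ fst) ((yon S).map l) f
        ((yon S).map (pre k) ≫ a) := by
      rw [map_pre, sqW.w]
      exact ((IsPullback.of_hasPullback snd e).map (yon S)).paste_horiz sq
    have hw : ((yon S).map (pullback.fst snd e) ≫ fst) ≫ f = ((yon S).map l ≫ (yon S).map (pre k)) ≫ a := by
      rw [Category.assoc]; exact sqB.w
    let m := pre (sq₀.lift _ _ hw)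
    have hm₁ : (yon S).map m ≫ f₀ = (yon S).map (pullback.fst snd e) ≫ fst := by simp [m]
    have hm₂ : m ≫ s₀ = l ≫ pre k := (yon S).map_injective (by simp [m])
    have sqY : IsPullback ((yon S).map m) ((yon S).map l) ((yon S).map s₀) ((yon S).map (pre k)) := by
      refine IsPullback.of_right (h₁₂ := f₀) (h₂₂ := a) ?_ ?_ sq₀
      · rw [hm₁]; exact sqB
      · rw [← Functor.map_comp, hm₂, Functor.map_comp]
    have := ((IsPullback.of_map (yon S) hm₂ sqY).map (Over.forget S))
    exact MorphismProperty.of_isPullback (P := P) this h₀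
  exact MorphismProperty.of_isPullback_of_descendsAlong (P := P)
    (Q := @Surjective ⊓ @Flat ⊓ @LocallyOfFinitePresentation)
    ((IsPullback.of_hasPullback snd e).map (Over.forget S)).flip ⟨⟨(inferInstance : Surjective e.left), (inferInstance : Flat e.left)⟩,
      (inferInstance : LocallyOfFinitePresentation e.left)⟩ hl

/-- A monomorphism from the spectrum of a field is a preimmersion. -/
theorem isPreimmersion_of_mono_field {L : Type u} [Field L] {Y : Scheme.{u}}
    (m : Spec (CommRingCat.of L) ⟶ Y) [Mono m] : IsPreimmersion m := by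
  let φ := Y.descResidueField (Scheme.stalkClosedPointTo m)
  have hφ : Spec.map φ ≫ Y.fromSpecResidueField _ = m :=
    Scheme.descResidueField_stalkClosedPointTo_fromSpecResidueField L Y m
  haveI : Mono (Spec.map φ ≫ Y.fromSpecResidueField (m (IsLocalRing.closedPoint L))) := hφ.symm ▸ ‹Mono m›
  haveI : Mono (Spec.map φ) := mono_of_mono _ (Y.fromSpecResidueField (m (IsLocalRing.closedPoint L)))
  haveI : Epi φ := ⟨fun a b h => Spec.map_injective ((cancel_mono (Spec.map φ)).1
    (by rw [← Spec.map_comp, ← Spec.map_comp, h]))⟩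
  have hb : Function.Bijective φ :=
    ⟨φ.hom.injective, surjective_of_epi_field (L := Y.residueField _) (E := L) φ.hom⟩
  haveI : IsIso φ := (ConcreteCategory.isIso_iff_bijective φ).2 hb
  haveI : IsPreimmersion (Spec.map φ ≫ Y.fromSpecResidueField (m (IsLocalRing.closedPoint L))) :=
    inferInstance
  exact hφ ▸ this

/-- A monomorphism from a finite scheme which is reduced and discrete, with closed image points. -/
theorem isClosedImmersion_of_finite_discrete {V U : Scheme.{u}} (m : V ⟶ U) [Mono m] [IsReduced V]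
    [Finite ↥V] [DiscreteTopology ↥V] (hcl : ∀ v, IsClosed ({m v} : Set U)) : IsClosedImmersion m := by
  haveI : SurjectiveOnStalks m := by
    constructor
    intro v
    let O : V.Opens := ⟨{v}, isOpen_discrete _⟩
    haveI : Nonempty ↥(O : Scheme.{u}) := ⟨⟨v, rfl⟩⟩
    haveI : Subsingleton ↥(O : Scheme.{u}) :=
      ⟨fun a b => Subtype.ext ((Set.mem_singleton_iff.1 a.2).trans (Set.mem_singleton_iff.1 b.2).symm)⟩
    haveI : IrreducibleSpace ↥(O : Scheme.{u}) :=
      { toNonempty := inferInstance, isPreirreducible_univ := Set.subsingleton_univ.isPreirreducible }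
    haveI : IsIntegral (O : Scheme.{u}) := isIntegral_of_irreducibleSpace_of_isReduced _
    letI := (isField_of_isIntegral_of_subsingleton (O : Scheme.{u})).toField
    haveI : IsPreimmersion ((O : Scheme.{u}).isoSpec.inv ≫ O.ι ≫ m) :=
      isPreimmersion_of_mono_field (L := Γ((O : Scheme.{u}), ⊤)) _
    haveI : IsPreimmersion (O.ι ≫ m) :=
      (MorphismProperty.cancel_left_of_respectsIso @IsPreimmersion (O : Scheme.{u}).isoSpec.inv _).1 ‹_›
    have := (O.ι ≫ m).stalkMap_surjective ⟨v, rfl⟩
    rw [Scheme.Hom.stalkMap_comp] at this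
    have h2 : Function.Bijective (O.ι.stalkMap ⟨v, rfl⟩) := ConcreteCategory.bijective_of_isIso _
    intro y
    obtain ⟨x, hx⟩ := this (O.ι.stalkMap ⟨v, rfl⟩ y)
    exact ⟨x, h2.1 hx⟩
  exact {
    stalkMap_surjective := m.stalkMap_surjective
    isClosedEmbedding := .of_continuous_injective_isClosedMap m.continuous m.injective fun C _ => by
      rw [← Set.biUnion_of_singleton C, Set.image_iUnion₂]
      exact C.toFinite.isClosed_biUnion fun v _ => by rw [Set.image_singleton]; exact hcl v }

theorem isClosedImmersion_fieldPt {X : Sp S} (hA : IsAlgSpace X) (hX : IsDecent X) (x : Points X)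
    (hx : IsClosed ({x} : Set (Points X))) :
    ∃ p : FieldPt X, Points.mk p = x ∧ RepWith @IsClosedImmersion p.toHom := by
  obtain ⟨p, hp, hm, hq⟩ := hX x
  refine ⟨p, hp, repWith_of_affine_charts hA hq.1 fun U a V fst snd hU ha sq => ?_⟩
  haveI := hU
  have sq' : IsPullback ((yon S).map snd) ((yon S).map (pre fst)) a p.toHom := by
    rw [map_pre]; exact sq.flip
  haveI := compactFibres_of_isDecent hX a p.K _ _ _ _ _ sq'
  obtain ⟨hfin, hdisc, -⟩ := finite_of_compact_fibre ha sq'
  haveI : Etale (pre fst).left := ha.2 _ _ _ sq'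
  haveI : IsReduced p.pt.left := inferInstanceAs (IsReduced (Spec (CommRingCat.of p.K)))
  haveI : IsReduced V.left := SmoothReduced.isReduced_of_smooth_scheme (pre fst).left
  haveI := hm
  haveI : Mono ((yon S).map snd) := ⟨fun b c h => sq.hom_ext ((cancel_mono p.toHom).1
    (by rw [Category.assoc, Category.assoc, sq.w, reassoc_of% h])) h⟩
  haveI := mono_of_map snd
  refine isClosedImmersion_of_finite_discrete snd.left fun v => ?_
  have hT : IsClosed (Points.ofPt a ⁻¹' {x}) := hx.preimage (Points.continuous_ofPt a)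
  have hv : snd.left v ∈ Points.ofPt a ⁻¹' {x} := by
    have h₁ := map_ofPt_sq sq.w v
    rw [Set.mem_preimage, Set.mem_singleton_iff, ← h₁, ← hp, ofPt_pre fst v,
      ← Points.ofPt_eq_map_ofScheme, Points.ofPt_toHom]
  refine closure_subset_iff_isClosed.1 fun w hw => ?_
  have hwT : w ∈ Points.ofPt a ⁻¹' {x} :=
    hT.closure_subset_iff.2 (Set.singleton_subset_iff.2 hv) hw
  have hs : snd.left v ⤳ w := specializes_iff_mem_closure.2 hw
  exact eq_of_specializes_of_isDecent hX ha ((show Points.ofPt a w = x from hwT).trans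
    (show Points.ofPt a (snd.left v) = x from hv).symm) hs

/-- The fibres of a field valued point lying over a closed point of the base. -/
theorem isFinite_chart_of_closed {X : Sp S} (hX : IsDecent X) {k : Type u} [Field k]
    {s : ↥S} (hs : IsClosed ({s} : Set ↥S)) {φ : S.residueField s ⟶ CommRingCat.of k}
    (p : (yon S).obj (Over.mk (Spec.map φ ≫ S.fromSpecResidueField s)) ⟶ X) {U : Over S}
    [IsAffine U.left] {a : (yon S).obj U ⟶ X} (ha : RepWith @Etale a) {V : Over S}
    {fst : (yon S).obj V ⟶ (yon S).obj (Over.mk (Spec.map φ ≫ S.fromSpecResidueField s))}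
    {snd : V ⟶ U} (sq : IsPullback fst ((yon S).map snd) p a) :
    (φ.hom.IsIntegral → IsIntegralHom snd.left) ∧ (φ.hom.Finite → IsFinite snd.left) := by
  have sq' : IsPullback ((yon S).map snd) ((yon S).map (pre fst)) a p := by
    rw [map_pre]; exact sq.flip
  haveI := compactFibres_of_isDecent hX a k _ _ _ _ _ sq'
  haveI : IsFinite (pre fst).left := (finite_of_compact_fibre ha sq').2.2
  haveI : IsClosedImmersion (S.fromSpecResidueField s) :=
    IsClosedImmersion.of_isPreimmersion _ (by rw [Scheme.range_fromSpecResidueField]; exact hs)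
  haveI := isSeparated_of_isAffine_source (S := S) U.hom
  have hw : snd.left ≫ U.hom = (pre fst).left ≫ Spec.map φ ≫ S.fromSpecResidueField s :=
    (Over.w snd).trans (Over.w (pre fst)).symm
  constructor
  · intro h
    haveI : IsIntegralHom (Spec.map φ) := IsIntegralHom.SpecMap_iff.2 h
    haveI : IsIntegralHom ((pre fst).left ≫ Spec.map φ ≫ S.fromSpecResidueField s) := inferInstance
    exact MorphismProperty.of_postcomp (W' := @IsSeparated) @IsIntegralHom snd.left U.hom inferInstance
      (hw ▸ ‹_›)
  · intro h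
    haveI : IsFinite (Spec.map φ) := (IsFinite.SpecMap_iff φ).2 h
    haveI : IsFinite ((pre fst).left ≫ Spec.map φ ≫ S.fromSpecResidueField s) := inferInstance
    haveI : IsFinite (snd.left ≫ U.hom) := hw ▸ ‹_›
    exact IsFinite.of_comp snd.left U.hom

theorem isClosed_point_of_closed {X : Sp S} (hA : IsAlgSpace X) (hX : IsDecent X) {k : Type u} [Field k]
    {s : ↥S} (hs : IsClosed ({s} : Set ↥S)) {φ : S.residueField s ⟶ CommRingCat.of k}
    (hφ : φ.hom.IsIntegral)
    (p : (yon S).obj (Over.mk (Spec.map φ ≫ S.fromSpecResidueField s)) ⟶ X)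
    (t : ↥(Spec (CommRingCat.of k))) : IsClosed ({Points.ofPt p t} : Set (Points X)) := by
  obtain ⟨U, a, ha, has⟩ := hA.atlas
  rw [← (isQuotientMap_ofPt ha has).isClosed_preimage]
  let C := Points.ofPt a ⁻¹' {Points.ofPt p t}
  refine (TopologicalSpace.IsOpenCover.isClosed_iff_coe_preimage
    (U := fun A : U.left.affineOpens => A.1) ?_).2 fun A => ?_
  · exact TopologicalSpace.IsOpenCover.mk (iSup_affineOpens_eq_top _)
  let B : Over S := Over.mk (A.1.ι ≫ U.hom)
  let j : B ⟶ U := Over.homMk A.1.ι rfl
  haveI : IsAffine B.left := A.2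
  have hb : RepWith @Etale ((yon S).map j ≫ a) :=
    repWith_comp ((repWith_yon_map_iff _ j).2 (inferInstanceAs (Etale A.1.ι))) ha
  obtain ⟨V, fst, snd, sq⟩ := exists_sq (hA.representable_from_yon p) ((yon S).map j ≫ a)
  haveI := (isFinite_chart_of_closed hX hs p hb sq).1 hφ
  have hr : Set.range snd.left = ((↑) : A.1 → U.left) ⁻¹' C := by
    ext (b : B.left)
    constructor
    · rintro ⟨v, rfl⟩
      change Points.ofPt a (j.left (snd.left v)) = Points.ofPt p t
      rw [← ofPt_comp j a, ← map_ofPt_sq sq.w v, Points.map_ofPt]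
      have h := ofPt_comp (pre fst) p v
      rw [map_pre] at h
      rw [h]
      exact congrArg _ (@Subsingleton.elim (PrimeSpectrum k) _ _ _)
    · intro hb'
      obtain ⟨v, -, hv⟩ := exists_point_of_sq sq (Points.ofScheme _ t) b
        (by rw [← Points.ofPt_eq_map_ofScheme, ofPt_comp]; exact hb'.symm)
      exact ⟨v, hv⟩
  exact hr ▸ snd.left.isClosedMap.isClosed_range

theorem isFinite_of_closed {X : Sp S} (hA : IsAlgSpace X) (hX : IsDecent X) {k : Type u} [Field k]
    {s : ↥S} (hs : IsClosed ({s} : Set ↥S)) {φ : S.residueField s ⟶ CommRingCat.of k}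
    (hφ : φ.hom.Finite)
    (p : (yon S).obj (Over.mk (Spec.map φ ≫ S.fromSpecResidueField s)) ⟶ X) :
    RepWith @IsFinite p ∧ (Function.Bijective φ.hom → RepWith @IsClosedImmersion p) := by
  refine ⟨repWith_of_affine_charts hA (hA.representable_from_yon p) fun U a V fst snd hU ha sq =>
    haveI := hU; (isFinite_chart_of_closed hX hs p ha sq).2 hφ, fun hbij => ?_⟩
  refine repWith_of_affine_charts hA (hA.representable_from_yon p) fun U a V fst snd hU ha sq => ?_
  haveI := hU
  haveI := (isFinite_chart_of_closed hX hs p ha sq).2 hφ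
  haveI : IsIso φ := (ConcreteCategory.isIso_iff_bijective φ).2 hbij
  haveI : Mono (Spec.map φ ≫ S.fromSpecResidueField s) := inferInstance
  haveI : Mono ((yon S).map snd) := ⟨fun {Z} b c h => sq.hom_ext (hom_ext fun T q => by
    rw [← map_pre (q ≫ b ≫ fst), ← map_pre (q ≫ c ≫ fst)]
    congr 1
    ext : 1
    exact (cancel_mono (Spec.map φ ≫ S.fromSpecResidueField s)).1
      ((Over.w (pre (q ≫ b ≫ fst))).trans (Over.w (pre (q ≫ c ≫ fst))).symm)) h⟩
  haveI := mono_of_map snd
  exact (IsClosedImmersion.iff_isFinite_and_mono _).2 ⟨inferInstance, inferInstance⟩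

end Groth.Agent.AlgSpc
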