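import Groth.Agent.AlgSpc.EtLocInst

/-!
The listed etale local properties.
-/

universe u

open CategoryTheory CategoryTheory.Limits AlgebraicGeometry

set_option backward.isDefEq.respectTransparency false

namespace Groth.Agent.AlgSpc

/-- The classes of morphisms in the lists of the statements are etale local, and stable. -/
theorem listed_etLoc (P : MorphismProperty Scheme.{u})
    (hP : P = @LocallyOfFiniteType ∨ P = @LocallyOfFinitePresentation ∨ P = @Flat ∨ P = @Smooth ∨ P = @Etale ∨
      (∀ ⦃A B : Scheme.{u}⦄ (g : A ⟶ B), P g ↔ (LocallyQuasiFinite g ∧ LocallyOfFiniteType g)) ∨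
      (∀ ⦃A B : Scheme.{u}⦄ (g : A ⟶ B), P g ↔ (LocallyOfFiniteType g ∧ FormallyUnramified g))) :
    EtLoc P ∧ P.IsStableUnderComposition ∧ P.IsStableUnderBaseChange := by
  rcases hP with rfl | rfl | rfl | rfl | rfl | h | h
  iterate 5 exact ⟨inferInstance, inferInstance, inferInstance⟩
  · obtain rfl : P = (@LocallyQuasiFinite ⊓ @LocallyOfFiniteType : MorphismProperty Scheme.{u}) :=
      MorphismProperty.ext _ _ fun A B g => h g
    exact ⟨inferInstance, inferInstance, inferInstance⟩
  · obtain rfl : P = (@LocallyOfFiniteType ⊓ @FormallyUnramified : MorphismProperty Scheme.{u}) :=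
      MorphismProperty.ext _ _ fun A B g => h g
    exact ⟨inferInstance, inferInstance, inferInstance⟩

end Groth.Agent.AlgSpc
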