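import Groth.Agent.AlgSpc.LocP
import Groth.Prelude.Def_AlgSpOX3
import Mathlib.AlgebraicGeometry.AlgClosed.Basic

/-!
The category of etale neighbourhoods of a geometric point is cofiltered.
-/

universe u

open CategoryTheory CategoryTheory.Limits AlgebraicGeometry Opposite

set_option backward.isDefEq.respectTransparency false

namespace Groth.Agent.AlgSpc

open _root_.AlgSp

variable {S : Scheme.{u}}

/-- Etale surjections over the spectrum of an algebraically closed field have sections. -/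
theorem exists_section_of_isAlgClosed {K : Type u} [Field K] [IsAlgClosed K] {W : Scheme.{u}}
    (f : W ⟶ Spec (CommRingCat.of K)) [Etale f] [Surjective f] :
    ∃ s : Spec (CommRingCat.of K) ⟶ W, s ≫ f = 𝟙 _ := by
  have : JacobsonSpace ↥W := LocallyOfFiniteType.jacobsonSpace f
  obtain ⟨w, -⟩ := f.surjective (IsLocalRing.closedPoint K)
  obtain ⟨x, -, hx⟩ := nonempty_inter_closedPoints (Z := (Set.univ : Set W)) ⟨w, trivial⟩
    isClosed_univ.isLocallyClosed
  exact ⟨pointOfClosedPoint f x hx, pointOfClosedPoint_comp f x hx⟩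

theorem isCofiltered_etNbhd {X : Sp S} (hX : IsAlgSpace X) (p : FieldPt X) (hp : p.IsGeometric) :
    IsCofiltered (EtNbhd p) := by
  have : IsAlgClosed p.K := hp
  obtain ⟨U, a, ha, has⟩ := hX.atlas
  obtain ⟨W, fst, snd, sq⟩ := exists_sq ha.1 p.toHom
  have : Etale snd.left := ha.2 p.toHom fst snd sq
  have : Surjective snd.left := has.2 p.toHom fst snd sq
  obtain ⟨s, hs⟩ := exists_section_of_isAlgClosed (K := p.K) snd.left
  let t : p.pt ⟶ W := Over.homMk s (by rw [← Over.w snd, ← Category.assoc, hs]; exact Category.id_comp _)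
  have ht : t ≫ snd = 𝟙 _ := by ext; exact hs
  have h₀ : (yon S).map (t ≫ pre fst) ≫ a = p.toHom := by
    rw [Functor.map_comp, Category.assoc, map_pre, sq.w, ← Category.assoc, ← Functor.map_comp, ht]
    simp
  have : Nonempty (EtNbhd p) := ⟨⟨EtOver.mk a ha, ⟨t ≫ pre fst, h₀⟩⟩⟩
  suffices h : IsCofilteredOrEmpty (EtNbhd p) from { toIsCofilteredOrEmpty := h }
  refine { cone_objs := fun A B => ?_, cone_maps := fun {A B} g h => ?_ }
  · obtain ⟨E₁, u₁, h₁⟩ := A
    obtain ⟨E₂, u₂, h₂⟩ := B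
    refine ⟨⟨EtOver.prodObj E₁ E₂, E₂.property.1.lift' u₂ u₁ (h₂.trans h₁.symm), ?_⟩,
      CategoryOfElements.homMk _ _ (EtOver.prodFst E₁ E₂) ?_,
      CategoryOfElements.homMk _ _ (EtOver.prodSnd E₁ E₂) ?_, trivial⟩
    · change (yon S).map _ ≫ (yon S).map _ ≫ E₁.obj.hom = p.toHom
      rw [← Category.assoc, ← Functor.map_comp, Functor.relativelyRepresentable.lift'_snd]
      exact h₁
    · exact Subtype.ext (Functor.relativelyRepresentable.lift'_snd _ _ _ _)
    · exact Subtype.ext (Functor.relativelyRepresentable.lift'_fst _ _ _ _)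
  · obtain ⟨E, u, hu⟩ := A
    obtain ⟨E', v, hv⟩ := B
    obtain ⟨g, hg⟩ := g
    obtain ⟨h, hh⟩ := h
    obtain ⟨α, hα₁, hα₂⟩ := BinaryFan.IsLimit.lift' (EtOver.prodIsLimit E' E') g h
    obtain ⟨δ, hδ₁, hδ₂⟩ := BinaryFan.IsLimit.lift' (EtOver.prodIsLimit E' E') (𝟙 E') (𝟙 E')
    simp only [BinaryFan.mk_fst, BinaryFan.mk_snd] at hα₁ hα₂ hδ₁ hδ₂
    have hg' : u ≫ g.hom.left = v := congrArg Subtype.val hg
    have hh' : u ≫ h.hom.left = v := congrArg Subtype.val hh
    have hcond : u ≫ α.hom.left = v ≫ δ.hom.left := by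
      have e₁ : α.hom.left ≫ E'.property.1.snd E'.obj.hom = g.hom.left :=
        congrArg (fun k => k.hom.left) hα₁
      have e₂ : α.hom.left ≫ E'.property.1.fst' E'.obj.hom = h.hom.left :=
        congrArg (fun k => k.hom.left) hα₂
      have d₁ : δ.hom.left ≫ E'.property.1.snd E'.obj.hom = 𝟙 E'.obj.left :=
        congrArg (fun k => k.hom.left) hδ₁
      have d₂ : δ.hom.left ≫ E'.property.1.fst' E'.obj.hom = 𝟙 E'.obj.left :=
        congrArg (fun k => k.hom.left) hδ₂
      refine E'.property.1.hom_ext' ?_ ?_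
      · simp only [Category.assoc, e₂, d₂, Category.comp_id, hh']
      · simp only [Category.assoc, e₁, d₁, Category.comp_id, hg']
    refine ⟨⟨EtOver.pullbackObj α δ, pullback.lift u v hcond, ?_⟩,
      CategoryOfElements.homMk _ _ (EtOver.pullbackFst α δ) ?_, ?_⟩
    · change (yon S).map _ ≫ (yon S).map _ ≫ E.obj.hom = p.toHom
      rw [← Category.assoc, ← Functor.map_comp, pullback.lift_fst]
      exact hu
    · exact Subtype.ext (pullback.lift_fst _ _ _)
    · apply CategoryOfElements.ext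
      change EtOver.pullbackFst α δ ≫ g = EtOver.pullbackFst α δ ≫ h
      rw [← hα₁, ← hα₂, reassoc_of% (EtOver.pullback_condition α δ),
        reassoc_of% (EtOver.pullback_condition α δ), hδ₁, hδ₂]

end Groth.Agent.AlgSpc
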