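import Groth.Agent.AlgSpc.LocP
import Groth.Agent.FpqcDescent.Specialization
import Groth.Prelude.Def_AlgSpDec
import Mathlib.LinearAlgebra.Dual.Basis

/-!
Monomorphisms from spectra of fields, and invariance of dimension under etale surjections.
-/

universe u

open CategoryTheory CategoryTheory.Limits AlgebraicGeometry Opposite
open TensorProduct

set_option backward.isDefEq.respectTransparency false

namespace Groth.Agent.AlgSpc

open _root_.AlgSp

/-- A field extension which is an epimorphism of rings is trivial. -/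
theorem surjective_of_epi_field {L E : Type u} [Field L] [Field E] (φ : L →+* E)
    [Epi (CommRingCat.ofHom φ)] : Function.Surjective φ := by
  algebraize [φ]
  intro c
  by_contra hc
  have h := (cancel_epi (CommRingCat.ofHom φ)).1
    (show CommRingCat.ofHom φ ≫ CommRingCat.ofHom (Algebra.TensorProduct.includeLeftRingHom : E →+* E ⊗[L] E) =
      CommRingCat.ofHom φ ≫ CommRingCat.ofHom (Algebra.TensorProduct.includeRight : E →ₐ[L] E ⊗[L] E).toRingHom by
      ext x
      change (algebraMap L E x) ⊗ₜ[L] (1 : E) = 1 ⊗ₜ[L] algebraMap L E x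
      simp [Algebra.algebraMap_eq_smul_one, TensorProduct.smul_tmul])
  have h' : c ⊗ₜ[L] (1 : E) = 1 ⊗ₜ[L] c := DFunLike.congr_fun (congrArg CommRingCat.Hom.hom h) c
  have hc' : c ∉ Submodule.span L {(1 : E)} := fun hm => by
    obtain ⟨r, hr⟩ := Submodule.mem_span_singleton.1 hm
    exact hc ⟨r, by rw [← hr, Algebra.smul_def, mul_one]; rfl⟩
  obtain ⟨g, hg, hgc⟩ := Submodule.exists_dual_map_eq_bot_of_notMem hc' inferInstance
  have hg1 : g 1 = 0 := by
    have : g 1 ∈ (Submodule.span L {(1 : E)}).map g := Submodule.mem_map_of_mem (Submodule.mem_span_singleton_self _)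
    rwa [hgc, Submodule.mem_bot] at this
  have := congrArg (TensorProduct.lid L E ∘ LinearMap.rTensor E g) h'
  simp only [Function.comp_apply, LinearMap.rTensor_tmul, TensorProduct.lid_tmul, hg1, zero_smul,
    smul_eq_zero, one_ne_zero, or_false] at this
  exact hg this

/-- A monomorphism to the spectrum of a field from a nonempty scheme has a section. -/
theorem exists_section_of_mono {L : Type u} [Field L] {W : Scheme.{u}} (f : W ⟶ Spec (CommRingCat.of L))
    [Mono f] (w : W) : ∃ s : Spec (CommRingCat.of L) ⟶ W, s ≫ f = 𝟙 _ := by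
  obtain ⟨φ, hφ⟩ := Spec.map_surjective (W.fromSpecResidueField w ≫ f)
  have : Mono (Spec.map φ) := by rw [hφ]; infer_instance
  have : Epi φ := ⟨fun a b h => Spec.map_injective ((cancel_mono (Spec.map φ)).1
    (by rw [← Spec.map_comp, ← Spec.map_comp, h]))⟩
  have hb : Function.Bijective φ :=
    ⟨φ.hom.injective, surjective_of_epi_field (L := L) (E := W.residueField w) φ.hom⟩
  have : IsIso φ := (ConcreteCategory.isIso_iff_bijective φ).2 hb
  exact ⟨inv (Spec.map φ) ≫ W.fromSpecResidueField w, by rw [Category.assoc, ← hφ, IsIso.inv_hom_id]⟩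

variable {S : Scheme.{u}}

theorem existsUnique_factor_of_mono {X : Sp S} (hX : IsAlgSpace X) (p q : FieldPt X)
    (h : Points.mk p = Points.mk q) [Mono p.toHom] :
    ∃! c : q.pt ⟶ p.pt, (yon S).map c ≫ p.toHom = q.toHom := by
  obtain ⟨W, fst, snd, sq⟩ := exists_sq (hX.representable_from_yon p.toHom) q.toHom
  have : Mono ((yon S).map snd) := by
    constructor
    intro Z a b w
    refine sq.hom_ext ((cancel_mono p.toHom).1 ?_) w
    rw [Category.assoc, Category.assoc, sq.w, ← Category.assoc, ← Category.assoc, w]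
  have : Mono snd := (yon S).mono_of_mono_map this
  have : Mono snd.left := inferInstanceAs (Mono ((Over.forget S).map snd))
  obtain ⟨v, -, -⟩ := exists_point_of_sq sq (Points.ofScheme p.pt (IsLocalRing.closedPoint p.K))
    (IsLocalRing.closedPoint q.K) (by
      rw [← Points.ofPt_eq_map_ofScheme, Points.ofPt_toHom, Points.ofPt_toHom, h])
  obtain ⟨s, hs⟩ := exists_section_of_mono (L := q.K) snd.left v
  let t : q.pt ⟶ W := Over.homMk s (by rw [← Over.w snd, ← Category.assoc, hs]; exact Category.id_comp _)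
  have ht : t ≫ snd = 𝟙 _ := by ext; exact hs
  have hc : (yon S).map (t ≫ pre fst) ≫ p.toHom = q.toHom := by
    rw [Functor.map_comp, Category.assoc, map_pre, sq.w, ← Category.assoc, ← Functor.map_comp, ht]
    simp
  exact ⟨_, hc, fun c hc' => (yon S).map_injective ((cancel_mono p.toHom).1 (hc'.trans hc.symm))⟩

theorem dim_eq_of_etale_surjective {X Y : Sp S} (hX : IsAlgSpace X) (hY : IsAlgSpace Y) {f : X ⟶ Y}
    (hf : IsEtaleMor f) (hs : Function.Surjective (Points.map f)) : AlgSp.dim X = AlgSp.dim Y := by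
  refine le_antisymm (iSup_le fun U => iSup₂_le fun a ha =>
    le_iSup_of_le U (le_iSup₂_of_le (a ≫ f) (hf a ha) le_rfl)) (iSup_le fun U => iSup₂_le fun b hb => ?_)
  obtain ⟨U₀, a₀, ha₀, ha₀s⟩ := hX.atlas
  obtain ⟨V, fst, snd, sq⟩ := exists_sq hb.1 (a₀ ≫ f)
  -- `V = U₀ ×_Y U`
  have ha : RepWith @Etale ((yon S).map snd ≫ a₀) :=
    repWith_comp ((repWith_yon_map_iff _ snd).2 (hb.2 _ fst snd sq)) ha₀
  refine le_iSup_of_le V (le_iSup₂_of_le _ ha ?_)
  have h : ((yon S).map snd ≫ a₀) ≫ f = (yon S).map (pre fst) ≫ b := by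
    rw [Category.assoc, map_pre]; exact sq.w.symm
  have he : Etale (pre fst).left := etale_of_comp (hf _ ha) hb _ h.symm
  refine FpqcDescent.topologicalKrullDim_le_of_generalizingMap (pre fst).left
    (Flat.generalizingMap (pre fst).left) fun u => ?_
  obtain ⟨x, hx⟩ := hs (Points.ofPt b u)
  obtain ⟨u₀, rfl⟩ := surjective_ofPt ha₀s x
  rw [Points.map_ofPt] at hx
  obtain ⟨v, hv, -⟩ := exists_point_of_sq sq (Points.ofScheme U u) u₀
    (by rw [← Points.ofPt_eq_map_ofScheme, hx])
  refine ⟨v, ?_⟩
  have := congrArg (Points.toScheme U) hv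
  rwa [← map_pre fst, Points.toScheme_ofPt, Points.toScheme_ofScheme] at this

end Groth.Agent.AlgSpc
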