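import Groth.Agent.AlgSpc.Decent2
import Groth.Agent.AlgSpc.Misc2

/-!
Points of algebraic spaces represented by monomorphisms from spectra of fields.
-/

universe u

open CategoryTheory CategoryTheory.Limits AlgebraicGeometry Opposite

set_option linter.style.haveILetI false
set_option backward.isDefEq.respectTransparency false

namespace Groth.Agent.AlgSpc

open _root_.AlgSp

variable {S : Scheme.{u}}

/-- A point of a chart whose residue field has finite self-product over the space is represented by a
monomorphism from the spectrum of a field. -/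
theorem exists_mono_point_of_finite {X : Sp S} {U : Over S} {a : (yon S).obj U ⟶ X} (ha : RepWith @Etale a)
    (u : ↥U.left)
    (hfin : ∀ (P : Over S) (p₁ p₂ : P ⟶ Over.mk (U.left.fromSpecResidueField u ≫ U.hom)),
      IsPullback ((yon S).map p₁) ((yon S).map p₂)
        ((yon S).map (Over.homMk (U.left.fromSpecResidueField u) rfl : _ ⟶ U) ≫ a)
        ((yon S).map (Over.homMk (U.left.fromSpecResidueField u) rfl : _ ⟶ U) ≫ a) → Finite ↥P.left) :
    ∃ p : FieldPt X, Points.mk p = Points.ofPt a u ∧ Mono p.toHom := by
  let L : Over S := Over.mk (U.left.fromSpecResidueField u ≫ U.hom)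
  let ju : L ⟶ U := Over.homMk (U.left.fromSpecResidueField u) rfl
  let q₀ := (yon S).map ju ≫ a
  obtain ⟨V, fst, snd, sq⟩ := exists_sq ha.1 q₀
  haveI : Etale snd.left := ha.2 _ _ _ sq
  haveI : LocallyQuasiFinite snd.left := AlgSpLoc.locallyQuasiFinite_of_etale _
  haveI : IsLocallyArtinian L.left :=
    (Scheme.isLocallyArtinianScheme_Spec (R := U.left.residueField u)).2
      (inferInstanceAs (IsArtinianRing (U.left.residueField u)))
  haveI : IsLocallyArtinian V.left := IsLocallyArtinian.of_locallyQuasiFinite snd.left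
  let P := pullback ju (pre fst)
  have h : IsPullback ((yon S).map (pullback.fst ju (pre fst))) ((yon S).map (pullback.snd ju (pre fst)))
      ((yon S).map ju) ((yon S).map (pre fst)) := (IsPullback.of_hasPullback _ _).map (yon S)
  rw [map_pre] at h
  have hP : IsPullback ((yon S).map (pullback.fst ju (pre fst)))
      ((yon S).map (pullback.snd ju (pre fst) ≫ snd)) q₀ q₀ := by
    rw [Functor.map_comp]
    exact h.paste_vert sq
  haveI : Finite ↥P.left := hfin P _ _ hP
  have hk : IsFinite ((pullback.snd ju (pre fst) ≫ snd).left) := by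
    haveI : IsPreimmersion (pullback.snd ju (pre fst)).left :=
      MorphismProperty.of_isPullback (P := @IsPreimmersion)
        ((IsPullback.of_hasPullback ju (pre fst)).map (Over.forget S))
        (inferInstanceAs (IsPreimmersion (U.left.fromSpecResidueField u)))
    haveI : IsClosedImmersion (pullback.snd ju (pre fst)).left :=
      IsClosedImmersion.of_isPreimmersion _ (isClosed_discrete _)
    haveI : IsAffine L.left := inferInstanceAs (IsAffine (Spec (U.left.residueField u)))
    haveI : CompactSpace ↥P.left := Finite.compactSpace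
    haveI : QuasiCompact (pullback.snd ju (pre fst) ≫ snd).left :=
      (HasAffineProperty.iff_of_isAffine (P := @QuasiCompact)).2 ‹CompactSpace ↥P.left›
    haveI : LocallyQuasiFinite (pullback.snd ju (pre fst) ≫ snd).left := by
      rw [Over.comp_left]; infer_instance
    haveI : LocallyOfFiniteType (pullback.snd ju (pre fst) ≫ snd).left := by
      rw [Over.comp_left]; infer_instance
    exact IsFinite.of_locallyQuasiFinite _
  obtain ⟨k, _, str', c, q, hq, hcq, -, -, -, -, -⟩ := FieldRel.exists_mono_factor q₀ hP.flip hk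
  obtain ⟨p, hp, hpm, -⟩ := exists_fieldPt_toHom_eq q
  refine ⟨p, hp.trans ?_, hpm hq⟩
  have := (ofPt_comp c q (IsLocalRing.closedPoint (U.left.residueField u))).symm
  rw [hcq] at this
  refine Eq.trans ?_ (this.trans ((ofPt_comp ju a _).trans
    (congrArg _ (Scheme.fromSpecResidueField_apply u _))))
  exact congrArg _ (@Subsingleton.elim (PrimeSpectrum k) _ _ _)

/-- Points of `X` map to points of `Y` represented by monomorphisms when the map is quasi-compact and etale. -/
theorem exists_mono_point_map {X Y : Sp S} (hX : IsAlgSpace X) (hY : IsAlgSpace Y) {f : X ⟶ Y}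
    (hq : IsQuasiCompactMor f) (he : IsEtaleMor f) (p : FieldPt X) (hp : Mono p.toHom) :
    ∃ q : FieldPt Y, Points.mk q = Points.map f (Points.mk p) ∧ Mono q.toHom := by
  haveI := hp
  haveI : IsAffine p.pt.left := inferInstanceAs (IsAffine (Spec (CommRingCat.of p.K)))
  haveI : IsLocallyArtinian p.pt.left :=
    (Scheme.isLocallyArtinianScheme_Spec (R := CommRingCat.of p.K)).2 (inferInstanceAs (IsArtinianRing p.K))
  -- the fibre of `f` over the point has finitely many points
  have sX := IsPullback.of_hasPullback f (p.toHom ≫ f)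
  have hXK : IsAlgSpace (pullback f (p.toHom ≫ f)) := isAlgSpace_of_isPullback hX hY (IsAlgSpace.yon_obj _) sX
  obtain ⟨W, w, hW, hw, hws⟩ := (isQuasiCompactSp_iff_affine hXK).1
    (hq (IsAlgSpace.yon_obj p.pt) isQuasiCompactSp_yon _ _ _ sX)
  haveI := hW
  haveI : Etale (pre (w ≫ pullback.snd f (p.toHom ≫ f))).left :=
    (locP_base_change hX hY (IsAlgSpace.yon_obj p.pt) sX ((isEtaleMor_iff_locP hX hY).1 he))
      w _ _ hw (repWith_id _ _) (by simp)
  haveI : LocallyQuasiFinite (pre (w ≫ pullback.snd f (p.toHom ≫ f))).left :=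
    AlgSpLoc.locallyQuasiFinite_of_etale _
  haveI : IsLocallyArtinian W.left := IsLocallyArtinian.of_locallyQuasiFinite (pre (w ≫ pullback.snd f (p.toHom ≫ f))).left
  haveI : Finite ↥W.left := finite_of_compact_of_discrete
  -- hence the self-product of `Spec K` over `Y` has finitely many points
  obtain ⟨Q, q₁, q₂, sQ⟩ := exists_sq (hY.representable_from_yon (p.toHom ≫ f)) (p.toHom ≫ f)
  let m : (yon S).obj Q ⟶ pullback f (p.toHom ≫ f) := pullback.lift (q₁ ≫ p.toHom) ((yon S).map q₂)
    (by rw [Category.assoc]; exact sQ.w)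
  haveI : Mono m := ⟨fun {Z} b b' h => by
    have h₁ := h =≫ pullback.fst f (p.toHom ≫ f)
    have h₂ := h =≫ pullback.snd f (p.toHom ≫ f)
    simp only [m, Category.assoc, pullback.lift_fst, pullback.lift_snd] at h₁ h₂
    exact sQ.hom_ext ((cancel_mono p.toHom).1 (by simpa using h₁)) h₂⟩
  obtain ⟨Q', w₁, w₂, sQ'⟩ := exists_sq hw.1 m
  haveI : Surjective w₂.left := hws.2 _ _ _ sQ'
  haveI : Mono (pre w₁) := by
    constructor
    intro Z b b' h
    apply (yon S).map_injective
    have h' : (yon S).map b ≫ w₁ = (yon S).map b' ≫ w₁ := by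
      rw [← map_pre w₁, ← Functor.map_comp, h, Functor.map_comp]
    refine sQ'.hom_ext h' ((cancel_mono m).1 ?_)
    rw [Category.assoc, Category.assoc, ← sQ'.w, reassoc_of% h']
  haveI : Mono (pre w₁).left := inferInstanceAs (Mono ((Over.forget S).map (pre w₁)))
  haveI : Finite ↥Q'.left := Finite.of_injective _ (pre w₁).left.injective
  haveI : Finite ↥Q.left := Finite.of_surjective _ w₂.left.surjective
  -- a chart through the point
  obtain ⟨U, a, ha, has⟩ := hX.atlas
  obtain ⟨u, hu⟩ := surjective_ofPt has (Points.mk p)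
  have haf : RepWith @Etale (a ≫ f) := he a ha
  let L : Over S := Over.mk (U.left.fromSpecResidueField u ≫ U.hom)
  let ju : L ⟶ U := Over.homMk (U.left.fromSpecResidueField u) rfl
  obtain ⟨q, hq₁, -, -⟩ := exists_fieldPt_toHom_eq (K := U.left.residueField u) ((yon S).map ju ≫ a)
  obtain ⟨V, v₁, v₂, sV⟩ := exists_sq ha.1 p.toHom
  haveI : Etale v₂.left := ha.2 _ _ _ sV
  haveI : LocallyQuasiFinite v₂.left := AlgSpLoc.locallyQuasiFinite_of_etale _
  haveI : IsLocallyArtinian V.left := IsLocallyArtinian.of_locallyQuasiFinite v₂.left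
  obtain ⟨c, hc, -⟩ := existsUnique_factor_of_mono hX p
    { K := U.left.residueField u, str := L.hom, val := (J S).uliftYonedaEquiv ((yon S).map ju ≫ a) } (by
      refine Eq.trans ?_ (Points.ofPt_toHom _ (IsLocalRing.closedPoint _))
      change _ = Points.ofPt ((J S).uliftYonedaEquiv.symm _) _
      rw [Equiv.symm_apply_apply]
      exact hu.symm.trans ((ofPt_comp ju a _).trans (congrArg _ (Scheme.fromSpecResidueField_apply u _))).symm)
  replace hc : (yon S).map c ≫ p.toHom = (yon S).map ju ≫ a := hc.trans (Equiv.symm_apply_apply _ _)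
  change L ⟶ p.pt at c
  let l : L ⟶ V := pre (sV.lift ((yon S).map ju) ((yon S).map c) hc.symm)
  haveI : IsPreimmersion l.left := by
    have e : l ≫ pre v₁ = ju := (yon S).map_injective (by simp [l])
    haveI : IsPreimmersion (l.left ≫ (pre v₁).left) := by
      rw [← Over.comp_left, e]
      exact (inferInstance : IsPreimmersion (U.left.fromSpecResidueField u))
    haveI : SurjectiveOnStalks l.left := SurjectiveOnStalks.of_comp l.left (pre v₁).left
    haveI : Subsingleton ↥L.left := inferInstanceAs (Subsingleton (PrimeSpectrum (U.left.residueField u)))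
    exact ⟨Topology.IsEmbedding.of_subsingleton _⟩
  haveI : IsClosedImmersion l.left := IsClosedImmersion.of_isPreimmersion _ (isClosed_discrete _)
  haveI : IsFinite c.left := by
    have e : l ≫ v₂ = c := (yon S).map_injective (by simp [l])
    haveI : LocallyOfFiniteType c.left := by rw [← e, Over.comp_left]; infer_instance
    haveI : JacobsonSpace ↥p.pt.left := inferInstanceAs (JacobsonSpace ↥(Spec (CommRingCat.of p.K)))
    haveI : Subsingleton ↥(Spec (U.left.residueField u)) :=
      inferInstanceAs (Subsingleton (PrimeSpectrum (U.left.residueField u)))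
    haveI : Subsingleton ↥L.left := inferInstanceAs (Subsingleton (PrimeSpectrum (U.left.residueField u)))
    haveI : AlgebraicGeometry.IsReduced L.left := inferInstanceAs (AlgebraicGeometry.IsReduced (Spec (U.left.residueField u)))
    exact isFinite_iff_locallyOfFiniteType_of_jacobsonSpace.2 ‹_›
  obtain ⟨r, hr, hrm⟩ := exists_mono_point_of_finite haf u fun P p₁ p₂ sP => by
    have e : (yon S).map (Over.homMk (U.left.fromSpecResidueField u) rfl : _ ⟶ U) ≫ a ≫ f =
        (yon S).map c ≫ p.toHom ≫ f := by rw [reassoc_of% hc]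
    let A := pullback (pre q₁) c
    let B := pullback (pullback.fst (pre q₁) c ≫ q₂) c
    have w : ((yon S).map (p₁ ≫ c)) ≫ p.toHom ≫ f = (yon S).map (p₂ ≫ c) ≫ p.toHom ≫ f := by
      rw [Functor.map_comp, Functor.map_comp, Category.assoc, Category.assoc, ← e]
      exact sP.w
    let n : P ⟶ B := pullback.lift (pullback.lift (pre (sQ.lift _ _ w)) p₁ ((yon S).map_injective (by simp)))
      p₂ ((yon S).map_injective (by simp))
    haveI : Mono n := ⟨fun {Z} b b' h => by
      apply (yon S).map_injective
      apply sP.hom_ext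
      · rw [← Functor.map_comp, ← Functor.map_comp]
        exact congrArg _ (by simpa [n] using congrArg (fun k => k ≫ pullback.fst _ _ ≫ pullback.snd (pre q₁) c) h)
      · rw [← Functor.map_comp, ← Functor.map_comp]
        exact congrArg _ (by simpa [n] using congrArg (fun k => k ≫ pullback.snd _ _) h)⟩
    haveI : Mono n.left := inferInstanceAs (Mono ((Over.forget S).map n))
    haveI : IsFinite (pullback.fst (pre q₁) c).left := MorphismProperty.of_isPullback (P := @IsFinite)
      ((IsPullback.of_hasPullback (pre q₁) c).map (Over.forget S)).flip ‹_›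
    haveI : IsFinite (pullback.fst (pullback.fst (pre q₁) c ≫ q₂) c).left :=
      MorphismProperty.of_isPullback (P := @IsFinite)
        ((IsPullback.of_hasPullback (pullback.fst (pre q₁) c ≫ q₂) c).map (Over.forget S)).flip ‹_›
    haveI : Finite ↥A.left := Set.finite_univ_iff.1 (by
      rw [← Set.preimage_univ (f := (pullback.fst (pre q₁) c).left)]
      exact (pullback.fst (pre q₁) c).left.finite_preimage Set.finite_univ)
    haveI : Finite ↥B.left := Set.finite_univ_iff.1 (by
      rw [← Set.preimage_univ (f := (pullback.fst (pullback.fst (pre q₁) c ≫ q₂) c).left)]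
      exact (pullback.fst (pullback.fst (pre q₁) c ≫ q₂) c).left.finite_preimage Set.finite_univ)
    exact Finite.of_injective _ n.left.injective
  exact ⟨r, hr.trans (by rw [← Points.map_ofPt, hu]), hrm⟩

end Groth.Agent.AlgSpc
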