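import Groth.Agent.AlgSpc.Decent

/-!
Points of decent algebraic spaces.
-/

universe u

open CategoryTheory CategoryTheory.Limits AlgebraicGeometry Opposite

set_option linter.style.haveILetI false
set_option backward.isDefEq.respectTransparency false

namespace Groth.Agent.AlgSpc

open _root_.AlgSp

variable {S : Scheme.{u}}

/-- A morphism from the spectrum of a field as a field valued point. -/
theorem exists_fieldPt_toHom_eq {X : Sp S} {K : Type u} [Field K] {str : Spec (CommRingCat.of K) ⟶ S}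
    (q : (yon S).obj (Over.mk str) ⟶ X) :
    ∃ p : FieldPt X, Points.mk p = Points.ofPt q (IsLocalRing.closedPoint K) ∧
      (Mono q → Mono p.toHom) ∧ ∀ P : MorphismProperty Scheme.{u}, RepWith P q → RepWith P p.toHom := by
  let p : FieldPt X := { K := K, str := str, val := (J S).uliftYonedaEquiv q }
  have hpq : p.toHom = q := (J S).uliftYonedaEquiv.symm_apply_apply q
  refine ⟨p, ?_, fun h => hpq ▸ h, fun P h => hpq ▸ h⟩
  refine (Points.ofPt_toHom p (IsLocalRing.closedPoint K)).symm.trans ?_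
  rw [hpq]

/-- An affine open chart at a point. -/
theorem exists_affine_chart {U : Over S} (u : ↥U.left) (O : U.left.Opens) (hu : u ∈ O) :
    ∃ (U' : Over S) (j : U' ⟶ U) (u' : ↥U'.left), IsAffine U'.left ∧ IsOpenImmersion j.left ∧
      j.left u' = u ∧ Set.range j.left ⊆ O := by
  obtain ⟨A, hA, huA, hle⟩ := exists_isAffineOpen_mem_and_subset hu
  refine ⟨Over.mk (A.ι ≫ U.hom), Over.homMk A.ι rfl, (⟨u, huA⟩ : (A : Scheme.{u})), hA,
    inferInstanceAs (IsOpenImmersion A.ι), rfl, ?_⟩
  rintro _ ⟨z, rfl⟩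
  exact hle (show (Over.homMk A.ι rfl : Over.mk (A.ι ≫ U.hom) ⟶ U).left z ∈ (A : Set U.left) from z.2)

theorem finite_preimage_point_inter {X : Sp S} (hX : IsDecent X) {U : Over S}
    {a : (yon S).obj U ⟶ X} (ha : RepWith @Etale a) {A : U.left.Opens} (hA : IsAffineOpen A)
    (x : Points X) : (Points.ofPt a ⁻¹' {x} ∩ (A : Set U.left)).Finite := by
  let U' : Over S := Over.mk (A.ι ≫ U.hom)
  let j : U' ⟶ U := Over.homMk A.ι rfl
  haveI : IsAffine U'.left := hA
  have h := finite_preimage_point (repWith_comp ((repWith_yon_map_iff _ j).2 (inferInstanceAs (Etale A.ι))) ha)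
    (compactFibres_of_isDecent hX _) x
  refine (h.image j.left).subset ?_
  rintro u ⟨hu, huA⟩
  refine ⟨(⟨u, huA⟩ : (A : Scheme.{u})), ?_, rfl⟩
  change Points.ofPt ((yon S).map j ≫ a) _ = x
  rw [ofPt_comp]
  exact hu

theorem eq_of_specializes_of_isDecent {X : Sp S} (hX : IsDecent X) {U : Over S}
    {a : (yon S).obj U ⟶ X} (ha : RepWith @Etale a) {u u' : ↥U.left}
    (he : Points.ofPt a u = Points.ofPt a u') (hs : u' ⤳ u) : u = u' := by
  obtain ⟨W, fst, snd, sq⟩ := exists_sq ha.1 a
  haveI : Etale (pre fst).left := sq_etale sq ha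
  haveI : Etale snd.left := ha.2 _ _ _ sq
  haveI : LocallyQuasiFinite (pre fst).left := AlgSpLoc.locallyQuasiFinite_of_etale _
  obtain ⟨A, hA, huA, -⟩ := exists_isAffineOpen_mem_and_subset (show u ∈ (⊤ : U.left.Opens) from trivial)
  by_contra hne
  let E : Set U.left := Points.ofPt a ⁻¹' {Points.ofPt a u} ∩ (A : Set U.left)
  have hE : E.Finite := finite_preimage_point_inter hX ha hA _
  let M : Set U.left := {v' | v' ∈ E ∧ ∃ v ∈ E, v' ⤳ v ∧ v ≠ v'}
  have hu'E : u' ∈ E := ⟨he.symm, hs.mem_open A.2 huA⟩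
  have hM : M.Nonempty := ⟨u', hu'E, u, ⟨rfl, huA⟩, hs, hne⟩
  obtain ⟨v', ⟨hv'E, v, hvE, hvv', hvne⟩, hmin⟩ :=
    Set.exists_min_image M (fun z => ({w | w ∈ E ∧ w ⤳ z} : Set U.left).ncard)
      (hE.subset fun z hz => hz.1) hM
  obtain ⟨r, hr₁, hr₂⟩ := exists_point_of_sq sq (Points.ofScheme U v') v
    (by rw [← Points.ofPt_eq_map_ofScheme]; exact hv'E.1.trans hvE.1.symm)
  have hr₁' : (pre fst).left r = v' := by
    have := congrArg (Points.toScheme U) hr₁
    rwa [← map_pre fst, Points.toScheme_ofPt, Points.toScheme_ofScheme] at this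
  obtain ⟨r', hr', hr'₂⟩ := Flat.generalizingMap snd.left (hr₂.symm ▸ hvv' : v' ⤳ snd.left r)
  let v'' := (pre fst).left r'
  have hs'' : v'' ⤳ v' := hr₁' ▸ hr'.map (pre fst).left.continuous
  have hne' : v'' ≠ v' := by
    intro h
    have := ((pre fst).left.isDiscrete_preimage_singleton v').eq_of_specializes hr' h hr₁'
    rw [this, hr₂] at hr'₂
    exact hvne hr'₂
  have hv''E : v'' ∈ E := by
    refine ⟨?_, hs''.mem_open A.2 hv'E.2⟩
    have h₁ := ofPt_comp (pre fst) a r'
    rw [map_pre, sq.w, ofPt_comp, hr'₂] at h₁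
    exact h₁.symm.trans hv'E.1
  refine absurd (hmin v'' ⟨hv''E, v', hv'E, hs'', hne'.symm⟩) (not_le.2 ?_)
  refine Set.ncard_lt_ncard ⟨fun w hw => ⟨hw.1, hw.2.trans hs''⟩, fun h => ?_⟩
    (hE.subset fun w hw => hw.1)
  exact hne' (hs''.antisymm (h (show v' ∈ {w | w ∈ E ∧ w ⤳ v'} from ⟨hv'E, specializes_rfl⟩)).2).eq

/-- Generalisations lift to the affine etale charts of a decent space. -/
theorem exists_specializes_lift {X : Sp S} (hX : IsDecent X) {U : Over S}
    {a : (yon S).obj U ⟶ X} (ha : RepWith @Etale a) {u : ↥U.left} {y : Points X}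
    (hs : y ⤳ Points.ofPt a u) : ∃ u', u' ⤳ u ∧ Points.ofPt a u' = y := by
  obtain ⟨A, hA, huA, -⟩ := exists_isAffineOpen_mem_and_subset (show u ∈ (⊤ : U.left.Opens) from trivial)
  have hE := finite_preimage_point_inter hX ha hA y
  by_contra! hne
  have : ∀ v ∈ Points.ofPt a ⁻¹' {y} ∩ (A : Set U.left), ∃ O : Set U.left, IsOpen O ∧ u ∈ O ∧ v ∉ O := by
    intro v hv
    simpa [specializes_iff_forall_open] using fun h => hne v h hv.1
  choose! O hO₁ hO₂ hO₃ using this
  let O' : Set U.left := (A : Set U.left) ∩ ⋂ v ∈ Points.ofPt a ⁻¹' {y} ∩ (A : Set U.left), O v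
  have hO' : IsOpen O' := A.2.inter (hE.isOpen_biInter hO₁)
  obtain ⟨v, hv, hvy⟩ := hs.mem_open (isOpenMap_ofPt ha O' hO')
    ⟨u, ⟨huA, Set.mem_iInter₂.2 hO₂⟩, rfl⟩
  exact hO₃ v ⟨hvy, hv.1⟩ (Set.mem_iInter₂.1 hv.2 v ⟨hvy, hv.1⟩)

theorem t0Space_of_isDecent {X : Sp S} (hA : IsAlgSpace X) (hX : IsDecent X) : T0Space (Points X) := by
  refine (t0Space_iff_inseparable _).2 fun x y h => ?_
  obtain ⟨U, a, ha, hs⟩ := hA.atlas
  obtain ⟨u, rfl⟩ := surjective_ofPt hs x
  obtain ⟨u', hu', rfl⟩ := exists_specializes_lift hX ha h.specializes'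
  obtain ⟨u'', hu'', he⟩ := exists_specializes_lift hX ha h.specializes
  have := eq_of_specializes_of_isDecent hX ha he.symm (hu''.trans hu')
  exact congrArg _ ((this ▸ hu'' : u ⤳ u').antisymm hu').eq

theorem isDecent_of_representable {X Y : Sp S} {f : X ⟶ Y} (hf : Representable f) (hY : IsDecent Y) :
    IsDecent X := by
  intro x
  obtain ⟨p, hp, hm, hq⟩ := hY (Points.map f x)
  obtain ⟨Z, fst, snd, sq⟩ := exists_sq hf p.toHom
  obtain ⟨z, hz, -⟩ := exists_point_of_sq sq x (IsLocalRing.closedPoint p.K)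
    (by rw [Points.ofPt_toHom, hp])
  haveI := hm
  haveI : Mono fst := ⟨fun a b h => sq.hom_ext h ((cancel_mono p.toHom).1
    (by rw [Category.assoc, Category.assoc, ← sq.w, reassoc_of% h]))⟩
  have hfst : RepWith @QuasiCompact fst := repWith_of_isPullback sq.flip hq
  let T : Over S := Over.mk (Z.left.fromSpecResidueField z ≫ Z.hom)
  let j : T ⟶ Z := Over.homMk (Z.left.fromSpecResidueField z) rfl
  haveI : Mono j.left := inferInstanceAs (Mono (Z.left.fromSpecResidueField z))
  haveI : Mono ((yon S).map j) := mono_of_repWith (P := MorphismProperty.monomorphisms _)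
    (fun _ _ _ h => h) ((repWith_yon_map_iff _ j).2 (MorphismProperty.monomorphisms.infer_property j.left))
  have hj : RepWith @QuasiCompact ((yon S).map j) :=
    (repWith_yon_map_iff _ j).2 (quasiCompact_from_field (K := Z.left.residueField z) _)
  obtain ⟨p', h₁, h₂, h₃⟩ := exists_fieldPt_toHom_eq (K := Z.left.residueField z) ((yon S).map j ≫ fst)
  refine ⟨p', ?_, h₂ inferInstance, h₃ _ (repWith_comp hj hfst)⟩
  rw [h₁, ofPt_comp j fst, ← hz]
  exact congrArg _ (Scheme.fromSpecResidueField_apply z _)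

theorem compactFibres_comp_mono {X' X : Sp S} {U : Over S} {b : (yon S).obj U ⟶ X'} {j : X' ⟶ X}
    (hj : RepWith @IsOpenImmersion j) (hb : CompactFibres b) : CompactFibres (b ≫ j) := by
  haveI : Mono j := mono_of_repWith (fun _ _ f (hf : IsOpenImmersion f) => inferInstance) hj
  intro K _ str g V fst snd sq
  rcases isEmpty_or_nonempty ↥V.left with h | ⟨⟨v⟩⟩
  · infer_instance
  obtain ⟨O, o₁, o₂, sqO⟩ := exists_sq hj.1 g
  haveI : IsOpenImmersion o₂.left := hj.2 _ _ _ sqO
  have w : (fst ≫ b) ≫ j = (yon S).map snd ≫ g := by rw [Category.assoc]; exact sq.w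
  let l := pre (sqO.lift _ _ w)
  haveI : Surjective o₂.left := ⟨fun x => ⟨l.left v, @Subsingleton.elim (PrimeSpectrum K) _ _ _⟩⟩
  haveI : Epi o₂.left.base := (TopCat.epi_iff_surjective _).2 o₂.left.surjective
  haveI : IsIso o₂.left := (isIso_iff_isOpenImmersion_and_epi_base o₂.left).2 ⟨inferInstance, inferInstance⟩
  haveI : IsIso o₂ := by
    haveI : IsIso ((Over.forget S).map o₂) := ‹IsIso o₂.left›
    exact isIso_of_reflects_iso o₂ (Over.forget S)
  let g' : (yon S).obj (Over.mk str) ⟶ X' := (yon S).map (inv o₂) ≫ o₁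
  have hg' : g' ≫ j = g := by simp [g', sqO.w]
  refine hb K str g' V fst snd ?_
  have h1 : fst ≫ b = (yon S).map snd ≫ g' := (cancel_mono j).1 (by rw [w, Category.assoc, hg'])
  refine IsPullback.of_isLimit' ⟨h1⟩ (PullbackCone.IsLimit.mk _
    (fun x => sq.lift x.fst x.snd (by rw [← Category.assoc, x.condition, Category.assoc, hg']))
    (fun x => sq.lift_fst _ _ _) (fun x => sq.lift_snd _ _ _) (fun x n h₁ h₂ => ?_))
  apply sq.hom_ext <;> simp [h₁, h₂]

/-- The union of finitely many charts. -/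
theorem compactFibres_of_cover {X : Sp S} {U : Over S} [CompactSpace ↥U.left]
    (a : (yon S).obj U ⟶ X)
    (h : ∀ u : ↥U.left, ∃ (A : Over S) (j : A ⟶ U), IsOpenImmersion j.left ∧ u ∈ Set.range j.left ∧
      CompactFibres ((yon S).map j ≫ a)) : CompactFibres a := by
  choose A j hj hu hA using h
  intro K _ str g V fst snd sq
  obtain ⟨t, ht⟩ := isCompact_univ.elim_finite_subcover (fun u => Set.range (j u).left)
    (fun u => by haveI := hj u; exact (j u).left.isOpenEmbedding.isOpen_range)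
    (fun u _ => Set.mem_iUnion.2 ⟨u, hu u⟩)
  refine ⟨?_⟩
  have key : ∀ u, IsCompact ((pre fst).left ⁻¹' Set.range (j u).left) := by
    intro u
    have hpb : IsPullback ((yon S).map (pullback.fst (j u) (pre fst)))
        ((yon S).map (pullback.snd (j u) (pre fst) ≫ snd)) ((yon S).map (j u) ≫ a) g := by
      have h : IsPullback ((yon S).map (pullback.fst (j u) (pre fst)))
          ((yon S).map (pullback.snd (j u) (pre fst))) ((yon S).map (j u)) ((yon S).map (pre fst)) :=
        (IsPullback.of_hasPullback _ _).map (yon S)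
      rw [map_pre] at h
      rw [Functor.map_comp]
      exact h.paste_vert sq
    haveI := hA u K str g _ _ _ hpb
    have sq₂ := (IsPullback.of_hasPullback (j u) (pre fst)).map (Over.forget S)
    have hr : Set.range (pullback.snd (j u) (pre fst)).left = (pre fst).left ⁻¹' Set.range (j u).left := by
      ext v
      constructor
      · rintro ⟨z, rfl⟩
        exact ⟨_, congrArg (fun φ : (pullback (j u) (pre fst)).left ⟶ U.left => φ z) sq₂.w⟩
      · rintro ⟨w, hw⟩
        obtain ⟨z, -, hz⟩ := Scheme.exists_preimage_of_isPullback sq₂ w v hw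
        exact ⟨z, hz⟩
    exact hr ▸ isCompact_range (pullback.snd (j u) (pre fst)).left.continuous
  have : (Set.univ : Set V.left) = ⋃ u ∈ t, (pre fst).left ⁻¹' Set.range (j u).left :=
    (Set.eq_univ_of_forall fun v => by simpa [Set.mem_iUnion] using ht (Set.mem_univ ((pre fst).left v))).symm
  rw [this]
  exact t.finite_toSet.isCompact_biUnion fun u _ => key u

theorem isDecent_of_zarCover {X : Sp S} (hA : IsAlgSpace X) {ι : Type*} {Xi : ι → Sp S}
    {j : ∀ i, Xi i ⟶ X} (hj : ∀ i, RepWith @IsOpenImmersion (j i))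
    (hc : ∀ x, ∃ i, x ∈ Set.range (Points.map (j i))) (hd : ∀ i, IsDecent (Xi i)) : IsDecent X := by
  refine isDecent_of_hasCompactFibres hA fun U a hU ha => haveI := hU
    compactFibres_of_cover a fun u => ?_
  obtain ⟨i, y, hy⟩ := hc (Points.ofPt a u)
  obtain ⟨O, o₁, o₂, sqO⟩ := exists_sq (hj i).1 a
  haveI : IsOpenImmersion o₂.left := (hj i).2 _ _ _ sqO
  obtain ⟨o, -, ho⟩ := exists_point_of_sq sqO y u hy
  obtain ⟨A, jA, a₀, hAa, hjA, ha₀, hr⟩ := exists_affine_chart o ⊤ trivial
  haveI := hjA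
  refine ⟨A, jA ≫ o₂, inferInstanceAs (IsOpenImmersion (jA.left ≫ o₂.left)), ⟨a₀, ?_⟩, ?_⟩
  · rw [← ho, ← ha₀]; rfl
  · rw [show (yon S).map (jA ≫ o₂) ≫ a = ((yon S).map jA ≫ o₁) ≫ j i by simp [sqO.w]]
    haveI := hAa
    exact compactFibres_comp_mono (hj i) (compactFibres_of_isDecent (hd i) _)

/-- An etale surjection from the spectrum of a field to a decent space. -/
theorem exists_iso_spec_field {X : Sp S} (hX : IsDecent X) {k : Type u} [Field k]
    {str : Spec (CommRingCat.of k) ⟶ S} (p : (yon S).obj (Over.mk str) ⟶ X)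
    (hp : RepWith @Etale p) (hs : RepWith @Surjective p) :
    ∃ (k' : Type u) (_ : Field k') (str' : Spec (CommRingCat.of k') ⟶ S)
      (e : (yon S).obj (Over.mk str') ≅ X) (c : Over.mk str ⟶ Over.mk str'),
      (yon S).map c ≫ e.hom = p ∧ IsFinite c.left ∧ Etale c.left := by
  obtain ⟨P, fst, snd, sq⟩ := exists_sq hp.1 p
  haveI : IsAffine (Over.mk str).left := inferInstanceAs (IsAffine (Spec (CommRingCat.of k)))
  haveI := compactFibres_of_isDecent hX p k str p P fst snd sq
  have hfin := (finite_of_compact_fibre hp sq).2.2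
  have sq' : IsPullback ((yon S).map snd) ((yon S).map (pre fst)) p p := by
    rw [map_pre]; exact sq.flip
  obtain ⟨k', _, str', c, q', hm, hcq, hcf, -, -, -, hpb⟩ := FieldRel.exists_mono_factor p sq' hfin
  haveI := hm
  haveI : Epi q' := by
    haveI : Epi ((yon S).map c ≫ q') := hcq.symm ▸ AlgSpLoc.epi_of_repWith hp hs
    exact epi_of_epi ((yon S).map c) q'
  haveI : IsIso q' := isIso_of_mono_of_epi q'
  exact ⟨k', inferInstance, str', asIso q', c, hcq, hcf, hp.2 q' _ c hpb⟩

theorem exists_iso_spec_field_of_reduced {X : Sp S} (hX : IsDecent X)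
    (hr : EtaleLocally (fun U => IsReduced U) X) [Nonempty (Points X)] [Subsingleton (Points X)] :
    ∃ (k : Type u) (_ : Field k) (str : Spec (CommRingCat.of k) ⟶ S),
      Nonempty ((yon S).obj (Over.mk str) ≅ X) := by
  obtain ⟨U, a, ha, hs, hU⟩ := hr
  haveI : IsReduced U.left := hU
  obtain ⟨x⟩ := ‹Nonempty (Points X)›
  obtain ⟨u, rfl⟩ := surjective_ofPt hs x
  obtain ⟨A, hA, huA, -⟩ := exists_isAffineOpen_mem_and_subset (show u ∈ (⊤ : U.left.Opens) from trivial)
  haveI : Finite ↥A := (by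
    have := finite_preimage_point_inter hX ha hA (Points.ofPt a u)
    rw [show Points.ofPt a ⁻¹' {Points.ofPt a u} = Set.univ from
      Set.eq_univ_of_forall fun v => Subsingleton.elim _ _, Set.univ_inter] at this
    exact this.to_subtype)
  haveI : T1Space ↥A := t1Space_iff_specializes_imp_eq.2 fun v w h => Subtype.ext
    (eq_of_specializes_of_isDecent hX ha (u := w.1) (u' := v.1) (Subsingleton.elim _ _)
      (h.map continuous_subtype_val)).symm
  haveI : DiscreteTopology ↥A := inferInstance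
  let B : U.left.Opens := ⟨{u}, by
    simpa using A.2.isOpenMap_subtype_val {⟨u, huA⟩} (isOpen_discrete _)⟩
  let W : Over S := Over.mk (B.ι ≫ U.hom)
  let j : W ⟶ U := Over.homMk B.ι rfl
  haveI : Nonempty ↥W.left := ⟨(⟨u, rfl⟩ : (B : Scheme.{u}))⟩
  haveI hsub : Subsingleton ↥W.left :=
    ⟨fun (v w : (B : Scheme.{u})) => Subtype.ext ((Set.mem_singleton_iff.1 v.2).trans (Set.mem_singleton_iff.1 w.2).symm)⟩
  haveI : IrreducibleSpace ↥W.left := { toNonempty := inferInstance, isPreirreducible_univ := Set.subsingleton_univ.isPreirreducible }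
  haveI : IsReduced W.left := inferInstanceAs (IsReduced (B : Scheme.{u}))
  haveI : IsIntegral W.left := isIntegral_of_irreducibleSpace_of_isReduced _
  haveI : Finite ↥W.left := Finite.of_subsingleton
  haveI : IsAffine W.left := inferInstance
  letI := (isField_of_isIntegral_of_subsingleton W.left).toField
  let str : Spec (CommRingCat.of Γ(W.left, ⊤)) ⟶ S := W.left.isoSpec.inv ≫ W.hom
  let e : Over.mk str ⟶ W := Over.homMk W.left.isoSpec.inv rfl
  have hje : Etale (e ≫ j).left := by
    haveI : Etale e.left := inferInstanceAs (Etale W.left.isoSpec.inv)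
    haveI : Etale j.left := inferInstanceAs (Etale B.ι)
    rw [Over.comp_left]; infer_instance
  have hp : RepWith @Etale ((yon S).map (e ≫ j) ≫ a) := repWith_comp ((repWith_yon_map_iff _ _).2 hje) ha
  have hps : RepWith @Surjective ((yon S).map (e ≫ j) ≫ a) :=
    (surjective_ofPt_iff hp.1).2 fun y => ⟨IsLocalRing.closedPoint _, Subsingleton.elim _ _⟩
  obtain ⟨k', _, str', iso, -⟩ := exists_iso_spec_field hX _ hp hps
  exact ⟨k', inferInstance, str', ⟨iso⟩⟩

end Groth.Agent.AlgSpc
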