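import Groth.Agent.AlgSpLoc.EtLocMore
import Mathlib.AlgebraicGeometry.AlgClosed.Basic
import Mathlib.AlgebraicGeometry.Artinian
import Mathlib.AlgebraicGeometry.Morphisms.FlatMono

/-!
The number of geometric points in the fibres of a separated etale morphism.
-/

universe u

open CategoryTheory CategoryTheory.Limits AlgebraicGeometry

set_option linter.style.haveILetI false
set_option backward.isDefEq.respectTransparency false

namespace Groth.Agent.AlgSpc.EtDegree

/-- The complement of the diagonal of a separated morphism. -/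
def offDiag {R U : Scheme.{u}} (f : R ⟶ U) [IsSeparated f] : (pullback f f).Opens :=
  ⟨(Set.range (pullback.diagonal f))ᶜ, (pullback.diagonal f).isClosedEmbedding.isClosed_range.isOpen_compl⟩

/-- The second projection off the diagonal. -/
noncomputable def offProj {R U : Scheme.{u}} (f : R ⟶ U) [IsSeparated f] :
    (offDiag f : Scheme.{u}) ⟶ R := (offDiag f).ι ≫ pullback.snd f f

instance {R U : Scheme.{u}} (f : R ⟶ U) [IsSeparated f] : IsSeparated (offProj f) := by
  unfold offProj; infer_instance

instance {R U : Scheme.{u}} (f : R ⟶ U) [IsSeparated f] [Etale f] : Etale (offProj f) := by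
  unfold offProj; infer_instance

/-- The points over which a separated morphism has at least `n` geometric points. -/
noncomputable def degSet : ℕ → ∀ {R U : Scheme.{u}} (f : R ⟶ U) [IsSeparated f], Set U
  | 0, _, _, _, _ => Set.univ
  | n + 1, _, _, f, _ => f '' degSet n (offProj f)

theorem isOpen_degSet : ∀ (n : ℕ) {R U : Scheme.{u}} (f : R ⟶ U) [IsSeparated f] [Etale f],
    IsOpen (degSet n f)
  | 0, _, _, _, _, _ => by rw [degSet]; exact isOpen_univ
  | n + 1, _, _, f, _, _ => by rw [degSet]; exact f.isOpenMap _ (isOpen_degSet n (offProj f))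

/-- The lifts of a field valued point. -/
def Lifts {R U : Scheme.{u}} (f : R ⟶ U) {K : Type u} [Field K] (g : Spec (CommRingCat.of K) ⟶ U) :=
  {h : Spec (CommRingCat.of K) ⟶ R // h ≫ f = g}

theorem exists_lift {R U : Scheme.{u}} (f : R ⟶ U) [Etale f] {K : Type u} [Field K] [IsAlgClosed K]
    (g : Spec (CommRingCat.of K) ⟶ U) (r : R) (hr : f r = g (IsLocalRing.closedPoint K)) :
    ∃ h : Lifts f g, h.1 (IsLocalRing.closedPoint K) = r := by
  obtain ⟨z, hz, -⟩ := Scheme.exists_preimage_of_isPullback (IsPullback.of_hasPullback f g) r _ hr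
  haveI : LocallyQuasiFinite (pullback.snd f g) := AlgSpLoc.locallyQuasiFinite_of_etale _
  haveI : IsLocallyArtinian (Spec (CommRingCat.of K)) :=
    (Scheme.isLocallyArtinianScheme_Spec (R := CommRingCat.of K)).2 (inferInstanceAs (IsArtinianRing K))
  haveI : IsLocallyArtinian ↑(pullback f g) := IsLocallyArtinian.of_locallyQuasiFinite (pullback.snd f g)
  refine ⟨⟨pointOfClosedPoint (pullback.snd f g) z (isClosed_discrete _) ≫ pullback.fst f g, ?_⟩, ?_⟩
  · rw [Category.assoc, pullback.condition, pointOfClosedPoint_comp_assoc]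
  · rw [Scheme.Hom.comp_apply, pointOfClosedPoint_apply, hz]

theorem mem_range_of_lift {R U : Scheme.{u}} {f : R ⟶ U} {K : Type u} [Field K]
    {g : Spec (CommRingCat.of K) ⟶ U} (h : Lifts f g) :
    f (h.1 (IsLocalRing.closedPoint K)) = g (IsLocalRing.closedPoint K) := by
  rw [← Scheme.Hom.comp_apply, h.2]

/-- Points over which the degree is at least `n` have `n` geometric lifts. -/
theorem exists_lifts : ∀ (n : ℕ) {R U : Scheme.{u}} (f : R ⟶ U) [IsSeparated f] [Etale f]
    {K : Type u} [Field K] [IsAlgClosed K] (g : Spec (CommRingCat.of K) ⟶ U),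
    g (IsLocalRing.closedPoint K) ∈ degSet n f → ∃ l : Fin n → Lifts f g, Function.Injective l
  | 0, _, _, _, _, _, _, _, _, _, _ => ⟨Fin.elim0, fun i => i.elim0⟩
  | n + 1, R, U, f, _, _, K, _, _, g, hg => by
    rw [degSet] at hg
    obtain ⟨r, hr, hfr⟩ := hg
    obtain ⟨h₀, hh₀⟩ := exists_lift f g r hfr
    obtain ⟨l, hl⟩ := exists_lifts n (offProj f) h₀.1 (hh₀ ▸ hr)
    let m : Fin n → Lifts f g := fun i => ⟨(l i).1 ≫ (offDiag f).ι ≫ pullback.fst f f, by
      have h := (l i).2
      simp only [offProj] at h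
      rw [Category.assoc, Category.assoc, pullback.condition, reassoc_of% h]
      exact h₀.2⟩
    refine ⟨Fin.cons h₀ m, Fin.cons_injective_iff.2 ⟨?_, fun i j hij => ?_⟩⟩
    · rintro ⟨i, hi⟩
      have h1 : (l i).1 ≫ (offDiag f).ι = h₀.1 ≫ pullback.diagonal f := by
        apply pullback.hom_ext
        · rw [Category.assoc, Category.assoc, pullback.diagonal_fst, Category.comp_id]
          exact congrArg Subtype.val hi
        · rw [Category.assoc, Category.assoc, pullback.diagonal_snd, Category.comp_id]
          exact (l i).2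
      have h2 := ((l i).1 (IsLocalRing.closedPoint K)).2
      refine h2 ⟨h₀.1 (IsLocalRing.closedPoint K), ?_⟩
      rw [← Scheme.Hom.comp_apply, ← h1]
      rfl
    · refine hl (Subtype.ext ((cancel_mono (offDiag f).ι).1 (pullback.hom_ext ?_ ?_)))
      · simpa [m] using congrArg Subtype.val hij
      · rw [Category.assoc, Category.assoc]
        exact ((l i).2).trans ((l j).2).symm

/-- Distinct lifts to a field force the degree. -/
theorem mem_degSet : ∀ (n : ℕ) {R U : Scheme.{u}} (f : R ⟶ U) [IsSeparated f]
    {K : Type u} [Field K] (g : Spec (CommRingCat.of K) ⟶ U) (l : Fin n → Lifts f g),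
    Function.Injective l → g (IsLocalRing.closedPoint K) ∈ degSet n f
  | 0, _, _, _, _, _, _, _, _, _ => by rw [degSet]; trivial
  | n + 1, R, U, f, _, K, _, g, l, hl => by
    rw [degSet]
    let z : Fin n → (Spec (CommRingCat.of K) ⟶ pullback f f) := fun i =>
      pullback.lift (l i.succ).1 (l 0).1 ((l i.succ).2.trans (l 0).2.symm)
    have hz : ∀ i, Set.range (z i) ⊆ (offDiag f : Set ↑(pullback f f)) := by
      rintro i _ ⟨p, rfl⟩ ⟨r, hr⟩
      obtain ⟨e, -, -⟩ := Scheme.exists_preimage_of_isPullback
        (IsPullback.of_hasPullback (pullback.diagonal f) (z i)) r p hr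
      haveI : Surjective (pullback.snd (pullback.diagonal f) (z i)) :=
        ⟨fun y => ⟨e, @Subsingleton.elim (PrimeSpectrum K) _ _ _⟩⟩
      haveI : IsReduced (Spec (CommRingCat.of K)) := inferInstance
      haveI := isIso_of_isClosedImmersion_of_surjective (pullback.snd (pullback.diagonal f) (z i))
      have hfac : inv (pullback.snd (pullback.diagonal f) (z i)) ≫
          pullback.fst (pullback.diagonal f) (z i) ≫ pullback.diagonal f = z i := by
        rw [pullback.condition, IsIso.inv_hom_id_assoc]
      have h1 := congrArg (· ≫ pullback.fst f f) hfac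
      have h2 := congrArg (· ≫ pullback.snd f f) hfac
      simp only [Category.assoc, pullback.diagonal_fst, pullback.diagonal_snd, Category.comp_id,
        z, pullback.lift_fst, pullback.lift_snd] at h1 h2
      exact Fin.succ_ne_zero i (hl (Subtype.ext (h1.symm.trans h2)))
    let w : Fin n → Lifts (offProj f) (l 0).1 := fun i =>
      ⟨IsOpenImmersion.lift (offDiag f).ι (z i) (by rw [Scheme.Opens.range_ι]; exact hz i), by
        rw [offProj, IsOpenImmersion.lift_fac_assoc, pullback.lift_snd]⟩
    have hw : Function.Injective w := by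
      intro i j h
      have h' := congrArg (fun x : Lifts (offProj f) (l 0).1 => x.1 ≫ (offDiag f).ι ≫ pullback.fst f f) h
      simp only [w, IsOpenImmersion.lift_fac_assoc, z, pullback.lift_fst] at h'
      exact Fin.succ_injective _ (hl (Subtype.ext h'))
    exact ⟨_, mem_degSet n (offProj f) (l 0).1 w hw, mem_range_of_lift (l 0)⟩

theorem finite_lifts {R U V : Scheme.{u}} {f : R ⟶ U} [IsSeparated f] [Etale f] {K : Type u} [Field K]
    {g : Spec (CommRingCat.of K) ⟶ U} {v₁ : V ⟶ R} {v₂ : V ⟶ Spec (CommRingCat.of K)}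
    (sq : IsPullback v₁ v₂ f g) [Finite ↥V] : Finite (Lifts f g) := by
  let s : Lifts f g → (Spec (CommRingCat.of K) ⟶ V) := fun h =>
    sq.lift h.1 (𝟙 _) (by rw [Category.id_comp]; exact h.2)
  have hs : ∀ h, s h ≫ v₂ = 𝟙 _ := fun h => sq.lift_snd _ _ _
  haveI : Etale v₂ := MorphismProperty.of_isPullback (P := @Etale) sq ‹_›
  refine Finite.of_injective (fun h => s h (IsLocalRing.closedPoint K)) fun h h' e => ?_
  haveI : ∀ h, IsOpenImmersion (s h) := fun h => by
    haveI : IsSplitMono (s h) := ⟨⟨⟨v₂, hs h⟩⟩⟩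
    haveI : Etale (s h ≫ v₂) := by rw [hs h]; infer_instance
    haveI : Etale (s h) := Etale.of_comp (s h) v₂
    exact IsOpenImmersion.of_flat_of_mono (s h)
  have hr : Set.range (s h) = Set.range (s h') := by
    rw [Set.range_eq_singleton_iff.2 fun p => congrArg (s h) (@Subsingleton.elim (PrimeSpectrum K) _ p _),
      Set.range_eq_singleton_iff.2 fun p => congrArg (s h') (@Subsingleton.elim (PrimeSpectrum K) _ p _)]
    exact congrArg _ e
  let θ := IsOpenImmersion.lift (s h') (s h) hr.le
  have hθ : θ ≫ s h' = s h := IsOpenImmersion.lift_fac _ _ _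
  have hθ' : θ = 𝟙 _ := by
    have := congrArg (· ≫ v₂) hθ
    simpa [hs] using this
  rw [hθ', Category.id_comp] at hθ
  refine Subtype.ext ?_
  have := congrArg (· ≫ v₁) hθ
  simpa [s] using this.symm

end Groth.Agent.AlgSpc.EtDegree
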