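import Groth.Agent.AlgSpc.Decent2
import Groth.Agent.AlgSpc.EtDegree
import Groth.Agent.FlatMorLib.MaxPoints
import Mathlib.AlgebraicGeometry.IdealSheaf.Subscheme
import Mathlib.FieldTheory.IsAlgClosed.AlgebraicClosure

/-!
The space of points of a decent algebraic space is quasi-sober.
-/

universe u

open CategoryTheory CategoryTheory.Limits AlgebraicGeometry Opposite

set_option linter.style.haveILetI false
set_option backward.isDefEq.respectTransparency false

namespace Groth.Agent.AlgSpc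

open _root_.AlgSp

/-- A closed set of the spectrum of a ring which is a union of countably many relatively closed
sets `T \ D n` has one of them with interior. -/
theorem exists_open_of_forall_notMem {A : Type u} [CommRing A] {T : Set (PrimeSpectrum A)}
    (hT : IsClosed T) (hne : T.Nonempty) (D : ℕ → Set (PrimeSpectrum A)) (hD : ∀ n, IsOpen (D n))
    (h : ∀ t ∈ T, ∃ n, t ∉ D n) :
    ∃ (n : ℕ) (O : Set (PrimeSpectrum A)), IsOpen O ∧ (O ∩ T).Nonempty ∧ O ∩ T ∩ D n = ∅ := by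
  by_contra! hc
  obtain ⟨I, rfl⟩ := (PrimeSpectrum.isClosed_iff_zeroLocus_ideal T).1 hT
  let Good : A → Prop := fun g => ∃ p ∈ PrimeSpectrum.zeroLocus (I : Set A), g ∉ p.asIdeal
  have step : ∀ (n : ℕ) (g : A), Good g → ∃ g', Good g' ∧ g ∣ g' ∧ ∀ p : PrimeSpectrum A, g' ∉ p.asIdeal → p ∈ D n := by
    intro n g ⟨p, hp, hg⟩
    obtain ⟨q, ⟨hqg, hqT⟩, hqD⟩ := hc n (PrimeSpectrum.basicOpen g : Set _)
      (PrimeSpectrum.basicOpen g).2 ⟨p, hg, hp⟩
    obtain ⟨_, ⟨f, rfl⟩, hqf, hfD⟩ :=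
      PrimeSpectrum.isTopologicalBasis_basic_opens.exists_subset_of_mem_open hqD (hD n)
    exact ⟨g * f, ⟨q, hqT, fun hm => (q.2.mem_or_mem hm).elim hqg hqf⟩, dvd_mul_right g f,
      fun p hp' => hfD fun hm => hp' (p.asIdeal.mul_mem_left g hm)⟩
  choose! next hnext₁ hnext₂ hnext₃ using step
  obtain ⟨p₀, hp₀⟩ := hne
  let seq : ℕ → A := fun n => Nat.rec (1 : A) (fun m g => next m g) n
  have hseq : ∀ n, Good (seq n) := fun n => by
    induction n with
    | zero => exact ⟨p₀, hp₀, fun h1 => p₀.2.ne_top ((Ideal.eq_top_iff_one _).2 h1)⟩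
    | succ m ih => exact hnext₁ m _ ih
  have hmono : ∀ {i j}, i ≤ j → seq i ∣ seq j := fun {i j} hij => by
    induction hij with
    | refl => exact dvd_rfl
    | step _ ih => exact ih.trans (hnext₂ _ _ (hseq _))
  let S := Submonoid.closure (Set.range seq)
  have hS : ∀ x ∈ S, ∃ N k : ℕ, x ∣ seq N ^ k := fun x hx => by
    induction hx using Submonoid.closure_induction with
    | mem x hx => obtain ⟨n, rfl⟩ := hx; exact ⟨n, 1, by simp⟩
    | one => exact ⟨0, 0, by simp⟩
    | mul x y _ _ hx hy =>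
      obtain ⟨N, k, hk⟩ := hx
      obtain ⟨M, l, hl⟩ := hy
      refine ⟨max N M, k + l, ?_⟩
      rw [pow_add]
      exact mul_dvd_mul (hk.trans (pow_dvd_pow_of_dvd (hmono (le_max_left N M)) k))
        (hl.trans (pow_dvd_pow_of_dvd (hmono (le_max_right N M)) l))
  obtain ⟨P, hP, hIP, hdis⟩ := Ideal.exists_le_prime_disjoint I S (Set.disjoint_left.2 fun x hxI hxS => by
    obtain ⟨N, k, d, hd⟩ := hS x hxS
    obtain ⟨p, hp, hg⟩ := hseq N
    exact hg (p.2.mem_of_pow_mem k (hd ▸ p.asIdeal.mul_mem_right d (hp hxI))))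
  obtain ⟨n, hn⟩ := h ⟨P, hP⟩ hIP
  exact hn (hnext₃ n _ (hseq n) ⟨P, hP⟩ fun hm =>
    Set.disjoint_left.1 hdis hm (Submonoid.subset_closure ⟨n + 1, rfl⟩))

theorem exists_open_of_forall_notMem' {U : Scheme.{u}} [IsAffine U] {T : Set U}
    (hT : IsClosed T) (hne : T.Nonempty) (D : ℕ → Set U) (hD : ∀ n, IsOpen (D n))
    (h : ∀ t ∈ T, ∃ n, t ∉ D n) :
    ∃ (n : ℕ) (O : Set U), IsOpen O ∧ (O ∩ T).Nonempty ∧ O ∩ T ∩ D n = ∅ := by
  let φ : ↥U ≃ₜ PrimeSpectrum Γ(U, ⊤) := Scheme.homeoOfIso U.isoSpec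
  obtain ⟨t, ht⟩ := hne
  obtain ⟨n, O, hO, ⟨p, hp⟩, he⟩ := exists_open_of_forall_notMem (T := φ.symm ⁻¹' T)
    (hT.preimage φ.symm.continuous) ⟨φ t, by simpa using ht⟩ (fun n => φ.symm ⁻¹' D n)
    (fun n => (hD n).preimage φ.symm.continuous) (fun p hp => h _ hp)
  refine ⟨n, φ ⁻¹' O, hO.preimage φ.continuous, ⟨φ.symm p, by simpa using hp.1, hp.2⟩, ?_⟩
  refine Set.eq_empty_of_forall_notMem fun x ⟨⟨hxO, hxT⟩, hxD⟩ => ?_
  exact Set.notMem_empty (φ x) (he ▸ ⟨⟨hxO, by simpa using hxT⟩, by simpa using hxD⟩)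

variable {S : Scheme.{u}}

theorem geomPoint_apply {X : Scheme.{u}} (x : X) {K : Type u} [Field K] (φ : X.residueField x ⟶ CommRingCat.of K) :
    (Spec.map φ ≫ X.fromSpecResidueField x) (IsLocalRing.closedPoint K) = x :=
  (Scheme.Hom.comp_apply _ _ _).trans (Scheme.fromSpecResidueField_apply x _)

theorem isSeparated_of_isAffine_source {X : Scheme.{u}} [IsAffine X] (f : X ⟶ S) : IsSeparated f :=
  haveI : IsSeparated (f ≫ terminal.from S) := by rw [terminal.comp_from]; infer_instance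
  IsSeparated.of_comp f (terminal.from S)

theorem isSeparated_kernelPair {X : Sp S} {U U' : Over S} [IsAffine U.left] {a : (yon S).obj U ⟶ X}
    {a' : (yon S).obj U' ⟶ X} {W : Over S} {fst : (yon S).obj W ⟶ (yon S).obj U} {snd : W ⟶ U'}
    (sq : IsPullback fst ((yon S).map snd) a a') : IsSeparated snd.left := by
  haveI := isSeparated_of_isAffine_source (S := S) U.hom
  let l : W.left ⟶ pullback U.hom U'.hom := pullback.lift (pre fst).left snd.left
    ((Over.w (pre fst)).trans (Over.w snd).symm)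
  haveI : Mono l := ⟨fun {Z} b c h => by
    have hb₁ : b ≫ (pre fst).left = c ≫ (pre fst).left := by
      simpa [l] using congrArg (· ≫ pullback.fst _ _) h
    have hb₂ : b ≫ snd.left = c ≫ snd.left := by
      simpa [l] using congrArg (· ≫ pullback.snd _ _) h
    have hw : b ≫ W.hom = c ≫ W.hom := by rw [← Over.w snd, ← Category.assoc, hb₂, Category.assoc]
    let b' : Over.mk (b ≫ W.hom) ⟶ W := Over.homMk b rfl
    let c' : Over.mk (b ≫ W.hom) ⟶ W := Over.homMk c hw.symm
    have e₁ : b' ≫ pre fst = c' ≫ pre fst := Over.OverMorphism.ext hb₁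
    have : b' = c' := (yon S).map_injective (sq.hom_ext
      (by rw [← map_pre fst, ← Functor.map_comp, ← Functor.map_comp, e₁])
      (by rw [← Functor.map_comp, ← Functor.map_comp]; exact congrArg (yon S).map (Over.OverMorphism.ext hb₂)))
    exact congrArg CommaMorphism.left this⟩
  rw [show snd.left = l ≫ pullback.snd _ _ by simp [l]]
  infer_instance

/-- Over a nonempty open of a closed subset of an affine chart of a decent space, the fibres of the
equivalence relation stay in a quasi-compact open. -/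
theorem exists_open_qc_fibres {X : Sp S} (hX : IsDecent X) {U₁ : Over S} [IsAffine U₁.left]
    {a₁ : (yon S).obj U₁ ⟶ X} (ha : RepWith @Etale a₁) {U : Over S} [IsAffine U.left]
    {a : (yon S).obj U ⟶ X} {W : Over S}
    {fst : (yon S).obj W ⟶ (yon S).obj U₁} {snd : W ⟶ U}
    (sq : IsPullback fst ((yon S).map snd) a₁ a) {T : Set U.left} (hT : IsClosed T) (hne : T.Nonempty) :
    ∃ (N : Set U.left) (R' : W.left.Opens), IsOpen N ∧ (N ∩ T).Nonempty ∧ IsCompact (R' : Set W.left) ∧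
      ∀ r : W.left, snd.left r ∈ N ∩ T → r ∈ R' := by
  haveI := isSeparated_kernelPair sq
  haveI : Etale snd.left := ha.2 _ _ _ sq
  have hfin : ∀ (K : Type u) [Field K] (g : Spec (CommRingCat.of K) ⟶ U.left),
      Finite (EtDegree.Lifts snd.left g) := by
    intro K _ g
    let κ : Over.mk (g ≫ U.hom) ⟶ U := Over.homMk g rfl
    have h : IsPullback ((yon S).map (pullback.fst snd κ) ≫ fst) ((yon S).map (pullback.snd snd κ))
        a₁ ((yon S).map κ ≫ a) := ((IsPullback.of_hasPullback snd κ).map (yon S)).paste_horiz sq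
    haveI := compactFibres_of_isDecent hX a₁ K _ _ _ _ _ h
    haveI := (finite_of_compact_fibre ha h).1
    exact EtDegree.finite_lifts (V := (pullback snd κ).left) ((IsPullback.of_hasPullback snd κ).map (Over.forget S))
  have hbound : ∀ t ∈ T, ∃ n, t ∉ EtDegree.degSet n snd.left := by
    intro t _
    let K := AlgebraicClosure (U.left.residueField t)
    let g : Spec (CommRingCat.of K) ⟶ U.left :=
      Spec.map (CommRingCat.ofHom (algebraMap (U.left.residueField t) K)) ≫ U.left.fromSpecResidueField t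
    haveI := hfin K g
    refine ⟨Nat.card (EtDegree.Lifts snd.left g) + 1, fun hm => ?_⟩
    have hg : g (IsLocalRing.closedPoint K) = t := geomPoint_apply t _
    obtain ⟨l, hl⟩ := EtDegree.exists_lifts (Nat.card (EtDegree.Lifts snd.left g) + 1) snd.left g
      ((congrArg (· ∈ EtDegree.degSet _ snd.left) hg).mpr hm)
    have := Nat.card_le_card_of_injective l hl
    simp at this
  obtain ⟨n₁, O₁, hO₁, hO₁T, he₁⟩ := exists_open_of_forall_notMem' hT hne
    (fun n => EtDegree.degSet n snd.left) (fun n => EtDegree.isOpen_degSet n _) hbound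
  classical
  have hex : ∃ n, ∃ O : Set U.left, IsOpen O ∧ (O ∩ T).Nonempty ∧
      O ∩ T ∩ EtDegree.degSet n snd.left = ∅ := ⟨n₁, O₁, hO₁, hO₁T, he₁⟩
  obtain ⟨O, hO, hOT, he⟩ := Nat.find_spec hex
  obtain ⟨m, hm⟩ : ∃ m, Nat.find hex = m + 1 := by
    refine Nat.exists_eq_succ_of_ne_zero fun h0 => ?_
    rw [h0, EtDegree.degSet, Set.inter_univ] at he
    exact hOT.ne_empty he
  rw [hm] at he
  obtain ⟨t, ⟨htO, htT⟩, htm⟩ : (O ∩ T ∩ EtDegree.degSet m snd.left).Nonempty :=
    Set.nonempty_iff_ne_empty.2 fun h' =>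
      Nat.find_min hex (by omega : m < Nat.find hex) ⟨O, hO, hOT, h'⟩
  -- a quasi-compact open containing the fibre over `t`
  obtain ⟨R', hR'c, hR'⟩ : ∃ R' : W.left.Opens, IsCompact (R' : Set W.left) ∧
      ∀ r : W.left, snd.left r = t → r ∈ R' := by
    let κ : Over.mk (U.left.fromSpecResidueField t ≫ U.hom) ⟶ U :=
      Over.homMk (U.left.fromSpecResidueField t) rfl
    have h : IsPullback ((yon S).map (pullback.fst snd κ) ≫ fst) ((yon S).map (pullback.snd snd κ))
        a₁ ((yon S).map κ ≫ a) := ((IsPullback.of_hasPullback snd κ).map (yon S)).paste_horiz sq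
    haveI := compactFibres_of_isDecent hX a₁ (U.left.residueField t) _ _ _ _ _ h
    haveI := (finite_of_compact_fibre (K := U.left.residueField t) ha h).1
    have hb : ∀ r : W.left, ∃ V : W.left.Opens, IsAffineOpen V ∧ r ∈ V := fun r => by
      obtain ⟨V, hV, hr, -⟩ := exists_isAffineOpen_mem_and_subset (show r ∈ (⊤ : W.left.Opens) from trivial)
      exact ⟨V, hV, hr⟩
    choose V hV hrV using hb
    have hfinE : (snd.left ⁻¹' {t}).Finite := by
      refine (Set.finite_range (pullback.fst snd κ).left).subset fun r hr => ?_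
      obtain ⟨z, hz, -⟩ := Scheme.exists_preimage_of_isPullback
        ((IsPullback.of_hasPullback snd κ).map (Over.forget S)) r (IsLocalRing.closedPoint (U.left.residueField t))
        (hr.trans (Scheme.fromSpecResidueField_apply t _).symm)
      exact ⟨z, hz⟩
    refine ⟨⨆ r ∈ hfinE.toFinset, V r, ?_, fun r hr => ?_⟩
    · simp only [TopologicalSpace.Opens.iSup_mk, TopologicalSpace.Opens.coe_mk]
      exact hfinE.toFinset.finite_toSet.isCompact_biUnion fun r _ => (hV r).isCompact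
    · exact TopologicalSpace.Opens.mem_iSup.2 ⟨r, TopologicalSpace.Opens.mem_iSup.2
        ⟨hfinE.mem_toFinset.2 hr, hrV r⟩⟩
  let fR := R'.ι ≫ snd.left
  haveI : IsSeparated fR := inferInstance
  haveI : Etale fR := inferInstance
  refine ⟨O ∩ EtDegree.degSet m fR, R', hO.inter (EtDegree.isOpen_degSet m fR), ⟨t, ⟨htO, ?_⟩, htT⟩,
    hR'c, fun r ⟨⟨hrO, hrD⟩, hrT⟩ => ?_⟩
  · let K := AlgebraicClosure (U.left.residueField t)
    let g : Spec (CommRingCat.of K) ⟶ U.left :=
      Spec.map (CommRingCat.ofHom (algebraMap (U.left.residueField t) K)) ≫ U.left.fromSpecResidueField t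
    have hg : g (IsLocalRing.closedPoint K) = t := geomPoint_apply t _
    obtain ⟨l, hl⟩ := EtDegree.exists_lifts m snd.left g (hg.symm ▸ htm)
    have hmem : ∀ i, Set.range (l i).1 ⊆ Set.range R'.ι := by
      rintro i _ ⟨p, rfl⟩
      rw [Scheme.Opens.range_ι]
      rw [@Subsingleton.elim (PrimeSpectrum K) _ p (IsLocalRing.closedPoint K)]
      exact hR' _ ((EtDegree.mem_range_of_lift (l i)).trans hg)
    let l' : Fin m → EtDegree.Lifts fR g := fun i =>
      ⟨IsOpenImmersion.lift R'.ι (l i).1 (hmem i), by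
        rw [IsOpenImmersion.lift_fac_assoc]; exact (l i).2⟩
    rw [← hg]
    refine EtDegree.mem_degSet m fR g l' fun i j h => hl (Subtype.ext ?_)
    simpa [l', IsOpenImmersion.lift_fac] using congrArg (fun x : EtDegree.Lifts fR g => x.1 ≫ R'.ι) h
  · by_contra hr
    let t' := snd.left r
    let K := AlgebraicClosure (U.left.residueField t')
    let g : Spec (CommRingCat.of K) ⟶ U.left :=
      Spec.map (CommRingCat.ofHom (algebraMap (U.left.residueField t') K)) ≫ U.left.fromSpecResidueField t'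
    have hg : g (IsLocalRing.closedPoint K) = t' := geomPoint_apply t' _
    obtain ⟨l, hl⟩ := EtDegree.exists_lifts m fR g (hg.symm ▸ hrD)
    obtain ⟨h₀, hh₀⟩ := EtDegree.exists_lift snd.left g r hg.symm
    let l' : Fin (m + 1) → EtDegree.Lifts snd.left g := Fin.cons h₀ fun i =>
      ⟨(l i).1 ≫ R'.ι, by rw [Category.assoc]; exact (l i).2⟩
    have hl' : Function.Injective l' := by
      refine Fin.cons_injective_iff.2 ⟨?_, fun i j h => hl (Subtype.ext ((cancel_mono R'.ι).1 (congrArg Subtype.val h)))⟩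
      rintro ⟨i, hi⟩
      refine hr ?_
      rw [← hh₀, ← hi, Scheme.Hom.comp_apply]
      exact ((l i).1 _).2
    have := EtDegree.mem_degSet (m + 1) snd.left g l' hl'
    rw [hg] at this
    have hmem : t' ∈ O ∩ T ∩ EtDegree.degSet (m + 1) snd.left := ⟨⟨hrO, hrT⟩, this⟩
    rw [he] at hmem
    exact hmem

theorem quasiSober_of_isDecent {X : Sp S} (hA : IsAlgSpace X) (hX : IsDecent X) :
    QuasiSober (Points X) := by
  refine ⟨fun {Z} hZ hZc => ?_⟩
  obtain ⟨x, hx⟩ := hZ.1
  obtain ⟨U₀, a₀, ha₀, hs₀⟩ := hA.atlas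
  obtain ⟨u₀, rfl⟩ := surjective_ofPt hs₀ x
  obtain ⟨U, j, u, hUa, hj, hju, -⟩ := exists_affine_chart u₀ ⊤ trivial
  haveI := hUa; haveI := hj
  obtain ⟨a, ha, hau⟩ : ∃ a : (yon S).obj U ⟶ X, RepWith @Etale a ∧ Points.ofPt a u ∈ Z :=
    ⟨(yon S).map j ≫ a₀, repWith_comp ((repWith_yon_map_iff _ j).2 (inferInstance : Etale j.left)) ha₀,
      by rw [ofPt_comp, hju]; exact hx⟩
  obtain ⟨W, fst, snd, sq⟩ := exists_sq ha.1 a
  let T : Set U.left := Points.ofPt a ⁻¹' Z
  have hTc : IsClosed T := hZc.preimage (Points.continuous_ofPt a)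
  obtain ⟨N, R', hN, ⟨t₀, ht₀N, ht₀T⟩, hR'c, hR'⟩ := exists_open_qc_fibres hX ha sq hTc ⟨u, hau⟩
  haveI : QuasiSober ↥T := (hTc.isClosedEmbedding_subtypeVal).quasiSober
  obtain ⟨⟨t₁, ht₁T⟩, ht₁, hmax₁⟩ := FlatMorLib.exists_maximal_generization (⟨t₀, ht₀T⟩ : T)
  have ht₁N : t₁ ∈ N := (ht₁.map continuous_subtype_val).mem_open hN ht₀N
  -- all maximal points of `T` have the same image
  have key : ∀ t₂ : T, (∀ v : T, v ⤳ t₂ → v = t₂) → Points.ofPt a t₂.1 = Points.ofPt a t₁ := by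
    rintro ⟨t₂, ht₂T⟩ hmax₂
    by_contra hne
    have hfin : (Points.ofPt a ⁻¹' {Points.ofPt a t₁}).Finite :=
      finite_preimage_point ha (compactFibres_of_isDecent hX a) _
    have hO : ∀ v ∈ Points.ofPt a ⁻¹' {Points.ofPt a t₁}, ∃ O : Set U.left, IsOpen O ∧ t₂ ∈ O ∧ v ∉ O := by
      intro v hv
      by_contra! h
      have hs : v ⤳ t₂ := specializes_iff_forall_open.2 h
      have hvT : v ∈ T := by change Points.ofPt a v ∈ Z; rw [show Points.ofPt a v = _ from hv]; exact ht₁T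
      have := congrArg Subtype.val (hmax₂ ⟨v, hvT⟩ ((subtype_specializes_iff _ _).2 hs))
      exact hne (by rw [← this]; exact hv)
    choose! O hO₁ hO₂ hO₃ using hO
    obtain ⟨V₂, hV₂, ht₂V, hV₂O⟩ := exists_isAffineOpen_mem_and_subset
      (show t₂ ∈ (⟨⋂ v ∈ Points.ofPt a ⁻¹' {Points.ofPt a t₁}, O v, hfin.isOpen_biInter hO₁⟩ : U.left.Opens)
        from Set.mem_iInter₂.2 hO₂)
    let R'' : Scheme.{u} := R'
    haveI : CompactSpace ↥R'' := isCompact_iff_compactSpace.1 hR'c
    haveI : QuasiCompact (R'.ι ≫ (pre fst).left) := quasiCompact_of_compactSpace _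
    let C : Set R'' := (R'.ι ≫ (pre fst).left) ⁻¹' (V₂ : Set U.left)
    have hCc : IsCompact C := (R'.ι ≫ (pre fst).left).isCompact_preimage hV₂.isCompact
    let O₂ : R''.Opens := ⟨C, V₂.2.preimage (R'.ι ≫ (pre fst).left).continuous⟩
    haveI : CompactSpace ↥(O₂ : Scheme.{u}) := isCompact_iff_compactSpace.1 hCc
    let f := O₂.ι ≫ R'.ι ≫ snd.left
    let C' : TopologicalSpace.Closeds ↥(O₂ : Scheme.{u}) := ⟨f ⁻¹' T, hTc.preimage f.continuous⟩
    let I := Scheme.IdealSheafData.vanishingIdeal C'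
    haveI : CompactSpace ↥I.subscheme := QuasiCompact.compactSpace_of_compactSpace I.subschemeι
    haveI : QuasiCompact (I.subschemeι ≫ f) := quasiCompact_of_compactSpace _
    have hIr : Set.range I.subschemeι = f ⁻¹' T := by
      rw [Scheme.IdealSheafData.range_subschemeι, Scheme.IdealSheafData.coe_support_vanishingIdeal]
      rfl
    have hcl : t₁ ∈ closure (Set.range (I.subschemeι ≫ f)) := by
      refine mem_closure_iff.2 fun V₁ hV₁ ht₁V => ?_
      have hne₁ : (Z ∩ Points.ofPt a '' (V₁ ∩ N)).Nonempty := ⟨_, ht₁T, t₁, ⟨ht₁V, ht₁N⟩, rfl⟩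
      have hne₂ : (Z ∩ Points.ofPt a '' (V₂ : Set U.left)).Nonempty := ⟨_, ht₂T, t₂, ht₂V, rfl⟩
      obtain ⟨z, hzZ, ⟨v₁, hv₁, rfl⟩, v₂, hv₂, hv⟩ := hZ.2 _ _ (isOpenMap_ofPt ha _ (hV₁.inter hN))
        (isOpenMap_ofPt ha _ V₂.2) hne₁ hne₂
      obtain ⟨r, hr₁, hr₂⟩ := exists_point_of_sq sq (Points.ofScheme U v₂) v₁
        (by rw [← Points.ofPt_eq_map_ofScheme]; exact hv)
      have hr₁' : (pre fst).left r = v₂ := by
        have := congrArg (Points.toScheme U) hr₁
        rwa [← map_pre fst, Points.toScheme_ofPt, Points.toScheme_ofScheme] at this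
      have hv₁T : v₁ ∈ T := hzZ
      have hrR : r ∈ R' := hR' r (by rw [hr₂]; exact ⟨hv₁.2, hv₁T⟩)
      let o : (O₂ : Scheme.{u}) := ⟨⟨r, hrR⟩, by
        change (R'.ι ≫ (pre fst).left) (⟨r, hrR⟩ : R'') ∈ (V₂ : Set U.left)
        rw [Scheme.Hom.comp_apply]
        exact hr₁'.symm ▸ hv₂⟩
      have hof : f o = v₁ := hr₂
      have hoT : o ∈ Set.range I.subschemeι := by rw [hIr]; change f o ∈ T; rw [hof]; exact hv₁T
      obtain ⟨c, hc⟩ := hoT
      exact ⟨v₁, hv₁.1, c, by rw [Scheme.Hom.comp_apply, hc, hof]⟩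
    obtain ⟨c, hc⟩ := FpqcDescent.exists_specializes_of_mem_closure_range (I.subschemeι ≫ f) hcl
    have hcT : (I.subschemeι ≫ f) c ∈ T := by
      rw [Scheme.Hom.comp_apply]
      exact (Set.ext_iff.1 hIr _).1 ⟨c, rfl⟩
    have hceq : (I.subschemeι ≫ f) c = t₁ :=
      congrArg Subtype.val (hmax₁ ⟨_, hcT⟩ ((subtype_specializes_iff _ _).2 hc))
    let o := I.subschemeι c
    let v := (pre fst).left (R'.ι (O₂.ι o))
    have hvV : v ∈ V₂ := o.2
    have hva : v ∈ Points.ofPt a ⁻¹' {Points.ofPt a t₁} := by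
      have h₁ := ofPt_comp (pre fst) a (R'.ι (O₂.ι o))
      rw [map_pre, sq.w, ofPt_comp] at h₁
      rw [Set.mem_preimage, Set.mem_singleton_iff]
      exact h₁.symm.trans (congrArg _ hceq)
    exact hO₃ v hva (Set.mem_iInter₂.1 (hV₂O hvV) v hva)
  refine ⟨Points.ofPt a t₁, subset_antisymm (closure_minimal (Set.singleton_subset_iff.2 ht₁T) hZc) ?_⟩
  refine (subset_closure_inter_of_isPreirreducible_of_isOpen hZ.2 (isOpenMap_ofPt ha _ isOpen_univ)
    ⟨_, hau, u, trivial, rfl⟩).trans (closure_minimal ?_ isClosed_closure)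
  rintro _ ⟨htZ, t, -, rfl⟩
  obtain ⟨⟨t₂, ht₂T⟩, hs, hmax₂⟩ := FlatMorLib.exists_maximal_generization (⟨t, htZ⟩ : T)
  rw [← key _ hmax₂]
  exact specializes_iff_mem_closure.1 ((hs.map continuous_subtype_val).map (Points.continuous_ofPt a))

end Groth.Agent.AlgSpc
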