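import Groth.Agent.AlgSpLoc.AffineMor
import Groth.Agent.AlgSpLoc.OpenImm
import Groth.Agent.AlgSpLoc.Diag
import Groth.Agent.AlgSpc.SepProper
import Groth.Agent.AlgSpc.Misc1
import Groth.Agent.AlgSpc.LfpCancel
import Mathlib.AlgebraicGeometry.Morphisms.FlatMono

/-!
Affine, integral and finite morphisms; etale universally injective morphisms.
-/

universe u

open CategoryTheory CategoryTheory.Limits AlgebraicGeometry Opposite

set_option backward.isDefEq.respectTransparency false

namespace Groth.Agent.AlgSpc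

open _root_.AlgSp

variable {S : Scheme.{u}}

theorem repWith_affineHom_iff {X Y : Sp S} (f : X ⟶ Y) :
    IsAffineMor f ↔ RepWith @IsAffineHom f := by
  refine ⟨fun h => AlgSpLoc.repWith_of_tested f fun Z hZ g => ?_, fun h Z hZ g => ?_⟩
  · obtain ⟨W, i, fst, sq, hW⟩ := h hZ g
    exact ⟨W, i, fst, sq, inferInstance⟩
  · obtain ⟨W, fst, i, sq⟩ := exists_sq h.1 g
    have : IsAffineHom i.left := h.2 g fst i sq
    exact ⟨W, i, fst, sq, isAffine_of_isAffineHom i.left⟩

theorem repWith_integralHom_iff {X Y : Sp S} (f : X ⟶ Y) :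
    IsIntegralMor f ↔ RepWith @IsIntegralHom f := by
  refine ⟨fun h => AlgSpLoc.repWith_of_tested f fun Z hZ g => ?_, fun h Z hZ g => ?_⟩
  · obtain ⟨W, i, fst, sq, hW, hi⟩ := h hZ g
    exact ⟨W, i, fst, sq, hi⟩
  · obtain ⟨W, fst, i, sq⟩ := exists_sq h.1 g
    have : IsIntegralHom i.left := h.2 g fst i sq
    exact ⟨W, i, fst, sq, isAffine_of_isAffineHom i.left, this⟩

theorem repWith_finite_iff {X Y : Sp S} (f : X ⟶ Y) : IsFiniteMor f ↔ RepWith @IsFinite f := by
  refine ⟨fun h => AlgSpLoc.repWith_of_tested f fun Z hZ g => ?_, fun h Z hZ g => ?_⟩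
  · obtain ⟨W, i, fst, sq, hW, hi⟩ := h hZ g
    exact ⟨W, i, fst, sq, hi⟩
  · obtain ⟨W, fst, i, sq⟩ := exists_sq h.1 g
    have : IsFinite i.left := h.2 g fst i sq
    exact ⟨W, i, fst, sq, isAffine_of_isAffineHom i.left, this⟩

/-- An etale-local property of a morphism passes to its base changes to schemes. -/
theorem prop_of_locP_sq {P : MorphismProperty Scheme.{u}} [EtLoc P] [P.IsStableUnderBaseChange]
    {X Y : Sp S} (hX : IsAlgSpace X) (hY : IsAlgSpace Y) {f : X ⟶ Y} (hf : LocP P f) {W T : Over S}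
    {g : (yon S).obj T ⟶ Y} {fst : (yon S).obj W ⟶ X} {i : W ⟶ T}
    (sq : IsPullback fst ((yon S).map i) f g) : P i.left :=
  locP_base_change hX hY (IsAlgSpace.yon_obj T) sq hf (𝟙 _) (𝟙 _) i (repWith_id _ _) (repWith_id _ _) (by simp)

/-- The diagonal of a representable morphism, in terms of the diagonals of its base changes. -/
theorem repWith_diagonal_of_repWith {P D : MorphismProperty Scheme.{u}} [D.IsStableUnderBaseChange]
    (hPD : ∀ ⦃A B : Scheme.{u}⦄ (k : A ⟶ B), P k → D (pullback.diagonal k))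
    {X Y : Sp S} {f : X ⟶ Y} (hf : RepWith P f) : RepWith D (pullback.diagonal f) := by
  have : D.RespectsIso := MorphismProperty.IsStableUnderBaseChange.respectsIso
  refine repWith_mk fun T ξ => ?_
  obtain ⟨V, fst, k, sq⟩ := exists_sq hf.1 (ξ ≫ pullback.fst f f ≫ f)
  have hd : RepWith D (pullback.diagonal ((yon S).map k)) :=
    (repWith_diagonal_yon_map_iff D k).2 (hPD _ (hf.2 _ fst k sq))
  have sqd := AlgSpLoc.isPullback_diagonal sq
  let t : (yon S).obj T ⟶ pullback ((yon S).map k) ((yon S).map k) := pullback.lift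
    (sq.lift (ξ ≫ pullback.fst f f) (𝟙 _) (by simp))
    (sq.lift (ξ ≫ pullback.snd f f) (𝟙 _) (by simp [pullback.condition])) (by simp)
  have ht : t ≫ pullback.map ((yon S).map k) ((yon S).map k) f f fst fst (ξ ≫ pullback.fst f f ≫ f)
      sq.w.symm sq.w.symm = ξ := by
    apply pullback.hom_ext <;> simp [t]
  obtain ⟨E, e₁, e₂, sqE⟩ := exists_sq hd.1 t
  exact ⟨E, e₁ ≫ fst, e₂, by simpa only [ht] using sqE.paste_horiz sqd, hd.2 t e₁ e₂ sqE⟩

theorem isSeparatedMor_of_repWith_affineHom {X Y : Sp S} {f : X ⟶ Y} (hf : RepWith @IsAffineHom f) :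
    IsSeparatedMor f :=
  repWith_diagonal_of_repWith (P := @IsAffineHom)
    (fun _ _ k (hk : IsAffineHom k) => (inferInstance : IsSeparated k).1) hf

theorem isIntegralMor_iff {X Y : Sp S} (f : X ⟶ Y) :
    IsIntegralMor f ↔ (IsAffineMor f ∧ IsUnivClosedMor f) := by
  rw [repWith_integralHom_iff, repWith_affineHom_iff]
  constructor
  · intro h
    refine ⟨repWith_mono (Q := @IsAffineHom) (fun _ _ k (hk : IsIntegralHom k) => inferInstance) h, ?_⟩
    exact fun _ _ _ _ _ _ sq => isClosedMap_map_of_repWith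
      (fun _ _ k (hk : IsIntegralHom k) => k.isClosedMap) (repWith_of_isPullback sq h)
  · rintro ⟨ha, hc⟩
    exact repWith_mono (Q := @IsIntegralHom) (P := @UniversallyClosed ⊓ @IsAffineHom)
      (fun _ _ k hk => IsIntegralHom.iff_universallyClosed_and_isAffineHom.2 hk)
      (repWith_inf ((repWith_univClosed_iff ha.1).2 hc) ha)

theorem isFiniteMor_iff {X Y : Sp S} (hX : IsAlgSpace X) (hY : IsAlgSpace Y) (f : X ⟶ Y) :
    IsFiniteMor f ↔ (IsAffineMor f ∧ IsProperMor f) := by
  rw [repWith_finite_iff]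
  constructor
  · intro h
    have hi : IsIntegralMor f :=
      (repWith_integralHom_iff f).2 (repWith_mono (Q := @IsIntegralHom) (fun _ _ k (hk : IsFinite k) => inferInstance) h)
    obtain ⟨ha, hc⟩ := (isIntegralMor_iff f).1 hi
    refine ⟨ha, isSeparatedMor_of_repWith_affineHom ((repWith_affineHom_iff f).1 ha), ⟨?_, ?_⟩, hc⟩
    · exact locP_of_repWith (fun e g he hg => EtLoc.precomp e g he hg)
        (repWith_mono (Q := @LocallyOfFiniteType) (fun _ _ k (hk : IsFinite k) => inferInstance) h)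
    · exact isQuasiCompactMor_of_repWith
        (repWith_mono (Q := @QuasiCompact) (fun _ _ k (hk : IsFinite k) => inferInstance) h)
  · rintro ⟨ha, -, ⟨hl, -⟩, hc⟩
    have hi := (repWith_integralHom_iff f).1 ((isIntegralMor_iff f).2 ⟨ha, hc⟩)
    exact ⟨hi.1, fun T V g fst i sq => (IsFinite.iff_isIntegralHom_and_locallyOfFiniteType _).2
      ⟨hi.2 g fst i sq, prop_of_locP_sq hX hY hl sq⟩⟩

theorem repWith_openImmersion_of_etale_univInjective {X Y : Sp S} (hX : IsAlgSpace X) (hY : IsAlgSpace Y)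
    {f : X ⟶ Y} (he : IsEtaleMor f) (hi : IsUnivInjectiveMor f) : RepWith @IsOpenImmersion f := by
  rw [isEtaleMor_iff_locP hX hY] at he
  suffices Mono f from AlgSpLoc.repWith_openImmersion_of_mono_etale hX hY f he
  have sq := IsPullback.of_hasPullback f f
  have hP : IsAlgSpace (pullback f f) := isAlgSpace_of_isPullback hX hY hX sq
  have hid : LocP @Etale (𝟙 X) :=
    locP_of_repWith (fun e g he hg => EtLoc.precomp e g he hg) (repWith_iso (P := @Etale) (𝟙 X))
  have hd : LocP @Etale (pullback.diagonal f) :=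
    locP_of_comp (fun a b hab hb => haveI : Etale (a ≫ b) := hab; haveI : Etale b := hb; Etale.of_comp a b)
      hX hP hX (g := pullback.snd f f) (by rw [pullback.diagonal_snd]; exact hid)
      (locP_base_change hX hY hX sq he)
  have hs : Function.Surjective (Points.map (pullback.diagonal f)) := fun z => by
    refine ⟨Points.map (pullback.snd f f) z, hi hX f _ _ sq ?_⟩
    rw [← Points.map_comp, pullback.diagonal_snd]
    simp
  rw [AlgSpLoc.mono_iff_diagonal hX]
  have hr := AlgSpLoc.representable_diagonal_mor hX f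
  refine ⟨hr, fun T E g fst i sqE => ?_⟩
  have : Etale i.left := prop_of_locP_sq hX hP hd sqE
  have : Surjective i.left := ((repWith_surjective_iff hr).2 hs).2 g fst i sqE
  have hm : Mono ((yon S).map i) := by
    constructor
    intro Z a b w
    refine sqE.hom_ext ((cancel_mono (pullback.diagonal f)).1 ?_) w
    rw [Category.assoc, Category.assoc, sqE.w, ← Category.assoc, ← Category.assoc, w]
  have : Mono i := (yon S).mono_of_mono_map hm
  have : Mono i.left := inferInstanceAs (Mono ((Over.forget S).map i))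
  have : IsOpenImmersion i.left := IsOpenImmersion.of_flat_of_mono i.left
  exact (isIso_iff_isOpenImmersion_and_surjective i.left).2 ⟨inferInstance, inferInstance⟩

theorem isAffineMor_comp {X Y Z : Sp S} {f : X ⟶ Y} {g : Y ⟶ Z} (hf : IsAffineMor f) (hg : IsAffineMor g) :
    IsAffineMor (f ≫ g) :=
  (repWith_affineHom_iff _).2
    (repWith_comp ((repWith_affineHom_iff f).1 hf) ((repWith_affineHom_iff g).1 hg))

theorem isAffineMor_base_change {X Y Y' X' : Sp S} {fst : X' ⟶ X} {snd : X' ⟶ Y'} {f : X ⟶ Y}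
    {g : Y' ⟶ Y} (sq : IsPullback fst snd f g) (hf : IsAffineMor f) : IsAffineMor snd :=
  (repWith_affineHom_iff _).2 (repWith_of_isPullback sq ((repWith_affineHom_iff f).1 hf))

theorem isAffineMor_of_over {X Y B : Sp S} {g : X ⟶ Y} {p : X ⟶ B} {q : Y ⟶ B} (comm : g ≫ q = p)
    (hp : IsAffineMor p) (hq : IsAffineMor (pullback.diagonal q)) : IsAffineMor g := by
  subst comm
  let gr : X ⟶ pullback (g ≫ q) q := pullback.lift (𝟙 X) g (by simp)
  rw [show g = gr ≫ pullback.snd _ _ by simp [gr]]
  exact isAffineMor_comp (isAffineMor_base_change (pullback_lift_diagonal_isPullback g q) hq)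
    (isAffineMor_base_change (IsPullback.of_hasPullback _ _) hp)

end Groth.Agent.AlgSpc
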