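import Groth.Agent.AlgSpc.TestedMor
import Groth.Agent.AlgSpLoc.Covers

/-!
Affine and quasi-affine morphisms are etale local on the target.
-/

universe u

open CategoryTheory CategoryTheory.Limits AlgebraicGeometry Opposite

set_option backward.isDefEq.respectTransparency false

namespace Groth.Agent.AlgSpc

open _root_.AlgSp

variable {S : Scheme.{u}}

theorem isAffineMor_of_etale_affine {X Y : Sp S} (hX : IsAlgSpace X) (hY : IsAlgSpace Y) {f : X ⟶ Y}
    (h : ∀ (V : Over S), IsAffine V.left → ∀ (b : (yon S).obj V ⟶ Y), RepWith @Etale b →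
      ∀ (P : Sp S) (fst : P ⟶ X) (snd : P ⟶ (yon S).obj V), IsPullback fst snd f b →
        ∃ (W : Over S), IsAffine W.left ∧ Nonempty ((yon S).obj W ≅ P)) : IsAffineMor f := by
  obtain ⟨U, p, hp, hps⟩ := hY.atlas
  let A := U.left.affineOpens
  let V : A → Over S := fun O => Over.mk (O.1.ι ≫ U.hom)
  let g : ∀ O : A, (yon S).obj (V O) ⟶ Y :=
    fun O => (yon S).map (Over.homMk O.1.ι rfl : V O ⟶ U) ≫ p
  have hg : ∀ O, RepWith @Etale (g O) := fun O =>
    repWith_comp ((repWith_yon_map_iff _ _).2 (inferInstanceAs (Etale O.1.ι))) hp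
  have hcov : IsFpqcCover (fun O => (yon S).obj (V O)) g := by
    refine AlgSpLoc.isFpqcCover_of_isFppfCover hY (fun _ => IsAlgSpace.yon_obj _) ⟨fun O => ⟨?_, ?_⟩, fun x => ?_⟩
    · exact locP_of_repWith (fun e f he hf => EtLoc.precomp e f he hf)
        (repWith_mono (Q := @Flat) (fun _ _ k (hk : Etale k) => inferInstance) (hg O))
    · exact locP_of_repWith (fun e f he hf => EtLoc.precomp e f he hf)
        (repWith_mono (Q := @LocallyOfFinitePresentation) (fun _ _ k (hk : Etale k) => inferInstance) (hg O))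
    · obtain ⟨y, rfl⟩ := surjective_ofPt hps x
      obtain ⟨O, hO, hy, -⟩ := exists_isAffineOpen_mem_and_subset (show y ∈ (⊤ : U.left.Opens) from trivial)
      refine ⟨⟨O, hO⟩, Points.ofScheme _ ⟨y, hy⟩, ?_⟩
      rw [Points.map_ofPt, Category.id_comp]
      exact ofPt_comp _ p _
  intro Z hZ z
  obtain ⟨W, k, fst, sq, -, haff, -⟩ := AlgSpLoc.tested_of_cover (G := @IsAffineHom)
    (fun _ _ k hB hk => haveI := hB; haveI : IsAffineHom k := hk; haveI := isAffine_of_isAffineHom k;
      inferInstance)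
    hX hY hcov (f := f) (p := fun O => pullback.snd f (g O)) (q := fun O => pullback.fst f (g O))
    (fun O => IsPullback.of_hasPullback f (g O))
    (fun O Z' hZ' l => by
      obtain ⟨W, hW, ⟨e⟩⟩ := h (V O) O.2 (g O) (hg O) _ _ _ (IsPullback.of_hasPullback f (g O))
      have : IsAffine W.left := hW
      have : IsAffine Z'.left := hZ'
      have : IsAffine (V O).left := O.2
      have hk : RepWith @IsAffineHom (pullback.snd f (g O)) := by
        rw [show pullback.snd f (g O) = e.inv ≫ (yon S).map (pre (e.hom ≫ pullback.snd f (g O))) by simp]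
        exact repWith_comp (repWith_iso _)
          ((repWith_yon_map_iff _ _).2 (isAffineHom_of_isAffine _))
      obtain ⟨T, fst, k, sq⟩ := exists_sq hk.1 l
      exact ⟨T, k, fst, sq, hk.2 l fst k sq⟩) hZ z
  exact ⟨W, k, fst, sq, haff fun _ _ k hB hk => haveI := hB; haveI : IsAffineHom k := hk; isAffine_of_isAffineHom k⟩

theorem isAffineMor_of_atlas {X Y : Sp S} (hX : IsAlgSpace X) (hY : IsAlgSpace Y) {f : X ⟶ Y} {V : Over S}
    {p : (yon S).obj V ⟶ Y} (hp : RepWith @Etale p) (hps : RepWith @Surjective p) {P : Sp S} {fst : P ⟶ X}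
    {snd : P ⟶ (yon S).obj V} (sq : IsPullback fst snd f p) (h : IsAffineMor snd) : IsAffineMor f := by
  intro Z hZ z
  obtain ⟨W, k, fst', sq', -, haff, -⟩ := AlgSpLoc.tested_of_cover (G := @IsAffineHom)
    (fun _ _ k hB hk => haveI := hB; haveI : IsAffineHom k := hk; haveI := isAffine_of_isAffineHom k;
      inferInstance)
    hX hY (AlgSpLoc.isFpqcCover_atlas hY hp hps) (f := f) (p := fun _ => snd) (q := fun _ => fst)
    (fun _ => sq)
    (fun _ Z' hZ' l => by
      obtain ⟨W, i, q, sqW, hW⟩ := h hZ' l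
      exact ⟨W, i, q, sqW, inferInstance⟩) hZ z
  exact ⟨W, k, fst', sq', haff fun _ _ k hB hk => haveI := hB; haveI : IsAffineHom k := hk; isAffine_of_isAffineHom k⟩

instance isZariskiLocalAtTarget_top' : IsZariskiLocalAtTarget (⊤ : MorphismProperty Scheme.{u}) :=
  IsZariskiLocalAtTarget.mk' (fun _ _ _ => trivial) fun _ _ _ _ _ => trivial

theorem isQuasiAffineMor_of_atlas {X Y : Sp S} (hX : IsAlgSpace X) (hY : IsAlgSpace Y) {f : X ⟶ Y}
    {V : Over S} {p : (yon S).obj V ⟶ Y} (hp : RepWith @Etale p) (hps : RepWith @Surjective p) {P : Sp S}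
    {fst : P ⟶ X} {snd : P ⟶ (yon S).obj V} (sq : IsPullback fst snd f p) (h : IsQuasiAffineMor snd) :
    Representable f ∧ IsQuasiAffineMor f := by
  have hq : IsQuasiAffineMor f := by
    intro Z hZ z
    obtain ⟨W, k, fst', sq', hW, -⟩ := AlgSpLoc.tested_of_cover
      (G := fun A _ _ => A.IsQuasiAffine) (fun _ _ _ _ hk => hk)
      hX hY (AlgSpLoc.isFpqcCover_atlas hY hp hps) (f := f) (p := fun _ => snd) (q := fun _ => fst)
      (fun _ => sq)
      (fun _ Z' hZ' l => by
        obtain ⟨W, i, q, sqW, hW⟩ := h hZ' l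
        exact ⟨W, i, q, sqW, hW⟩) hZ z
    exact ⟨W, k, fst', sq', hW⟩
  refine ⟨(AlgSpLoc.repWith_of_tested (P := ⊤) f fun Z hZ g => ?_).1, hq⟩
  obtain ⟨W, k, fst', sq', -⟩ := hq hZ g
  exact ⟨W, k, fst', sq', trivial⟩

end Groth.Agent.AlgSpc
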