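import Groth.Agent.AlgSpc.RepBySpStab
import Groth.Agent.AlgSpc.FibreProd
import Groth.Agent.AlgSpc.Compact
import Groth.Agent.AlgSpLoc.Cover
import Mathlib.CategoryTheory.Sites.Subsheaf

/-!
The open subspace attached to an open set of points.
-/

universe u

open CategoryTheory CategoryTheory.Limits AlgebraicGeometry Opposite

set_option linter.style.haveILetI false
set_option backward.isDefEq.respectTransparency false

namespace Groth.Agent.AlgSpc

open _root_.AlgSp

variable {S : Scheme.{u}}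

/-- Covering sieves for the fppf topology are jointly surjective on points. -/
theorem exists_arrow_of_mem_J {T : Over S} {R : Sieve T} (hR : R ∈ J S T) (t : ↥T.left) :
    ∃ (W : Over S) (w : W ⟶ T), R w ∧ t ∈ Set.range w.left := by
  rw [J_eq, GrothendieckTopology.mem_over_iff] at hR
  haveI : Scheme.fppfPrecoverage.{u}.HasIsos := by
    haveI : (@Flat ⊓ @LocallyOfFinitePresentation : MorphismProperty Scheme.{u}).ContainsIdentities :=
      ⟨fun _ => ⟨inferInstance, inferInstance⟩⟩
    change (Scheme.precoverage (@Flat ⊓ @LocallyOfFinitePresentation)).HasIsos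
    infer_instance
  obtain ⟨P, hP, hle⟩ := (Precoverage.mem_toGrothendieck_iff_of_isStableUnderComposition
    (J := Scheme.fppfPrecoverage)).1 hR
  obtain ⟨ι, Z, g, rfl⟩ := Presieve.exists_eq_ofArrows P
  obtain ⟨i, z, hz⟩ := ((Scheme.ofArrows_mem_precoverage_iff _).1 hP).1 t
  have h := hle _ _ (Presieve.ofArrows.mk i)
  rw [Sieve.overEquiv_iff] at h
  exact ⟨_, _, h, z, hz⟩

/-- Sections of a sheaf whose points lie in a given set. -/
noncomputable def ptsSub (F : Sp S) (O : Set (Points F)) : Subfunctor F.obj where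
  obj T := {s | ∀ t, Points.ofPt ((J S).uliftYonedaEquiv.symm s) t ∈ O}
  map {T T'} i s hs t := by
    have h : (J S).uliftYonedaEquiv.symm (F.obj.map i s) =
        (yon S).map i.unop ≫ (J S).uliftYonedaEquiv.symm s :=
      (GrothendieckTopology.uliftYonedaEquiv_symm_naturality_left _ i.unop F s).symm
    rw [h, ofPt_comp]
    exact hs _

theorem isSheaf_ptsSub (F : Sp S) (O : Set (Points F)) :
    Presheaf.IsSheaf (J S) (ptsSub F O).toFunctor := by
  have hF : Presieve.IsSheaf (J S) F.obj := (isSheaf_iff_isSheaf_of_type (J S) F.obj).1 F.property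
  rw [isSheaf_iff_isSheaf_of_type, (ptsSub F O).isSheaf_iff hF]
  intro T s hs t
  obtain ⟨W, w, hw, z, rfl⟩ := exists_arrow_of_mem_J hs t
  have h : (J S).uliftYonedaEquiv.symm (F.obj.map w.op s) =
      (yon S).map w ≫ (J S).uliftYonedaEquiv.symm s :=
    (GrothendieckTopology.uliftYonedaEquiv_symm_naturality_left _ w F s).symm
  have := (show F.obj.map w.op s ∈ (ptsSub F O).obj (op W) from hw) z
  rw [h, ofPt_comp] at this
  exact this

/-- The subsheaf of sections whose points lie in a given set. -/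
noncomputable def ptsSheaf (F : Sp S) (O : Set (Points F)) : Sp S := ⟨_, isSheaf_ptsSub F O⟩

/-- The inclusion. -/
noncomputable def ptsIncl (F : Sp S) (O : Set (Points F)) : ptsSheaf F O ⟶ F :=
  ObjectProperty.homMk (ptsSub F O).ι

instance (F : Sp S) (O : Set (Points F)) : Mono (ptsIncl F O) := by
  haveI : Mono (ptsSub F O).ι := inferInstance
  exact (sheafToPresheaf (J S) _).mono_of_mono_map (inferInstanceAs (Mono (ptsSub F O).ι))

theorem exists_ptsIncl_iff {F : Sp S} (O : Set (Points F)) {T : Over S} (g : (yon S).obj T ⟶ F) :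
    (∃ g', g' ≫ ptsIncl F O = g) ↔ ∀ t, Points.ofPt g t ∈ O := by
  constructor
  · rintro ⟨g', rfl⟩ t
    obtain ⟨s, hs⟩ := (J S).uliftYonedaEquiv g'
    have h : (J S).uliftYonedaEquiv (g' ≫ ptsIncl F O) = ((J S).uliftYonedaEquiv g').1 :=
      GrothendieckTopology.uliftYonedaEquiv_comp _ _ _
    have h2 := ((J S).uliftYonedaEquiv g').2 t
    rwa [← h, Equiv.symm_apply_apply] at h2
  · intro h
    refine ⟨(J S).uliftYonedaEquiv.symm (⟨(J S).uliftYonedaEquiv g, fun t => ?_⟩ :
      (ptsSub F O).toFunctor.obj (op T)), (J S).uliftYonedaEquiv.injective ?_⟩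
    · rw [Equiv.symm_apply_apply]; exact h t
    · rw [GrothendieckTopology.uliftYonedaEquiv_comp, Equiv.apply_symm_apply]
      rfl

theorem repWith_ptsIncl {F : Sp S} {O : Set (Points F)} (hO : IsOpen O) :
    RepWith @IsOpenImmersion (ptsIncl F O) := by
  refine repWith_mk fun T g => ?_
  let A : T.left.Opens := ⟨Points.ofPt g ⁻¹' O, hO.preimage (Points.continuous_ofPt g)⟩
  let A' : Over S := Over.mk (A.ι ≫ T.hom)
  let j : A' ⟶ T := Over.homMk A.ι rfl
  obtain ⟨fst, hfst⟩ := (exists_ptsIncl_iff O ((yon S).map j ≫ g)).2 fun a => by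
    rw [ofPt_comp]; exact (a : (A : Scheme.{u})).2
  haveI : Mono j := (Over.forget S).mono_of_mono_map (inferInstanceAs (Mono A.ι))
  haveI : Mono ((yon S).map j) := inferInstance
  have sq := IsPullback.of_hasPullback (ptsIncl F O) g
  let k := pullback.lift fst ((yon S).map j) hfst
  have hk₁ : k ≫ pullback.fst _ _ = fst := pullback.lift_fst _ _ _
  have hk₂ : k ≫ pullback.snd _ _ = (yon S).map j := pullback.lift_snd _ _ _
  haveI : Mono (k ≫ pullback.snd (ptsIncl F O) g) := hk₂.symm ▸ inferInstance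
  haveI : Mono k := mono_of_mono k (pullback.snd (ptsIncl F O) g)
  haveI : IsIso k := AlgSpLoc.isIso_of_mono_of_sq k fun R r => by
    obtain ⟨x, hx⟩ : ∃ x, x = pre (r ≫ pullback.snd (ptsIncl F O) g) := ⟨_, rfl⟩
    have hx' : (yon S).map x = r ≫ pullback.snd (ptsIncl F O) g := by rw [hx, map_pre]
    have hr : Set.range x.left ⊆ Set.range A.ι := by
      rintro _ ⟨q, rfl⟩
      rw [Scheme.Opens.range_ι]
      have h := (exists_ptsIncl_iff O ((yon S).map x ≫ g)).1
        ⟨r ≫ pullback.fst _ _, by rw [hx', Category.assoc, Category.assoc, pullback.condition]⟩ q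
      rwa [ofPt_comp] at h
    let r' : R ⟶ A' := Over.homMk (IsOpenImmersion.lift A.ι x.left hr) (by
      change _ ≫ A.ι ≫ T.hom = R.hom
      rw [IsOpenImmersion.lift_fac_assoc]; exact Over.w _)
    have hr' : r' ≫ j = x := by ext : 1; exact IsOpenImmersion.lift_fac _ _ _
    refine ⟨R, 𝟙 R, (yon S).map r', (inferInstance : Flat (𝟙 R.left)), (inferInstance : Surjective (𝟙 R.left)),
      (inferInstance : LocallyOfFinitePresentation (𝟙 R.left)), ?_⟩
    rw [CategoryTheory.Functor.map_id, Category.id_comp]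
    have h2 : ((yon S).map r' ≫ k) ≫ pullback.snd _ _ = r ≫ pullback.snd _ _ := by
      rw [Category.assoc, hk₂, ← Functor.map_comp, hr', hx']
    refine pullback.hom_ext ((cancel_mono (ptsIncl F O)).1 ?_) h2
    simp only [Category.assoc, pullback.condition]
    simpa only [Category.assoc] using congrArg (· ≫ g) h2
  exact ⟨A', fst, j, IsPullback.of_iso_pullback ⟨hfst⟩ (asIso k) hk₁ hk₂,
    inferInstanceAs (IsOpenImmersion A.ι)⟩

theorem isPullback_of_mono {X' X : Sp S} (j : X' ⟶ X) [Mono j] {P A B : Sp S} {fst : P ⟶ A}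
    {snd : P ⟶ B} {a : A ⟶ X'} {b : B ⟶ X'} (sq : IsPullback fst snd (a ≫ j) (b ≫ j)) :
    IsPullback fst snd a b := by
  have w : fst ≫ a = snd ≫ b := (cancel_mono j).1 (by rw [Category.assoc, Category.assoc, sq.w])
  refine IsPullback.of_isLimit' ⟨w⟩ (PullbackCone.IsLimit.mk _
    (fun x => sq.lift x.fst x.snd (by rw [← Category.assoc, x.condition, Category.assoc]))
    (fun x => sq.lift_fst _ _ _) (fun x => sq.lift_snd _ _ _) (fun x n h₁ h₂ => ?_))
  apply sq.hom_ext <;> simp [h₁, h₂]

/-- The source of a representable monomorphism to an algebraic space is an algebraic space. -/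
theorem isAlgSpace_of_mono_representable {X' X : Sp S} (hX : IsAlgSpace X) (j : X' ⟶ X) [Mono j]
    (hj : Representable j) : IsAlgSpace X' where
  diag := Functor.relativelyRepresentable.diag_of_map_from_obj fun T g => fun T' g' => by
    obtain ⟨V, fst, snd, sq⟩ := exists_sq (hX.representable_from_yon (g ≫ j)) (g' ≫ j)
    exact ⟨V, snd, fst, isPullback_of_mono j sq⟩
  atlas := by
    obtain ⟨U, p, hp, hps⟩ := hX.atlas
    obtain ⟨V, q, k, -, hq, hqs⟩ := exists_chart_pullback hj (p := p)
    exact ⟨V, q, hq hp, hqs hps⟩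

/-- Open subspaces. -/
theorem isAlgSpace_ptsSheaf {F : Sp S} (hF : IsAlgSpace F) {O : Set (Points F)} (hO : IsOpen O) :
    IsAlgSpace (ptsSheaf F O) :=
  isAlgSpace_of_mono_representable hF (ptsIncl F O) (repWith_ptsIncl hO).1

theorem range_ptsIncl (F : Sp S) (O : Set (Points F)) :
    Set.range (Points.map (ptsIncl F O)) = O := by
  ext x
  obtain ⟨T, g, t, rfl⟩ := exists_ofPt x
  constructor
  · rintro ⟨y, hy⟩
    obtain ⟨R, r, q, rfl⟩ := exists_ofPt y
    rw [Points.map_ofPt] at hy
    exact hy ▸ (exists_ptsIncl_iff O (r ≫ ptsIncl F O)).1 ⟨r, rfl⟩ q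
  · intro hx
    let T' : Over S := Over.mk (T.left.fromSpecResidueField t ≫ T.hom)
    let i : T' ⟶ T := Over.homMk (T.left.fromSpecResidueField t) rfl
    have hi : ∀ q : ↥T'.left, i.left q = t := fun q => Scheme.fromSpecResidueField_apply t q
    obtain ⟨g', hg'⟩ := (exists_ptsIncl_iff O ((yon S).map i ≫ g)).2 fun q => by
      rw [ofPt_comp, hi q]; exact hx
    refine ⟨Points.ofPt g' (IsLocalRing.closedPoint (T.left.residueField t)), ?_⟩
    rw [Points.map_ofPt, hg', ofPt_comp, hi]

theorem exists_factor_iff {X' X Y : Sp S} {j : X' ⟶ X} (hj : RepWith @IsOpenImmersion j) (f : Y ⟶ X) :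
    (∃ g, g ≫ j = f) ↔ Set.range (Points.map f) ⊆ Set.range (Points.map j) := by
  refine ⟨?_, fun h => ?_⟩
  · rintro ⟨g, rfl⟩ _ ⟨y, rfl⟩
    exact ⟨Points.map g y, (Points.map_comp _ _ _).symm⟩
  haveI : Mono j := mono_of_repWith (fun _ _ k (hk : IsOpenImmersion k) => inferInstance) hj
  let P := pullback f j
  have sq := IsPullback.of_hasPullback f j
  haveI : IsIso (pullback.fst f j) := by
    refine AlgSpLoc.isIso_of_mono_of_sq _ fun T t => ?_
    obtain ⟨V, fst, snd, sqV⟩ := exists_sq hj.1 (t ≫ f)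
    haveI : IsOpenImmersion snd.left := hj.2 _ _ _ sqV
    haveI : Surjective snd.left := ⟨fun z => by
      obtain ⟨x, hx⟩ := h ⟨Points.ofPt t z, Points.map_ofPt t f z⟩
      obtain ⟨v, -, hv⟩ := exists_point_of_sq sqV x z hx
      exact ⟨v, hv⟩⟩
    refine ⟨V, snd, pullback.lift ((yon S).map snd ≫ t) fst (by rw [Category.assoc]; exact sqV.w.symm),
      inferInstance, ‹_›, inferInstance, pullback.lift_fst _ _ _⟩
  exact ⟨inv (pullback.fst f j) ≫ pullback.snd f j, by rw [Category.assoc, ← pullback.condition, IsIso.inv_hom_id_assoc]⟩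

end Groth.Agent.AlgSpc
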