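import Groth.Agent.AlgSpc.FieldQuot
import Groth.Agent.AlgSpc.Misc2
import Groth.Agent.AlgSpc.More
import Groth.Agent.AlgSpLoc.EtLocMore
import Mathlib.AlgebraicGeometry.Artinian

/-!
Decent algebraic spaces are the spaces whose affine etale charts have finite fibres.
-/

universe u

open CategoryTheory CategoryTheory.Limits AlgebraicGeometry Opposite

set_option linter.style.haveILetI false
set_option backward.isDefEq.respectTransparency false

namespace Groth.Agent.AlgSpc

open _root_.AlgSp

variable {S : Scheme.{u}}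

/-- The fibres of `a` over field valued points are quasi-compact. -/
def CompactFibres {X : Sp S} {U : Over S} (a : (yon S).obj U ⟶ X) : Prop :=
  ∀ (K : Type u) [Field K] (str : Spec (CommRingCat.of K) ⟶ S)
    (g : (yon S).obj (Over.mk str) ⟶ X) (V : Over S) (fst : (yon S).obj V ⟶ (yon S).obj U)
    (snd : V ⟶ Over.mk str), IsPullback fst ((yon S).map snd) a g → CompactSpace ↥V.left

/-- All affine etale charts have quasi-compact fibres. -/
def HasCompactFibres (X : Sp S) : Prop :=
  ∀ (U : Over S) (a : (yon S).obj U ⟶ X), IsAffine U.left → RepWith @Etale a → CompactFibres a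

theorem quasiCompact_from_field {K : Type u} [Field K] {Y : Scheme.{u}}
    (f : Spec (CommRingCat.of K) ⟶ Y) : QuasiCompact f := by
  haveI : Subsingleton ↥(Spec (CommRingCat.of K)) := inferInstanceAs (Subsingleton (PrimeSpectrum K))
  exact ⟨fun W _ _ => (Set.subsingleton_of_subsingleton.finite).isCompact⟩

theorem mono_of_map {V T : Over S} (l : V ⟶ T) [Mono ((yon S).map l)] : Mono l.left :=
  haveI : Mono l := (yon S).mono_of_mono_map ‹_›
  inferInstanceAs (Mono ((Over.forget S).map l))

/-- A compact fibre of an etale map over the spectrum of a field is finite. -/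
theorem finite_of_compact_fibre {X : Sp S} {U : Over S} {a : (yon S).obj U ⟶ X}
    (ha : RepWith @Etale a) {K : Type u} [Field K] {str : Spec (CommRingCat.of K) ⟶ S}
    {g : (yon S).obj (Over.mk str) ⟶ X} {V : Over S} {fst : (yon S).obj V ⟶ (yon S).obj U}
    {snd : V ⟶ Over.mk str} (sq : IsPullback fst ((yon S).map snd) a g) [CompactSpace ↥V.left] :
    Finite ↥V.left ∧ DiscreteTopology ↥V.left ∧ IsFinite snd.left := by
  haveI : Etale snd.left := ha.2 g fst snd sq
  haveI : LocallyQuasiFinite snd.left := AlgSpLoc.locallyQuasiFinite_of_etale _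
  haveI : IsLocallyArtinian (Over.mk str).left :=
    (Scheme.isLocallyArtinianScheme_Spec (R := CommRingCat.of K)).2 (inferInstanceAs (IsArtinianRing K))
  haveI : IsAffine (Over.mk str).left := inferInstanceAs (IsAffine (Spec (CommRingCat.of K)))
  haveI : QuasiCompact snd.left :=
    (HasAffineProperty.iff_of_isAffine (P := @QuasiCompact)).2 ‹CompactSpace ↥V.left›
  haveI : IsLocallyArtinian V.left := IsLocallyArtinian.of_locallyQuasiFinite snd.left
  exact ⟨finite_of_compact_of_discrete, inferInstance, IsFinite.of_locallyQuasiFinite _⟩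

/-- Quasi-compactness of the fibre over one field valued point in a class gives it for all of them. -/
theorem compactSpace_fibre_of_repWith_qc {X : Sp S} {U : Over S} [CompactSpace ↥U.left]
    (a : (yon S).obj U ⟶ X) (p : FieldPt X) (hp : RepWith @QuasiCompact p.toHom)
    {K : Type u} [Field K] {str : Spec (CommRingCat.of K) ⟶ S}
    {g : (yon S).obj (Over.mk str) ⟶ X}
    (hpg : Points.ofPt g (IsLocalRing.closedPoint K) = Points.mk p)
    {V : Over S} {fst : (yon S).obj V ⟶ (yon S).obj U}
    {snd : V ⟶ Over.mk str} (sq : IsPullback fst ((yon S).map snd) a g) : CompactSpace ↥V.left := by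
  -- a common extension of the two fields
  obtain ⟨Z, fst', snd', sqZ⟩ := exists_sq hp.1 g
  obtain ⟨z, -, -⟩ := exists_point_of_sq sqZ (Points.ofScheme p.pt (IsLocalRing.closedPoint p.K))
    (IsLocalRing.closedPoint K) (by rw [← Points.ofPt_eq_map_ofScheme, Points.ofPt_toHom, hpg])
  let T : Over S := Over.mk (Z.left.fromSpecResidueField z ≫ Z.hom)
  let j : T ⟶ Z := Over.homMk (Z.left.fromSpecResidueField z) rfl
  let a' : T ⟶ p.pt := j ≫ pre fst'
  let b' : T ⟶ Over.mk str := j ≫ snd'
  have hab : (yon S).map b' ≫ g = (yon S).map a' ≫ p.toHom := by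
    simp [a', b', sqZ.w]
  -- the fibre over the given point
  obtain ⟨V₀, fst₀, snd₀, sq₀⟩ := exists_sq hp.1 a
  haveI : QuasiCompact snd₀.left := hp.2 _ _ _ sq₀
  haveI : CompactSpace ↥V₀.left := QuasiCompact.compactSpace_of_compactSpace snd₀.left
  haveI : IsAffine p.pt.left := inferInstanceAs (IsAffine (Spec (CommRingCat.of p.K)))
  haveI : IsAffine T.left := inferInstanceAs (IsAffine (Spec (Z.left.residueField z)))
  let W₀ := pullback (pre fst₀) a'
  haveI : CompactSpace ↥W₀.left := by
    haveI : QuasiCompact (pullback.fst (pre fst₀) a').left :=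
      MorphismProperty.of_isPullback (P := @QuasiCompact)
        ((IsPullback.of_hasPullback (pre fst₀) a').flip.map (Over.forget S)) (inferInstanceAs (QuasiCompact a'.left))
    exact QuasiCompact.compactSpace_of_compactSpace (pullback.fst (pre fst₀) a').left
  have h₀ : IsPullback ((yon S).map (pullback.fst (pre fst₀) a' ≫ snd₀))
      ((yon S).map (pullback.snd (pre fst₀) a')) a ((yon S).map a' ≫ p.toHom) := by
    have h : IsPullback ((yon S).map (pullback.fst (pre fst₀) a')) ((yon S).map (pullback.snd (pre fst₀) a'))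
        ((yon S).map (pre fst₀)) ((yon S).map a') := (IsPullback.of_hasPullback _ _).map (yon S)
    rw [map_pre] at h
    rw [Functor.map_comp]
    exact h.paste_horiz sq₀.flip
  let W := pullback snd b'
  have h₁ : IsPullback ((yon S).map (pullback.fst snd b') ≫ fst)
      ((yon S).map (pullback.snd snd b')) a ((yon S).map b' ≫ g) :=
    ((IsPullback.of_hasPullback snd b').map (yon S)).paste_horiz sq
  rw [hab] at h₁
  let e : W₀ ≅ W := (yon S).preimageIso (h₀.isoIsPullback _ _ h₁)
  haveI : CompactSpace ↥W.left := @Homeomorph.compactSpace ↥W₀.left ↥W.left _ _ ‹_› (Scheme.homeoOfIso ((Over.forget S).mapIso e))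
  haveI : Surjective b'.left := ⟨fun x => ⟨IsLocalRing.closedPoint _,
    @Subsingleton.elim (PrimeSpectrum K) _ _ _⟩⟩
  haveI : Surjective (pullback.fst snd b').left :=
    MorphismProperty.of_isPullback (P := @Surjective)
      ((IsPullback.of_hasPullback snd b').flip.map (Over.forget S)) ‹_›
  refine ⟨?_⟩
  rw [← (pullback.fst snd b').left.surjective.range_eq]
  exact isCompact_range (pullback.fst snd b').left.continuous

theorem compactFibres_of_isDecent {X : Sp S} (hX : IsDecent X) {U : Over S} [CompactSpace ↥U.left]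
    (a : (yon S).obj U ⟶ X) : CompactFibres a := by
  intro K _ str g V fst snd sq
  obtain ⟨p, hp, -, hq⟩ := hX (Points.ofPt g (IsLocalRing.closedPoint K))
  exact compactSpace_fibre_of_repWith_qc a p hq hp.symm sq

theorem hasCompactFibres_of_isDecent {X : Sp S} (hX : IsDecent X) : HasCompactFibres X :=
  fun _ a hU _ => haveI := hU; compactFibres_of_isDecent hX a

theorem finite_preimage_point {X : Sp S} {U : Over S} {a : (yon S).obj U ⟶ X}
    (ha : RepWith @Etale a) (hc : CompactFibres a) (x : Points X) :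
    (Points.ofPt a ⁻¹' {x}).Finite := by
  induction x using Points.ind with
  | h p =>
  obtain ⟨V, fst, snd, sq⟩ := exists_sq ha.1 p.toHom
  haveI := hc p.K _ p.toHom V fst snd sq
  haveI := (finite_of_compact_fibre ha sq).1
  refine (Set.finite_range (pre fst).left).subset fun u hu => ?_
  obtain ⟨v, hv, -⟩ := exists_point_of_sq sq (Points.ofScheme U u) (IsLocalRing.closedPoint p.K)
    (by rw [← Points.ofPt_eq_map_ofScheme, Points.ofPt_toHom]; exact hu)
  refine ⟨v, ?_⟩
  have := congrArg (Points.toScheme U) hv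
  rwa [← map_pre fst, Points.toScheme_ofPt, Points.toScheme_ofScheme] at this

/-- Points with finite fibres are represented by monomorphisms from spectra of fields. -/
theorem exists_mono_point {X : Sp S} {U : Over S} {a : (yon S).obj U ⟶ X} (ha : RepWith @Etale a)
    (u : ↥U.left)
    (hc : ∀ (V : Over S) (fst : (yon S).obj V ⟶ (yon S).obj U)
      (snd : V ⟶ Over.mk (U.left.fromSpecResidueField u ≫ U.hom)),
      IsPullback fst ((yon S).map snd) a
        ((yon S).map (Over.homMk (U.left.fromSpecResidueField u) rfl : _ ⟶ U) ≫ a) →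
        CompactSpace ↥V.left) :
    ∃ (k : Type u) (_ : Field k) (str' : Spec (CommRingCat.of k) ⟶ S)
      (c : Over.mk (U.left.fromSpecResidueField u ≫ U.hom) ⟶ Over.mk str')
      (q : (yon S).obj (Over.mk str') ⟶ X), Mono q ∧
      (yon S).map c ≫ q = (yon S).map (Over.homMk (U.left.fromSpecResidueField u) rfl : _ ⟶ U) ≫ a ∧
      IsFinite c.left ∧ Surjective c.left ∧ Points.ofPt q (IsLocalRing.closedPoint k) = Points.ofPt a u := by
  let L : Over S := Over.mk (U.left.fromSpecResidueField u ≫ U.hom)
  let ju : L ⟶ U := Over.homMk (U.left.fromSpecResidueField u) rfl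
  let q₀ := (yon S).map ju ≫ a
  obtain ⟨V, fst, snd, sq⟩ := exists_sq ha.1 q₀
  haveI := hc V fst snd sq
  obtain ⟨-, hd, hfin⟩ := finite_of_compact_fibre (K := U.left.residueField u) ha sq
  let P := pullback ju (pre fst)
  have h : IsPullback ((yon S).map (pullback.fst ju (pre fst))) ((yon S).map (pullback.snd ju (pre fst)))
      ((yon S).map ju) ((yon S).map (pre fst)) := (IsPullback.of_hasPullback _ _).map (yon S)
  rw [map_pre] at h
  have hP : IsPullback ((yon S).map (pullback.fst ju (pre fst)))
      ((yon S).map (pullback.snd ju (pre fst) ≫ snd)) q₀ q₀ := by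
    rw [Functor.map_comp]
    exact h.paste_vert sq
  have hk : IsFinite ((pullback.snd ju (pre fst) ≫ snd).left) := by
    haveI : IsPreimmersion (pullback.snd ju (pre fst)).left :=
      MorphismProperty.of_isPullback (P := @IsPreimmersion)
        ((IsPullback.of_hasPullback ju (pre fst)).map (Over.forget S))
        (inferInstanceAs (IsPreimmersion (U.left.fromSpecResidueField u)))
    haveI : IsClosedImmersion (pullback.snd ju (pre fst)).left :=
      IsClosedImmersion.of_isPreimmersion _ (isClosed_discrete _)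
    rw [Over.comp_left]
    infer_instance
  obtain ⟨k, _, str', c, q, hq, hcq, hcf, -, hcs, -, -⟩ :=
    FieldRel.exists_mono_factor q₀ hP.flip hk
  refine ⟨k, inferInstance, str', c, q, hq, hcq, hcf, hcs, ?_⟩
  have := (ofPt_comp c q (IsLocalRing.closedPoint (U.left.residueField u))).symm
  rw [hcq] at this
  refine Eq.trans ?_ (this.trans ((ofPt_comp ju a _).trans
    (congrArg _ (Scheme.fromSpecResidueField_apply u _))))
  exact congrArg _ (@Subsingleton.elim (PrimeSpectrum k) _ _ _)

/-- Quasi-compactness of a morphism from the spectrum of a field can be tested on affine charts. -/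
theorem repWith_qc_of_charts {X : Sp S} (hX : IsAlgSpace X) {F : Sp S} {f : F ⟶ X}
    (hf : Representable f)
    (h : ∀ (U : Over S) (a : (yon S).obj U ⟶ X) (V : Over S) (fst : (yon S).obj V ⟶ F) (snd : V ⟶ U),
      IsAffine U.left → RepWith @Etale a → IsPullback fst ((yon S).map snd) f a →
        CompactSpace ↥V.left) :
    RepWith @QuasiCompact f := by
  obtain ⟨U₀, a₀, ha₀, hs₀⟩ := hX.atlas
  refine ⟨hf, fun T V g fst snd sq => ?_⟩
  refine (quasiCompact_iff_forall_isAffineOpen (X := V.left) (Y := T.left)).2 fun A hA => ?_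
  obtain ⟨W, k, e, sqW⟩ := exists_sq ha₀.1 g
  haveI : Etale e.left := ha₀.2 _ _ _ sqW
  haveI : Surjective e.left := hs₀.2 _ _ _ sqW
  -- finitely many affine opens of the chart cover `A`
  let I := {p : W.left.affineOpens × U₀.left.affineOpens //
    p.1.1 ≤ (pre k).left ⁻¹ᵁ p.2.1 ∧ p.1.1 ≤ e.left ⁻¹ᵁ A}
  obtain ⟨t, ht⟩ := hA.isCompact.elim_finite_subcover
    (fun i : I => e.left '' (i.1.1.1 : Set W.left)) (fun i => e.left.isOpenMap _ i.1.1.1.2) (fun y hy => by
      obtain ⟨w, rfl⟩ := e.left.surjective y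
      obtain ⟨B, hB, hwB, -⟩ :=
        exists_isAffineOpen_mem_and_subset (show (pre k).left w ∈ (⊤ : U₀.left.Opens) from trivial)
      obtain ⟨C, hC, hwC, hle⟩ := exists_isAffineOpen_mem_and_subset
        (show w ∈ (pre k).left ⁻¹ᵁ B ⊓ e.left ⁻¹ᵁ A from ⟨hwB, hy⟩)
      exact Set.mem_iUnion.2 ⟨⟨(⟨C, hC⟩, ⟨B, hB⟩), fun z hz => (hle hz).1, fun z hz => (hle hz).2⟩,
        w, hwC, rfl⟩)
  have key : ∀ i : I, IsCompact (snd.left ⁻¹' (e.left '' (i.1.1.1 : Set W.left))) := by
    rintro ⟨⟨⟨C, hC⟩, ⟨B, hB⟩⟩, hle, -⟩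
    let C' : Over S := Over.mk (C.ι ≫ W.hom)
    let B' : Over S := Over.mk (B.ι ≫ U₀.hom)
    haveI : IsAffine B'.left := hB
    haveI : IsAffine C'.left := hC
    let jC : C' ⟶ W := Over.homMk C.ι rfl
    let jB : B' ⟶ U₀ := Over.homMk B.ι rfl
    let m : C' ⟶ B' := Over.homMk (IsOpenImmersion.lift B.ι (C.ι ≫ (pre k).left) (by
        rintro _ ⟨z, rfl⟩; exact ⟨⟨_, hle z.2⟩, rfl⟩))
      (by
        change _ ≫ B.ι ≫ U₀.hom = C.ι ≫ W.hom
        rw [← Category.assoc, IsOpenImmersion.lift_fac, Category.assoc]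
        exact congrArg (C.ι ≫ ·) (Over.w (pre k)))
    have hm : m ≫ jB = jC ≫ pre k := by ext : 1; exact IsOpenImmersion.lift_fac _ _ _
    have hB' : RepWith @Etale ((yon S).map jB ≫ a₀) :=
      repWith_comp ((repWith_yon_map_iff _ jB).2 (inferInstanceAs (Etale B.ι))) ha₀
    obtain ⟨Z, zf, zs, sqZ⟩ := exists_sq hf ((yon S).map jB ≫ a₀)
    haveI : CompactSpace ↥Z.left := h B' _ Z zf zs inferInstance hB' sqZ
    let P := pullback zs m
    haveI : CompactSpace ↥P.left := by
      haveI : QuasiCompact (pullback.fst zs m).left :=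
        MorphismProperty.of_isPullback (P := @QuasiCompact)
          ((IsPullback.of_hasPullback zs m).flip.map (Over.forget S)) (inferInstanceAs (QuasiCompact m.left))
      exact QuasiCompact.compactSpace_of_compactSpace (pullback.fst zs m).left
    have hP : IsPullback ((yon S).map (pullback.fst zs m) ≫ zf) ((yon S).map (pullback.snd zs m)) f
        ((yon S).map (jC ≫ e) ≫ g) := by
      have hw : (yon S).map (jC ≫ e) ≫ g = (yon S).map m ≫ (yon S).map jB ≫ a₀ := by
        rw [← Category.assoc ((yon S).map m), ← Functor.map_comp, hm, Functor.map_comp, Functor.map_comp,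
          map_pre, Category.assoc, Category.assoc, sqW.w]
      rw [hw]
      exact ((IsPullback.of_hasPullback zs m).map (yon S)).paste_horiz sqZ
    let P' := pullback snd (jC ≫ e)
    have hP' : IsPullback ((yon S).map (pullback.fst snd (jC ≫ e)) ≫ fst)
        ((yon S).map (pullback.snd snd (jC ≫ e))) f ((yon S).map (jC ≫ e) ≫ g) :=
      ((IsPullback.of_hasPullback snd (jC ≫ e)).map (yon S)).paste_horiz sq
    let θ : P ≅ P' := (yon S).preimageIso (hP.isoIsPullback _ _ hP')
    haveI : CompactSpace ↥P'.left := @Homeomorph.compactSpace ↥P.left ↥P'.left _ _ ‹_› (Scheme.homeoOfIso ((Over.forget S).mapIso θ))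
    have hr : Set.range (pullback.fst snd (jC ≫ e)).left = snd.left ⁻¹' (e.left '' (C : Set W.left)) := by
      have sq₂ := (IsPullback.of_hasPullback snd (jC ≫ e)).map (Over.forget S)
      ext v
      constructor
      · rintro ⟨z, rfl⟩
        have hz := congrArg (fun φ : P'.left ⟶ T.left => φ z) sq₂.w
        exact ⟨_, ((pullback.snd snd (jC ≫ e)).left z).2, hz.symm⟩
      · rintro ⟨w, hw, hwv⟩
        obtain ⟨z, hz, -⟩ := Scheme.exists_preimage_of_isPullback sq₂ v ⟨w, hw⟩ hwv.symm
        exact ⟨z, hz⟩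
    exact hr ▸ isCompact_range (pullback.fst snd (jC ≫ e)).left.continuous
  have heq : snd.left ⁻¹' (A : Set T.left) = ⋃ i ∈ t, snd.left ⁻¹' (e.left '' (i.1.1.1 : Set W.left)) := by
    refine subset_antisymm (fun v hv => ?_) (Set.iUnion₂_subset fun i _ v hv => ?_)
    · simpa [Set.mem_iUnion] using ht hv
    · obtain ⟨w, hw, hwv⟩ := hv
      rw [Set.mem_preimage, ← hwv]
      exact i.2.2 hw
  change IsCompact (snd.left ⁻¹' (A : Set T.left))
  rw [heq]
  exact t.finite_toSet.isCompact_biUnion fun i _ => key i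

/-- An algebraic space all of whose affine charts have quasi-compact fibres is decent. -/
theorem isDecent_of_hasCompactFibres {X : Sp S} (hX : IsAlgSpace X) (h : HasCompactFibres X) :
    IsDecent X := by
  intro x
  obtain ⟨U₀, a₀, ha₀, hs₀⟩ := hX.atlas
  obtain ⟨u₀, rfl⟩ := surjective_ofPt hs₀ x
  obtain ⟨A, hA, hu, -⟩ := exists_isAffineOpen_mem_and_subset (show u₀ ∈ (⊤ : U₀.left.Opens) from trivial)
  let U : Over S := Over.mk (A.ι ≫ U₀.hom)
  let j : U ⟶ U₀ := Over.homMk A.ι rfl
  have ha : RepWith @Etale ((yon S).map j ≫ a₀) :=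
    repWith_comp ((repWith_yon_map_iff _ j).2 (inferInstanceAs (Etale A.ι))) ha₀
  obtain ⟨k, _, str', c, q, hq, -, -, -, hpt⟩ :=
    exists_mono_point ha (⟨u₀, hu⟩ : ↥U.left) fun V fst snd sq => h U _ hA ha _ _ _ V fst snd sq
  let p : FieldPt X := { K := k, str := str', val := (J S).uliftYonedaEquiv q }
  have hpq : p.toHom = q := (J S).uliftYonedaEquiv.symm_apply_apply q
  refine ⟨p, ?_, ?_, ?_⟩
  · refine (Points.ofPt_toHom p (IsLocalRing.closedPoint k)).symm.trans ?_
    rw [hpq]
    exact hpt.trans (ofPt_comp j a₀ _)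
  · rw [hpq]; exact hq
  · rw [hpq]
    refine repWith_qc_of_charts hX (hX.representable_from_yon q) fun W b V fst snd hW hb sq => ?_
    exact h W b hW hb k str' q V ((yon S).map snd) (pre fst) (by rw [map_pre]; exact sq.flip)

theorem isDecent_iff_hasCompactFibres {X : Sp S} (hX : IsAlgSpace X) :
    IsDecent X ↔ HasCompactFibres X :=
  ⟨hasCompactFibres_of_isDecent, isDecent_of_hasCompactFibres hX⟩

theorem hasCompactFibres_of_isQuasiSeparatedSp {X : Sp S} (hX : IsQuasiSeparatedSp X) :
    HasCompactFibres X := by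
  intro U a hU _ K _ str g V fst snd sq
  haveI := quasiCompact_from_field str
  haveI : CompactSpace ↥(pullback str U.hom) := inferInstance
  let Q : Over S := Over.mk (pullback.snd str U.hom ≫ U.hom)
  let π₁ : Q ⟶ Over.mk str := Over.homMk (pullback.fst str U.hom) pullback.condition
  let π₂ : Q ⟶ U := Over.homMk (pullback.snd str U.hom) rfl
  let ψ : (yon S).obj Q ⟶ X ⨯ X := prod.lift ((yon S).map π₁ ≫ g) ((yon S).map π₂ ≫ a)
  let l : V ⟶ Q := Over.homMk (pullback.lift snd.left (pre fst).left
    ((Over.w snd).trans (Over.w (pre fst)).symm)) (by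
      change pullback.lift _ _ _ ≫ pullback.snd str U.hom ≫ U.hom = V.hom
      rw [pullback.lift_snd_assoc]
      exact Over.w (pre fst))
  have hl₁ : l ≫ π₁ = snd := by ext : 1; exact pullback.lift_fst _ _ _
  have hl₂ : (yon S).map (l ≫ π₂) = fst := by
    rw [show l ≫ π₂ = pre fst by ext : 1; exact pullback.lift_snd _ _ _, map_pre]
  have hext : ∀ {Z : Sp S} (b b' : Z ⟶ (yon S).obj Q), b ≫ (yon S).map π₁ = b' ≫ (yon S).map π₁ →
      b ≫ (yon S).map π₂ = b' ≫ (yon S).map π₂ → b = b' := by
    intro Z b b' h₁ h₂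
    refine hom_ext fun T t => ?_
    have e₁ : pre (t ≫ b) ≫ π₁ = pre (t ≫ b') ≫ π₁ := (yon S).map_injective (by simp [h₁])
    have e₂ : pre (t ≫ b) ≫ π₂ = pre (t ≫ b') ≫ π₂ := (yon S).map_injective (by simp [h₂])
    rw [← map_pre (t ≫ b), ← map_pre (t ≫ b')]
    congr 1
    ext : 1
    exact pullback.hom_ext (congrArg CommaMorphism.left e₁) (congrArg CommaMorphism.left e₂)
  have wl : (yon S).map snd ≫ g = fst ≫ a := sq.w.symm
  have sqD : IsPullback (fst ≫ a) ((yon S).map l) (diag X) ψ := by
    refine IsPullback.of_isLimit' ⟨?_⟩ (PullbackCone.IsLimit.mk _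
      (fun x => sq.lift (x.snd ≫ (yon S).map π₂) (x.snd ≫ (yon S).map π₁) ?_) ?_ ?_ ?_)
    · ext
      · simp only [ψ, Category.assoc, prod.lift_fst, Category.comp_id]
        rw [← Functor.map_comp_assoc, hl₁, wl]
      · simp only [ψ, Category.assoc, prod.lift_snd, Category.comp_id]
        rw [← Functor.map_comp_assoc, hl₂]
    · have h1 := congrArg (· ≫ prod.fst) x.condition
      have h2 := congrArg (· ≫ prod.snd) x.condition
      simp [ψ] at h1 h2
      rw [Category.assoc, Category.assoc, ← h1, ← h2]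
    · intro x
      have h2 := congrArg (· ≫ prod.snd) x.condition
      simp [ψ] at h2
      rw [← Category.assoc, sq.lift_fst, Category.assoc, ← h2]
    · intro x
      apply hext
      · rw [Category.assoc, ← Functor.map_comp, hl₁, sq.lift_snd]
      · rw [Category.assoc, ← Functor.map_comp, hl₂, sq.lift_fst]
    · intro x n h₁ h₂
      apply sq.hom_ext
      · rw [sq.lift_fst, ← h₂, Category.assoc, ← Functor.map_comp, hl₂]
      · rw [sq.lift_snd, ← h₂, Category.assoc, ← Functor.map_comp, hl₁]
  haveI : QuasiCompact l.left := hX.2 ψ _ l sqD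
  haveI : CompactSpace ↥Q.left := ‹CompactSpace ↥(pullback str U.hom)›
  exact QuasiCompact.compactSpace_of_compactSpace l.left

theorem compactFibres_of_comp {X Y : Sp S} {f : X ⟶ Y} {U : Over S} {a : (yon S).obj U ⟶ X}
    (ha : RepWith @Etale (a ≫ f)) (hc : CompactFibres (a ≫ f)) : CompactFibres a := by
  intro K _ str g V fst snd sq
  obtain ⟨V', fst', snd', sq'⟩ := exists_sq ha.1 (g ≫ f)
  haveI := hc K str (g ≫ f) V' fst' snd' sq'
  haveI := (finite_of_compact_fibre ha sq').1
  have w : fst ≫ a ≫ f = (yon S).map snd ≫ g ≫ f := by rw [← Category.assoc, sq.w, Category.assoc]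
  let l := pre (sq'.lift fst ((yon S).map snd) w)
  haveI : Mono ((yon S).map l) := ⟨fun b b' h => sq.hom_ext
    (by simpa [l] using congrArg (· ≫ fst') h)
    (by simpa [l] using congrArg (· ≫ (yon S).map snd') h)⟩
  haveI := mono_of_map l
  haveI : Finite ↥V.left := Finite.of_injective _ l.left.injective
  exact Finite.compactSpace

end Groth.Agent.AlgSpc
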