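import Groth.Agent.AlgSpc.DecentSober
import Groth.Agent.FpqcDescent.Specialization

/-!
Dimension of decent algebraic spaces.
-/

universe u

open CategoryTheory CategoryTheory.Limits AlgebraicGeometry Opposite

set_option linter.style.haveILetI false
set_option backward.isDefEq.respectTransparency false

namespace Groth.Agent.AlgSpc

open _root_.AlgSp

variable {S : Scheme.{u}}

attribute [local instance] specializationOrder in
theorem topologicalKrullDim_le_of_injOn_fibres {α β : Type*} [TopologicalSpace α]
    [TopologicalSpace β] [QuasiSober α] [T0Space α] [QuasiSober β] [T0Space β] (f : α → β)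
    (hf : Continuous f) (hs : ∀ ⦃x y : α⦄, x ⤳ y → f x = f y → x = y) :
    topologicalKrullDim α ≤ topologicalKrullDim β := by
  rw [topologicalKrullDim, topologicalKrullDim, Order.krullDim_eq_of_orderIso irreducibleSetEquivPoints,
    Order.krullDim_eq_of_orderIso irreducibleSetEquivPoints]
  refine Order.krullDim_le_of_strictMono f fun x y h => lt_of_le_of_ne (?_ : f y ⤳ f x) ?_
  · exact (show y ⤳ x from h.le).map hf
  · exact fun e => h.ne (hs (show y ⤳ x from h.le) e.symm).symm

/-- An etale chart does not change the dimension of open subsets of a decent space. -/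
theorem topologicalKrullDim_image {X : Sp S} (hA : IsAlgSpace X) (hX : IsDecent X) {U : Over S}
    {a : (yon S).obj U ⟶ X} (ha : RepWith @Etale a) {O : Set U.left} (hO : IsOpen O) :
    topologicalKrullDim ↥O = topologicalKrullDim ↥(Points.ofPt a '' O) := by
  haveI := t0Space_of_isDecent hA hX
  haveI := quasiSober_of_isDecent hA hX
  haveI : QuasiSober ↥O := hO.isOpenEmbedding_subtypeVal.quasiSober
  haveI : QuasiSober ↥(Points.ofPt a '' O) := (isOpenMap_ofPt ha O hO).isOpenEmbedding_subtypeVal.quasiSober
  let f : O → ↥(Points.ofPt a '' O) := fun u => ⟨Points.ofPt a u.1, u.1, u.2, rfl⟩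
  refine le_antisymm (topologicalKrullDim_le_of_injOn_fibres f
    (((Points.continuous_ofPt a).comp continuous_subtype_val).subtype_mk _) fun x y h e => ?_)
    (FpqcDescent.topologicalKrullDim_le_of_generalizingMap f (fun u y h => ?_) ?_)
  · exact Subtype.ext (eq_of_specializes_of_isDecent hX ha (congrArg Subtype.val e).symm
      (h.map continuous_subtype_val)).symm
  · obtain ⟨u', hu', he⟩ := exists_specializes_lift hX ha (h.map continuous_subtype_val)
    exact ⟨⟨u', hu'.mem_open hO u.2⟩, (subtype_specializes_iff _ _).2 hu', Subtype.ext he⟩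
  · rintro ⟨_, u, hu, rfl⟩
    exact ⟨⟨u, hu⟩, rfl⟩

theorem topologicalKrullDim_points {X : Sp S} (hA : IsAlgSpace X) (hX : IsDecent X) :
    topologicalKrullDim (Points X) = AlgSp.dim X := by
  refine le_antisymm ?_ (iSup_le fun U => iSup₂_le fun a ha => ?_)
  · obtain ⟨U, a, ha, hs⟩ := hA.atlas
    have h := topologicalKrullDim_image hA hX ha isOpen_univ
    rw [Set.image_univ, (surjective_ofPt hs).range_eq] at h
    refine le_trans (le_of_eq ?_) (le_iSup_of_le U (le_iSup₂_of_le a ha le_rfl))
    rw [← IsHomeomorph.topologicalKrullDim_eq _ (Homeomorph.Set.univ (Points X)).isHomeomorph, ← h,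
      IsHomeomorph.topologicalKrullDim_eq _ (Homeomorph.Set.univ ↥U.left).isHomeomorph]
  · rw [← IsHomeomorph.topologicalKrullDim_eq _ (Homeomorph.Set.univ ↥U.left).isHomeomorph,
      topologicalKrullDim_image hA hX ha isOpen_univ]
    exact Topology.IsInducing.subtypeVal.topologicalKrullDim_le

theorem localDim_chart {X : Sp S} (hA : IsAlgSpace X) (hX : IsDecent X) {U : Over S}
    {a : (yon S).obj U ⟶ X} (ha : RepWith @Etale a) (u : ↥U.left) :
    FlatMor.localDim ↥U.left u = FlatMor.localDim (Points X) (Points.ofPt a u) := by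
  refine le_antisymm (le_iInf fun ⟨V, hV⟩ => ?_) (le_iInf fun ⟨O, hO⟩ => ?_)
  · let O : TopologicalSpace.Opens U.left :=
      ⟨Points.ofPt a ⁻¹' (V : Set (Points X)), V.2.preimage (Points.continuous_ofPt a)⟩
    refine iInf_le_of_le ⟨O, hV⟩ ?_
    change topologicalKrullDim ↥(O : Set U.left) ≤ topologicalKrullDim ↥(V : Set (Points X))
    rw [topologicalKrullDim_image hA hX ha O.isOpen]
    have hsub : Points.ofPt a '' (O : Set U.left) ⊆ (V : Set (Points X)) := Set.image_preimage_subset _ _
    exact (Topology.IsInducing.of_comp (f := Set.inclusion hsub)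
      (g := (Subtype.val : ↥(V : Set (Points X)) → Points X))
      (continuous_inclusion hsub) continuous_subtype_val
      Topology.IsInducing.subtypeVal).topologicalKrullDim_le
  · refine iInf_le_of_le ⟨⟨_, isOpenMap_ofPt ha _ O.2⟩, u, hO, rfl⟩ (le_of_eq ?_)
    exact (topologicalKrullDim_image hA hX ha O.2).symm

end Groth.Agent.AlgSpc
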