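import Groth.Agent.AlgSpc.DecentSober
import Groth.Agent.AlgSpc.Decent2
import Mathlib.AlgebraicGeometry.Properties

/-!
Generic points of irreducible components of decent algebraic spaces are the codimension zero points.
-/

universe u

open CategoryTheory CategoryTheory.Limits AlgebraicGeometry Opposite

set_option linter.style.haveILetI false
set_option backward.isDefEq.respectTransparency false

namespace Groth.Agent.AlgSpc

open _root_.AlgSp

variable {S : Scheme.{u}}

theorem ringKrullDim_stalk_eq_zero_iff {X : Scheme.{u}} (x : X) :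
    ringKrullDim ↥(X.presheaf.stalk x) = 0 ↔ ∀ y : X, y ⤳ x → y = x := by
  rw [ringKrullDim_stalk_eq_coheight, WithBot.coe_eq_zero, Order.coheight_eq_zero]
  constructor
  · intro h y hy
    exact (hy.antisymm (h hy)).eq
  · intro h y hy
    rw [h y hy]

theorem isGenericPoint_component_iff {α : Type*} [TopologicalSpace α] [QuasiSober α] [T0Space α] (x : α) :
    (∃ T ∈ irreducibleComponents α, IsGenericPoint x T) ↔ ∀ y, y ⤳ x → y = x := by
  refine ⟨?_, fun h => ⟨closure {x}, ⟨isIrreducible_singleton.closure, fun T hT hle => ?_⟩, rfl⟩⟩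
  · rintro ⟨T, hT, hx⟩ y hy
    have h1 : T ⊆ closure {y} := by
      rw [← hx]; exact closure_minimal (Set.singleton_subset_iff.2 hy.mem_closure) isClosed_closure
    exact IsGenericPoint.eq (show IsGenericPoint y T from (h1.antisymm (hT.2 isIrreducible_singleton.closure h1)).symm) hx
  · have hg := hT.isGenericPoint_genericPoint_closure
    have hxT : hT.genericPoint ⤳ x := hg.specializes (subset_closure (hle (subset_closure rfl)))
    rw [h _ hxT] at hg
    exact subset_closure.trans (le_of_eq hg.symm)

variable {X : Sp S}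

/-- A chart is maximal exactly over the maximal points. -/
theorem maximal_chart_iff (hA : IsAlgSpace X) (hX : IsDecent X) {U : Over S} {a : (yon S).obj U ⟶ X}
    (ha : RepWith @Etale a) (u : ↥U.left) :
    (∀ u' : ↥U.left, u' ⤳ u → u' = u) ↔ ∀ y, y ⤳ Points.ofPt a u → y = Points.ofPt a u := by
  haveI := t0Space_of_isDecent hA hX
  constructor
  · intro h y hy
    obtain ⟨u', hu', rfl⟩ := exists_specializes_lift hX ha hy
    rw [h u' hu']
  · intro h u' hu'
    exact (eq_of_specializes_of_isDecent hX ha (h _ (hu'.map (Points.continuous_ofPt a))).symm hu').symm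

theorem generic_iff_codimZero (hA : IsAlgSpace X) (hX : IsDecent X) (x : Points X) :
    (∃ T ∈ irreducibleComponents (Points X), IsGenericPoint x T) ↔
      HasAt (fun U u => ringKrullDim ↥(U.presheaf.stalk u) = 0) X x := by
  haveI := t0Space_of_isDecent hA hX
  haveI := quasiSober_of_isDecent hA hX
  rw [isGenericPoint_component_iff]
  constructor
  · intro h
    obtain ⟨U, a, ha, hs⟩ := hA.atlas
    obtain ⟨u, rfl⟩ := surjective_ofPt hs x
    exact ⟨U, a, u, ha, rfl, (ringKrullDim_stalk_eq_zero_iff u).2 ((maximal_chart_iff hA hX ha u).2 h)⟩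
  · rintro ⟨U, a, u, ha, rfl, h⟩
    exact (maximal_chart_iff hA hX ha u).1 ((ringKrullDim_stalk_eq_zero_iff u).1 h)

theorem generic_iff_of_etale {Y : Sp S} (hA : IsAlgSpace X) (hB : IsAlgSpace Y) (hX : IsDecent X)
    {f : Y ⟶ X} (hf : IsEtaleMor f) (y : Points Y) :
    (∃ T ∈ irreducibleComponents (Points Y), IsGenericPoint y T) ↔
      ∃ T ∈ irreducibleComponents (Points X), IsGenericPoint (Points.map f y) T := by
  haveI := t0Space_of_isDecent hA hX
  haveI := quasiSober_of_isDecent hA hX
  rw [isGenericPoint_component_iff (Points.map f y)]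
  obtain ⟨V, b, hb, hbs⟩ := hB.atlas
  obtain ⟨v, rfl⟩ := surjective_ofPt hbs y
  have hab : RepWith @Etale (b ≫ f) := hf b hb
  rw [Points.map_ofPt]
  constructor
  · rintro ⟨T, hT, hg⟩
    refine (maximal_chart_iff hA hX hab v).1 fun v' hv' => ?_
    have h₁ := hv'.map (Points.continuous_ofPt b)
    have h₂ : T ⊆ closure {Points.ofPt b v'} := by
      rw [← hg]; exact closure_minimal (Set.singleton_subset_iff.2 h₁.mem_closure) isClosed_closure
    have h₃ : Points.ofPt b v ⤳ Points.ofPt b v' :=
      hg.specializes ((hT.2 isIrreducible_singleton.closure h₂) (subset_closure rfl))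
    refine (eq_of_specializes_of_isDecent hX hab ?_ hv').symm
    have h₄ := (h₁.antisymm h₃).map (Points.continuous_map f)
    exact h₄.eq.symm
  · intro hm
    have hv := (maximal_chart_iff hA hX hab v).2 hm
    refine ⟨closure {Points.ofPt b v}, ⟨isIrreducible_singleton.closure, fun T hT hle t ht => ?_⟩, rfl⟩
    obtain ⟨A, hA', hvA, -⟩ := exists_isAffineOpen_mem_and_subset (show v ∈ (⊤ : V.left.Opens) from trivial)
    let x := Points.ofPt (b ≫ f) v
    -- `T` lies over the closure of `x`
    have hTx : ∀ t ∈ T, x ⤳ Points.map f t := by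
      have hi := hT.image (Points.map f) (Points.continuous_map f).continuousOn
      have hg := hi.isGenericPoint_genericPoint_closure
      have h1 : hi.genericPoint ⤳ x :=
        hg.specializes (subset_closure ⟨_, hle (subset_closure rfl), Points.map_ofPt b f v⟩)
      intro t ht
      have := hg.specializes (subset_closure ⟨t, ht, rfl⟩)
      rwa [hm _ h1] at this
    refine mem_closure_iff.2 fun W hW htW => ⟨_, ?_, rfl⟩
    let E : Set V.left := Points.ofPt b ⁻¹' (T ∩ W) ∩ A
    have hvE : v ∈ closure E := by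
      refine mem_closure_iff.2 fun O hO hvO => ?_
      obtain ⟨t', ht'T, ht'W, ⟨e, ⟨he₁, he₂⟩, rfl⟩⟩ := hT.2 W (Points.ofPt b '' (O ∩ A)) hW
        (isOpenMap_ofPt hb _ (hO.inter A.2)) ⟨t, ht, htW⟩
        ⟨_, hle (subset_closure rfl), v, ⟨hvO, hvA⟩, rfl⟩
      exact ⟨e, he₁, ⟨⟨ht'T, ht'W⟩, he₂⟩⟩
    have hF := finite_preimage_point_inter hX hab hA' x
    have hsub : E ⊆ ⋃ c ∈ (Points.ofPt (b ≫ f) ⁻¹' {x} ∩ (A : Set V.left)), E ∩ closure {c} := by
      intro e he
      obtain ⟨c, hc, hcx⟩ := exists_specializes_lift hX hab (u := e) (y := x)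
        (by rw [← Points.map_ofPt]; exact hTx _ he.1.1)
      exact Set.mem_biUnion ⟨hcx, hc.mem_open A.2 he.2⟩ ⟨he, hc.mem_closure⟩
    have := closure_mono hsub hvE
    rw [hF.closure_biUnion] at this
    obtain ⟨c, hc, hvc⟩ := Set.mem_iUnion₂.1 this
    obtain rfl : c = v := hv c (specializes_iff_mem_closure.2
      (closure_minimal Set.inter_subset_right isClosed_closure hvc))
    obtain ⟨e, he, hce⟩ := closure_nonempty_iff.1 ⟨_, hvc⟩
    exact ((specializes_iff_mem_closure.2 hce).map (Points.continuous_ofPt b)).mem_open hW he.1.2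

end Groth.Agent.AlgSpc
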