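import Groth.Agent.AlgSpc.Decent2
import Groth.Agent.GenFlat.FppfSource
import Mathlib.AlgebraicGeometry.Morphisms.Finite
import Mathlib.AlgebraicGeometry.Morphisms.QuasiFinite
import Mathlib.Topology.JacobsonSpace

/-!
Closed points and the Jacobson property of decent algebraic spaces.
-/

universe u

open CategoryTheory CategoryTheory.Limits AlgebraicGeometry Opposite

set_option linter.style.haveILetI false
set_option backward.isDefEq.respectTransparency false

namespace Groth.Agent.AlgSpc

open _root_.AlgSp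

variable {S : Scheme.{u}} {X : Sp S}

/-- Closedness of points of charts passes to Jacobson charts. -/
theorem isClosed_point_of_chart {U V : Over S} [JacobsonSpace ↥V.left] {a : (yon S).obj U ⟶ X}
    {b : (yon S).obj V ⟶ X} (ha : RepWith @Etale a) (hb : RepWith @Etale b) {u : ↥U.left} {v : ↥V.left}
    (e : Points.ofPt a u = Points.ofPt b v) (hu : IsClosed ({u} : Set U.left)) :
    IsClosed ({v} : Set V.left) := by
  obtain ⟨R, fst, snd, sq⟩ := exists_sq ha.1 b
  haveI : Etale snd.left := ha.2 _ _ _ sq
  haveI : Etale (pre fst).left := sq_etale sq hb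
  obtain ⟨r, hr₁, hr₂⟩ := exists_point_of_sq sq (Points.ofScheme U u) v
    (by rw [← Points.ofPt_eq_map_ofScheme, e])
  have hru : (pre fst).left r = u := by
    have h' := congrArg (Points.toScheme U) hr₁
    rwa [← map_pre fst, Points.toScheme_ofPt, Points.toScheme_ofScheme] at h'
  haveI : LocallyQuasiFinite (pre fst).left := AlgSpLoc.locallyQuasiFinite_of_etale _
  have hF : IsClosed ((pre fst).left ⁻¹' {u}) := hu.preimage (pre fst).left.continuous
  have hr : IsClosed ({r} : Set R.left) := by
    haveI := ((pre fst).left.isDiscrete_preimage_singleton u).to_subtype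
    have := hF.isClosedEmbedding_subtypeVal.isClosedMap _
      (isClosed_discrete ({⟨r, hru⟩} : Set ↥((pre fst).left ⁻¹' {u})))
    rwa [Set.image_singleton] at this
  rw [← hr₂]
  exact snd.left.closePoints_subset_preimage_closedPoints hr

/-- Closed points of charts over a decent space with a Jacobson atlas are closed. -/
theorem isClosed_ofPt (hA : IsAlgSpace X) (hX : IsDecent X)
    (hJ : EtaleLocally (fun U => JacobsonSpace ↥U) X) {U : Over S} {a : (yon S).obj U ⟶ X}
    (ha : RepWith @Etale a) {u : ↥U.left} (hu : IsClosed ({u} : Set U.left)) :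
    IsClosed ({Points.ofPt a u} : Set (Points X)) := by
  obtain ⟨V, b, hb, hbs, hV⟩ := hJ
  haveI := hV
  refine isClosed_of_closure_subset fun y hy => ?_
  obtain ⟨v, rfl⟩ := surjective_ofPt hbs y
  obtain ⟨v', hv', he⟩ := exists_specializes_lift hX hb (specializes_iff_mem_closure.2 hy)
  have hc := isClosed_point_of_chart ha hb he.symm hu
  have : v ∈ closure {v'} := hv'.mem_closure
  rw [hc.closure_eq] at this
  rw [Set.mem_singleton_iff.1 this, he]
  rfl

/-- Preimages of closed points in charts of decent spaces are closed points. -/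
theorem isClosed_of_isClosed_ofPt (hX : IsDecent X) {U : Over S} {a : (yon S).obj U ⟶ X}
    (ha : RepWith @Etale a) {u : ↥U.left} (hu : IsClosed ({Points.ofPt a u} : Set (Points X))) :
    IsClosed ({u} : Set U.left) := by
  refine isClosed_of_closure_subset fun u' hu' => ?_
  have hs := specializes_iff_mem_closure.2 hu'
  have h' : Points.ofPt a u' = Points.ofPt a u := by
    have := (hs.map (Points.continuous_ofPt a)).mem_closure
    rwa [hu.closure_eq] at this
  exact eq_of_specializes_of_isDecent hX ha h' hs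

/-- Along a morphism with Jacobson source, the points with the same image as a closed point are closed. -/
theorem isClosed_of_map_eq {P W : Scheme.{u}} [JacobsonSpace ↥P] (f : P ⟶ W) [LocallyOfFiniteType f]
    [LocallyQuasiFinite f] {p p' : P} (hp : IsClosed ({p} : Set P)) (h : f p' = f p) : IsClosed ({p'} : Set P) := by
  haveI := isClosed_singleton_iff_locallyOfFiniteType.1 hp
  haveI : LocallyOfFiniteType (Spec.map (f.residueFieldMap p) ≫ W.fromSpecResidueField (f p)) := by
    rw [Scheme.Hom.SpecMap_residueFieldMap_fromSpecResidueField]; infer_instance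
  haveI : LocallyOfFiniteType (Spec.map (f.residueFieldMap p)) :=
    locallyOfFiniteType_of_comp _ (W.fromSpecResidueField (f p))
  letI : Field ↑(W.residueField (f p)) := inferInstance
  haveI : IsLocallyNoetherian (Spec (W.residueField (f p))) := inferInstance
  haveI : LocallyOfFinitePresentation (Spec.map (f.residueFieldMap p)) :=
    LocallyOfFinitePresentation.iff_locallyOfFiniteType.2 ‹_›
  haveI : Flat (Spec.map (f.residueFieldMap p)) := by
    rw [Flat.SpecMap_iff]
    letI := (f.residueFieldMap p).hom.toAlgebra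
    exact RingHom.flat_algebraMap_iff.2 inferInstance
  haveI : Surjective (Spec.map (f.residueFieldMap p)) :=
    ⟨fun x => ⟨IsLocalRing.closedPoint _, @Subsingleton.elim (PrimeSpectrum ↑(W.residueField (f p))) _ _ _⟩⟩
  haveI : LocallyOfFiniteType (W.fromSpecResidueField (f p)) :=
    GenFlat.locallyOfFiniteType_of_fppf_comp (Spec.map (f.residueFieldMap p)) _
  rw [isClosed_singleton_iff_locallyOfFiniteType]
  haveI : LocallyOfFiniteType (W.fromSpecResidueField (f p')) := h ▸ ‹_›
  haveI : DiscreteTopology ↥(f.fiber (f p')) :=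
    haveI := (f.isDiscrete_preimage_singleton (f p')).to_subtype
    (f.fiberHomeo (f p')).isEmbedding.discreteTopology
  haveI : IsPreimmersion (f.asFiberHom p' ≫ f.fiberι (f p')) := by
    rw [Scheme.Hom.asFiberHom_fiberι]; infer_instance
  haveI : IsPreimmersion (f.asFiberHom p') := IsPreimmersion.of_comp _ (f.fiberι (f p'))
  haveI : IsClosedImmersion (f.asFiberHom p') := IsClosedImmersion.of_isPreimmersion _ (isClosed_discrete _)
  haveI : LocallyOfFiniteType (f.fiberToSpecResidueField (f p')) :=
    MorphismProperty.pullback_snd _ _ inferInstance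
  haveI : LocallyOfFiniteType (P.fromSpecResidueField p' ≫ f) := by
    rw [← Scheme.Hom.asFiberHom_fiberι, Category.assoc, Scheme.Hom.fiber_fac]; infer_instance
  exact locallyOfFiniteType_of_comp _ f

theorem hasAt_closed_iff (hA : IsAlgSpace X) (hX : IsDecent X)
    (hJ : EtaleLocally (fun U => JacobsonSpace ↥U) X) (x : Points X) :
    HasAt (fun U u => IsClosed ({u} : Set ↥U)) X x ↔ IsClosed ({x} : Set (Points X)) := by
  constructor
  · rintro ⟨U, a, u, ha, rfl, hu⟩
    exact isClosed_ofPt hA hX hJ ha hu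
  · intro hx
    obtain ⟨U, a, ha, hs⟩ := hA.atlas
    obtain ⟨u, rfl⟩ := surjective_ofPt hs x
    exact ⟨U, a, u, ha, rfl, isClosed_of_isClosed_ofPt hX ha hx⟩

theorem jacobson_iff (hA : IsAlgSpace X) (hX : IsDecent X) :
    EtaleLocally (fun U => JacobsonSpace ↥U) X ↔ JacobsonSpace (Points X) := by
  constructor
  · intro hJ
    obtain ⟨V, b, hb, hbs, hV⟩ := hJ
    haveI := hV
    refine jacobsonSpace_iff_locallyClosed.2 fun Z ⟨z, hz⟩ hZ => ?_
    obtain ⟨v, rfl⟩ := surjective_ofPt hbs z
    obtain ⟨w, hw, hwc⟩ := nonempty_inter_closedPoints (Z := Points.ofPt b ⁻¹' Z) ⟨v, hz⟩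
      (hZ.preimage (Points.continuous_ofPt b))
    exact ⟨_, hw, isClosed_ofPt hA hX ⟨V, b, hb, hbs, hV⟩ hb hwc⟩
  · intro hJ
    obtain ⟨U, a, ha, hs⟩ := hA.atlas
    refine ⟨U, a, ha, hs, jacobsonSpace_iff_locallyClosed.2 fun Z ⟨z, hz⟩ hZ => ?_⟩
    obtain ⟨O, C, hO, hC, rfl⟩ := hZ
    obtain ⟨A, hA', hzA, -⟩ := exists_isAffineOpen_mem_and_subset (show z ∈ (⊤ : U.left.Opens) from trivial)
    let F := (Points.ofPt a ⁻¹' {Points.ofPt a z} ∩ (A : Set U.left)) \ {z}
    have hF : F.Finite := (finite_preimage_point_inter hX ha hA' _).sdiff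
    let W : Set U.left := (O ∩ A) \ ⋃ c ∈ F, closure {c}
    have hW : IsOpen W := (hO.inter A.2).sdiff (hF.isClosed_biUnion fun c _ => isClosed_closure)
    have hzW : z ∈ W := by
      refine ⟨⟨hz.1, hzA⟩, fun h => ?_⟩
      obtain ⟨c, hc, hzc⟩ := Set.mem_iUnion₂.1 h
      exact hc.2 (eq_of_specializes_of_isDecent hX ha hc.1.1.symm (specializes_iff_mem_closure.2 hzc)).symm
    obtain ⟨x, ⟨hxT, u, hu, rfl⟩, hxc⟩ := nonempty_inter_closedPoints
      (Z := closure {Points.ofPt a z} ∩ Points.ofPt a '' W) ⟨_, subset_closure rfl, z, hzW, rfl⟩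
      (isClosed_closure.isLocallyClosed.inter (isOpenMap_ofPt ha _ hW).isLocallyClosed)
    refine ⟨u, ⟨hu.1.1, ?_⟩, isClosed_of_isClosed_ofPt hX ha hxc⟩
    obtain ⟨z', hz', he⟩ := exists_specializes_lift hX ha (specializes_iff_mem_closure.2 hxT)
    obtain rfl : z' = z := by
      by_contra hne
      exact hu.2 (Set.mem_biUnion ⟨⟨he, hz'.mem_open A.2 hu.1.2⟩, hne⟩ hz'.mem_closure)
    exact hz'.mem_closed hC hz.2

end Groth.Agent.AlgSpc
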