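import Groth.Agent.AlgSpc.EtPoints
import Groth.Agent.OEtStalk.Apply

/-!
# Etale neighbourhoods of a geometric point are initially small
-/

set_option autoImplicit false
set_option linter.style.haveILetI false
set_option backward.isDefEq.respectTransparency false
universe u

open CategoryTheory CategoryTheory.Limits AlgebraicGeometry Opposite

namespace Groth.Agent.AlgSpc

open Groth.Agent.Hensel Groth.Agent.OEtStalk _root_.AlgSp

variable {S : Scheme.{u}} {X : Sp S}

theorem initiallySmall_etNbhd (hX : IsAlgSpace X) (p : FieldPt X) (hp : p.IsGeometric) :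
    InitiallySmall.{u} (EtNbhd p) := by
  haveI := isCofiltered_etNbhd hX p hp
  obtain ⟨N0⟩ := IsCofiltered.nonempty (C := EtNbhd p)
  obtain ⟨E0, t0, ht0⟩ := N0
  let U0 := E0.obj.left.left
  let x : U0 := t0.left (IsLocalRing.closedPoint p.K)
  obtain ⟨_, ⟨V, hV, rfl⟩, hxV, -⟩ :=
    U0.isBasis_affineOpens.exists_subset_of_mem_open (Set.mem_univ x) isOpen_univ
  have hrange : Set.range t0.left ⊆ Set.range hV.fromSpec := by
    rintro _ ⟨z, rfl⟩
    rw [hV.range_fromSpec]
    rwa [Subsingleton.elim (α := PrimeSpectrum p.K) z (IsLocalRing.closedPoint p.K)]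
  let l := IsOpenImmersion.lift hV.fromSpec t0.left hrange
  letI : Algebra Γ(U0, V) p.K := (Spec.preimage l).hom.toAlgebra
  let j : p.K →+* p.K := RingHom.id _
  have h0 : Spec.map (CommRingCat.ofHom (j.comp (algebraMap Γ(U0, V) p.K))) ≫ hV.fromSpec = t0.left := by
    show Spec.map (Spec.preimage l) ≫ hV.fromSpec = t0.left
    rw [Spec.map_preimage]
    exact IsOpenImmersion.lift_fac _ _ _
  let WX : Nbhd Γ(U0, V) p.K → Over S := fun N => Over.mk (nbhdMap hV N ≫ E0.obj.left.hom)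
  let mX : ∀ N, WX N ⟶ E0.obj.left := fun N => Over.homMk (nbhdMap hV N) rfl
  have hmX : ∀ N, RepWith @Etale ((yon S).map (mX N) ≫ E0.obj.hom) := fun N =>
    repWith_comp ((repWith_yon_map_iff (P := @Etale) _).2 (etale_nbhdMap hV N)) E0.property
  let tX : ∀ N, p.pt ⟶ WX N := fun N => Over.homMk (nbhdPt j N) (by
    show nbhdPt j N ≫ nbhdMap hV N ≫ E0.obj.left.hom = p.pt.hom
    rw [← Category.assoc, nbhdPt_comp hV j t0.left h0, Over.w t0])
  have htX : ∀ N, tX N ≫ mX N = t0 := fun N => Over.OverMorphism.ext (nbhdPt_comp hV j t0.left h0 N)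
  let NX : Nbhd Γ(U0, V) p.K → EtNbhd p := fun N =>
    ⟨EtOver.mk ((yon S).map (mX N) ≫ E0.obj.hom) (hmX N), ⟨tX N, by
      show (yon S).map (tX N) ≫ (yon S).map (mX N) ≫ E0.obj.hom = p.toHom
      rw [← Functor.map_comp_assoc, htX, ht0]⟩⟩
  refine initiallySmall_of_small_weakly_initial_set (Set.range NX) fun M => ?_
  obtain ⟨L, g1, g, -⟩ := IsCofilteredOrEmpty.cone_objs M (⟨E0, ⟨t0, ht0⟩⟩ : EtNbhd p)
  haveI : Etale g.val.hom.left.left := EtOver.etale_left g.val
  have hg : L.2.1 ≫ g.val.hom.left = t0 := congrArg Subtype.val g.property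
  obtain ⟨N, m, hm, hmt⟩ := exists_factor hV j t0.left h0 (fun E _ _ _ σ _ e => ⟨σ e, rfl⟩)
    g.val.hom.left.left L.2.1.left (congrArg CommaMorphism.left hg)
  let m' : WX N ⟶ L.1.obj.left := Over.homMk m (by
    show m ≫ L.1.obj.left.hom = nbhdMap hV N ≫ E0.obj.left.hom
    rw [← hm, Category.assoc, Over.w g.val.hom.left])
  have hm' : m' ≫ g.val.hom.left = mX N := Over.OverMorphism.ext hm
  have hw : (yon S).map m' ≫ L.1.obj.hom = (NX N).1.obj.hom := by
    show (yon S).map m' ≫ L.1.obj.hom = (yon S).map (mX N) ≫ E0.obj.hom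
    rw [← hm', Functor.map_comp, Category.assoc, EtOver.w g.val]
  exact ⟨NX N, ⟨N, rfl⟩,
    ⟨CategoryOfElements.homMk _ _ (EtOver.homMk m' hw) (Subtype.ext (Over.OverMorphism.ext hmt)) ≫ g1⟩⟩

theorem exists_point_fiber_eq_liftsTo (hX : IsAlgSpace X) (p : FieldPt X) (hp : p.IsGeometric) :
    ∃ P : GrothendieckTopology.Point.{u} (etTop X), P.fiber = p.liftsTo :=
  ⟨{ fiber := p.liftsTo
     isCofiltered := isCofiltered_etNbhd hX p hp
     initiallySmall := initiallySmall_etNbhd hX p hp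
     jointly_surjective := fun R h x => (mem_liftTop_iff hX p hp R).1 (etTop_le_liftTop hX p hp _ h) x }, rfl⟩

end Groth.Agent.AlgSpc
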