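import Groth.Agent.AlgSpc.EtNbhdCof
import Groth.Agent.AlgSpc.EtLocInst
import Mathlib.CategoryTheory.Sites.Point.Conservative
import Mathlib.Algebra.Category.Grp.AB

/-!
# The points of the small etale site of an algebraic space given by geometric points
-/

set_option autoImplicit false
set_option linter.style.haveILetI false
set_option backward.isDefEq.respectTransparency false
universe u v w

open CategoryTheory CategoryTheory.Limits AlgebraicGeometry Opposite

namespace Groth.Agent.AlgSpc

open _root_.AlgSp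

variable {S : Scheme.{u}} {X : Sp S}

/-- A geometric point of the target of an etale morphism lifts through every point over it. -/
theorem exists_lift_of_etale {K : Type u} [Field K] [IsAlgClosed K] {W U : Scheme.{u}} (h : W ⟶ U) [Etale h]
    (t : Spec (CommRingCat.of K) ⟶ U) (w : W) (hw : h w = t (IsLocalRing.closedPoint K)) :
    ∃ s : Spec (CommRingCat.of K) ⟶ W, s ≫ h = t ∧ s (IsLocalRing.closedPoint K) = w := by
  obtain ⟨z, hz1, -⟩ := Scheme.Pullback.exists_preimage_pullback (f := h) (g := t) w (IsLocalRing.closedPoint K) hw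
  haveI : LocallyQuasiFinite (pullback.snd h t) := lqf_of_etale _
  haveI : DiscreteTopology ↥(pullback h t) := by
    have h1 := (pullback.snd h t).isDiscrete_preimage_singleton (IsLocalRing.closedPoint K)
    have h2 : (pullback.snd h t) ⁻¹' {IsLocalRing.closedPoint K} = Set.univ :=
      Set.eq_univ_of_forall fun z => Subsingleton.elim (α := PrimeSpectrum K) _ _
    rw [h2] at h1
    exact isDiscrete_univ_iff.1 h1
  let s := pointOfClosedPoint (pullback.snd h t) z (isClosed_discrete _)
  have hs : s ≫ pullback.snd h t = 𝟙 _ := pointOfClosedPoint_comp _ z _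
  refine ⟨s ≫ pullback.fst h t, ?_, ?_⟩
  · rw [Category.assoc, pullback.condition, reassoc_of% hs]
  · rw [Scheme.Hom.comp_apply, show s (IsLocalRing.closedPoint K) = z from pointOfClosedPoint_apply _ _ _ _, hz1]

theorem exists_lift_etOver (p : FieldPt X) (hp : p.IsGeometric) {E E' : EtOver X} (g : E' ⟶ E)
    (x : p.liftsTo.obj E) (w : ↥E'.obj.left.left)
    (hw : g.hom.left.left w = x.1.left (IsLocalRing.closedPoint p.K)) :
    ∃ y : p.liftsTo.obj E', p.liftsTo.map g y = x := by
  haveI : IsAlgClosed p.K := hp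
  haveI : Etale g.hom.left.left := EtOver.etale_left g
  obtain ⟨s, hs, -⟩ := exists_lift_of_etale g.hom.left.left x.1.left w hw
  let s' : p.pt ⟶ E'.obj.left := Over.homMk s (by
    rw [← Over.w g.hom.left, ← Category.assoc, hs, Over.w])
  have hs' : s' ≫ g.hom.left = x.1 := Over.OverMorphism.ext hs
  refine ⟨⟨s', ?_⟩, Subtype.ext hs'⟩
  rw [← EtOver.w g, ← Category.assoc, ← Functor.map_comp, hs']
  exact x.2

theorem exists_lift_etNbhd_of_mem_etPre (p : FieldPt X) (hp : p.IsGeometric) (N : EtNbhd p) {ι : Type w}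
    (Ui : ι → EtOver X) (g : ∀ i, Ui i ⟶ N.1) (hcov : Presieve.ofArrows Ui g ∈ etPre X N.1) :
    ∃ (i : ι) (ui : p.liftsTo.obj (Ui i)), p.liftsTo.map (g i) ui = N.2 := by
  obtain ⟨i, w, hw⟩ := (ofArrows_mem_etPre_iff Ui g).1 hcov (N.2.1.left (IsLocalRing.closedPoint p.K))
  exact ⟨i, exists_lift_etOver p hp (g i) N.2 w hw⟩

/-- The sieves on which every lift of a geometric point lifts. -/
def liftTop (hX : IsAlgSpace X) (p : FieldPt X) (hp : p.IsGeometric) : GrothendieckTopology (EtOver X) where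
  sieves E := {R | ∀ x : p.liftsTo.obj E, ∃ (Y : EtOver X) (f : Y ⟶ E) (_ : R f) (y : p.liftsTo.obj Y),
    p.liftsTo.map f y = x}
  top_mem' E x := ⟨E, 𝟙 E, trivial, x, (p.liftsTo.map_id E).symm ▸ rfl⟩
  pullback_stable' := by
    intro E E' R h hR x
    haveI := isCofiltered_etNbhd hX p hp
    obtain ⟨Y, f, hf, y, hy⟩ := hR (p.liftsTo.map h x)
    let A : EtNbhd p := ⟨E', x⟩
    let B : EtNbhd p := ⟨Y, y⟩
    let C : EtNbhd p := ⟨E, p.liftsTo.map h x⟩
    let hA : A ⟶ C := CategoryOfElements.homMk A C h rfl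
    let hB : B ⟶ C := CategoryOfElements.homMk B C f hy
    obtain ⟨W, a, b, -⟩ := IsCofilteredOrEmpty.cone_objs A B
    let e := IsCofiltered.eqHom (a ≫ hA) (b ≫ hB)
    have he : (e ≫ a).val ≫ h = (e ≫ b).val ≫ f :=
      congrArg Subtype.val (by
        rw [Category.assoc, Category.assoc]
        exact IsCofiltered.eq_condition (a ≫ hA) (b ≫ hB) : (e ≫ a) ≫ hA = (e ≫ b) ≫ hB)
    refine ⟨_, (e ≫ a).val, ?_, _, (e ≫ a).property⟩
    show R ((e ≫ a).val ≫ h)
    rw [he]
    exact R.downward_closed hf _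
  transitive' := by
    intro E R hR T hT x
    obtain ⟨Y, f, hf, y, hy⟩ := hR x
    obtain ⟨Z, g, hg, z, hz⟩ := hT hf y
    exact ⟨Z, g ≫ f, hg, z, by rw [Functor.map_comp_apply, hz, hy]⟩

theorem mem_liftTop_iff (hX : IsAlgSpace X) (p : FieldPt X) (hp : p.IsGeometric) {E : EtOver X} (R : Sieve E) :
    R ∈ liftTop hX p hp E ↔ ∀ x : p.liftsTo.obj E, ∃ (Y : EtOver X) (f : Y ⟶ E) (_ : R f) (y : p.liftsTo.obj Y),
      p.liftsTo.map f y = x :=
  Iff.rfl

theorem etTop_le_liftTop (hX : IsAlgSpace X) (p : FieldPt X) (hp : p.IsGeometric) :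
    etTop X ≤ liftTop hX p hp := by
  refine Precoverage.toGrothendieck_le_iff_le_toPrecoverage.2 fun E R hR => ?_
  obtain ⟨ι, Y, g, rfl⟩ := R.exists_eq_ofArrows
  rw [GrothendieckTopology.mem_toPrecoverage_iff, mem_liftTop_iff]
  intro x
  obtain ⟨i, y, hy⟩ := exists_lift_etNbhd_of_mem_etPre p hp ⟨E, x⟩ Y g hR
  exact ⟨Y i, g i, Sieve.le_generate _ _ _ ⟨i⟩, y, hy⟩

/-- Etale neighbourhoods as elements of the lifted fibre functor. -/
noncomputable def toElements (p : FieldPt X) : EtNbhd p ⥤ (p.liftsTo ⋙ uliftFunctor.{u + 1, u}).Elements where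
  obj N := ⟨N.1, ULift.up N.2⟩
  map g := CategoryOfElements.homMk _ _ g.val (congrArg ULift.up g.property)

instance (p : FieldPt X) : (toElements p).IsEquivalence where
  faithful := ⟨fun {_ _} _ _ h => CategoryOfElements.ext _ _ _ (congrArg Subtype.val h :)⟩
  full := ⟨fun {_ _} g => ⟨CategoryOfElements.homMk _ _ g.val (congrArg ULift.down g.property), rfl⟩⟩
  essSurj := ⟨fun N => ⟨⟨N.1, N.2.down⟩, ⟨Iso.refl _⟩⟩⟩

/-- The point of the small etale site given by a geometric point. -/
noncomputable def etPoint (hX : IsAlgSpace X) (p : FieldPt X) (hp : p.IsGeometric) :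
    GrothendieckTopology.Point.{u + 1} (etTop X) where
  fiber := p.liftsTo ⋙ uliftFunctor.{u + 1, u}
  isCofiltered :=
    haveI := isCofiltered_etNbhd hX p hp
    IsCofiltered.of_equivalence (toElements p).asEquivalence
  initiallySmall := initiallySmall_of_essentiallySmall _
  jointly_surjective R h x := by
    obtain ⟨Y, f, hf, y, hy⟩ := (mem_liftTop_iff hX p hp _).1 (etTop_le_liftTop hX p hp _ h) x.down
    exact ⟨Y, f, hf, ULift.up y, congrArg ULift.up hy⟩

/-- The stalk functor on presheaves is the fibre functor of the point. -/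
noncomputable def stalkPshIso (hX : IsAlgSpace X) (p : FieldPt X) (hp : p.IsGeometric) (A : Type v) [Category.{w} A]
    [HasColimitsOfSize.{u + 1, u + 1} A] [HasColimitsOfShape (EtNbhd p)ᵒᵖ A] :
    stalkEtPshFunctor A p ≅ (etPoint hX p hp).presheafFiber (A := A) :=
  haveI : HasColimitsOfShape (p.liftsTo ⋙ uliftFunctor.{u + 1, u}).Elementsᵒᵖ A :=
    inferInstanceAs (HasColimitsOfShape (etPoint hX p hp).fiber.Elementsᵒᵖ A)
  Functor.isoWhiskerLeft
    ((Functor.whiskeringLeft _ _ A).obj (CategoryOfElements.π (p.liftsTo ⋙ uliftFunctor.{u + 1, u})).op)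
    (Functor.Final.colimIso (toElements p).op)

/-- The stalk functor on sheaves is the fibre functor of the point. -/
noncomputable def stalkIso (hX : IsAlgSpace X) (p : FieldPt X) (hp : p.IsGeometric) (A : Type v) [Category.{w} A]
    [HasColimitsOfSize.{u + 1, u + 1} A] [HasColimitsOfShape (EtNbhd p)ᵒᵖ A] :
    stalkEtFunctor A p ≅ (etPoint hX p hp).sheafFiber (A := A) :=
  Functor.isoWhiskerLeft (sheafToPresheaf (etTop X) A) (stalkPshIso hX p hp A)

/-- The family of points given by geometric points. -/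
def etPoints (hX : IsAlgSpace X) : ObjectProperty (GrothendieckTopology.Point.{u + 1} (etTop X)) :=
  ObjectProperty.ofObj fun q : {p : FieldPt X // p.IsGeometric} => etPoint hX q.1 q.2

theorem etPoints_conservative (hX : IsAlgSpace X) : (etPoints hX).IsConservativeFamilyOfPoints := by
  refine ObjectProperty.IsConservativeFamilyOfPoints.mk' fun E R hR => ?_
  have key : ∀ u : ↥E.obj.left.left, ∃ (Y : EtOver X) (f : Y ⟶ E) (_ : R f), u ∈ Set.range f.hom.left.left := by
    intro u
    let K := AlgebraicClosure (E.obj.left.left.residueField u)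
    let t : Spec (CommRingCat.of K) ⟶ E.obj.left.left :=
      Spec.map (CommRingCat.ofHom (algebraMap (E.obj.left.left.residueField u) K)) ≫
        E.obj.left.left.fromSpecResidueField u
    let t' : Over.mk (t ≫ E.obj.left.hom) ⟶ E.obj.left := Over.homMk t rfl
    let p : FieldPt X := ⟨K, t ≫ E.obj.left.hom, (J S).uliftYonedaEquiv ((yon S).map t' ≫ E.obj.hom)⟩
    have hp : p.IsGeometric := AlgebraicClosure.isAlgClosed _
    let x : p.liftsTo.obj E := ⟨t', (Equiv.symm_apply_apply (J S).uliftYonedaEquiv _).symm⟩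
    obtain ⟨Y, f, hf, y, hy⟩ := hR ⟨etPoint hX p hp, ⟨(⟨p, hp⟩ : {p : FieldPt X // p.IsGeometric})⟩⟩ (ULift.up x)
    refine ⟨Y, f, hf, y.down.1.left (IsLocalRing.closedPoint K), ?_⟩
    have h1 : y.down.1.left ≫ f.hom.left.left = t :=
      congrArg (fun z : ULift (p.liftsTo.obj E) => z.down.1.left) hy
    rw [← Scheme.Hom.comp_apply, h1, Scheme.Hom.comp_apply]
    exact E.obj.left.left.fromSpecResidueField_apply u _
  choose Y f hf hu using key
  refine (etTop X).superset_covering ?_ (ofArrows_mem_etTop Y f fun x => ⟨x, hu x⟩)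
  rw [Sieve.generate_le_iff, Presieve.ofArrows_le_iff]
  exact hf

end Groth.Agent.AlgSpc
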