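import Groth.Agent.AlgSpc.EtStalkElems
import Groth.Prelude.Def_AlgSpOX2
import Mathlib.Algebra.Category.ModuleCat.Sheaf.PushforwardContinuous
import Mathlib.Algebra.Category.ModuleCat.Sheaf.Abelian

/-!
# Composition with an etale morphism on small etale sites
-/

set_option autoImplicit false
set_option linter.style.haveILetI false
set_option backward.isDefEq.respectTransparency false
set_option backward.isDefEq.respectTransparency.types false
universe u v w

open CategoryTheory CategoryTheory.Limits AlgebraicGeometry Opposite

namespace Groth.Agent.AlgSpc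

open _root_.AlgSp

variable {S : Scheme.{u}} {X Y : Sp S}

theorem exists_mem_of_mem_etTop (hX : IsAlgSpace X) {E : EtOver X} {R : Sieve E} (hR : R ∈ etTop X E)
    (u : ↥E.obj.left.left) : ∃ (V : EtOver X) (g : V ⟶ E), R g ∧ u ∈ Set.range g.hom.left.left := by
  obtain ⟨p, hp, x, hx⟩ := exists_geometric_lift E u
  obtain ⟨V, g, hg, y, hy⟩ := (mem_liftTop_iff hX p hp R).1 (etTop_le_liftTop hX p hp _ hR) x
  refine ⟨V, g, hg, y.1.left (IsLocalRing.closedPoint p.K), ?_⟩
  rw [← hx]
  exact congrArg (fun z : p.liftsTo.obj E => z.1.left (IsLocalRing.closedPoint p.K)) hy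

variable (f : X ⟶ Y) (hf : IsEtaleMor f)

instance preservesLimit_cospan_postcomp {E₁ E₂ E₀ : EtOver X} (g₁ : E₁ ⟶ E₀) (g₂ : E₂ ⟶ E₀) :
    PreservesLimit (cospan g₁ g₂) (EtOver.postcomp f hf) :=
  preservesLimit_of_preserves_limit_cone (EtOver.pullbackIsLimit g₁ g₂)
    ((isLimitMapConePullbackConeEquiv _ _).symm
      (PullbackCone.IsLimit.mk (by
          rw [← Functor.map_comp, ← Functor.map_comp, EtOver.pullback_condition])
        (fun s => EtOver.homMk (pullback.lift s.fst.hom.left s.snd.hom.left
            (congrArg (fun k => k.hom.left) s.condition)) (by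
          change (yon S).map _ ≫ ((yon S).map _ ≫ E₁.obj.hom) ≫ f = s.pt.obj.hom
          rw [← Category.assoc, ← Category.assoc, ← Functor.map_comp, pullback.lift_fst, Category.assoc]
          exact EtOver.w s.fst))
        (fun s => EtOver.hom_ext _ _ (pullback.lift_fst _ _ _))
        (fun s => EtOver.hom_ext _ _ (pullback.lift_snd _ _ _))
        (fun s m h₁ h₂ => EtOver.hom_ext _ _ (pullback.hom_ext
          ((congrArg (fun k => k.hom.left) h₁).trans (pullback.lift_fst _ _ _).symm)
          ((congrArg (fun k => k.hom.left) h₂).trans (pullback.lift_snd _ _ _).symm)))))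

instance preservesPullbacks_postcomp : PreservesLimitsOfShape WalkingCospan (EtOver.postcomp f hf) where
  preservesLimit {K} := preservesLimit_of_iso_diagram _ (diagramIsoCospan K).symm

theorem etPre_le_comap_postcomp : etPre X ≤ (etPre Y).comap (EtOver.postcomp f hf) := by
  intro E R hR
  obtain ⟨ι, Z, g, rfl⟩ := R.exists_eq_ofArrows
  rw [Precoverage.mem_comap_iff, Presieve.map_ofArrows]
  exact (ofArrows_mem_etPre_iff _ _).2 fun x => (ofArrows_mem_etPre_iff Z g).1 hR x

instance isContinuous_postcomp : (EtOver.postcomp f hf).IsContinuous (etTop X) (etTop Y) := by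
  change (EtOver.postcomp f hf).IsContinuous (etPre X).toGrothendieck (etPre Y).toGrothendieck
  exact Functor.isContinuous_toGrothendieck_of_pullbacksPreservedBy _ _ _ (etPre_le_comap_postcomp f hf)

theorem isCocontinuous_postcomp (hY : IsAlgSpace Y) :
    (EtOver.postcomp f hf).IsCocontinuous (etTop X) (etTop Y) := by
  refine ⟨fun {E R} hR => ?_⟩
  have key : ∀ u : ↥E.obj.left.left, ∃ (V : EtOver X) (g : V ⟶ E),
      R.functorPullback (EtOver.postcomp f hf) g ∧ u ∈ Set.range g.hom.left.left := by
    intro u
    obtain ⟨V, g, hg, hu⟩ := exists_mem_of_mem_etTop hY hR u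
    haveI := EtOver.etale_left g
    let V' : EtOver X := EtOver.mk ((yon S).map g.hom.left ≫ E.obj.hom)
      (repWith_comp ((repWith_yon_map_iff (P := @Etale) _).2 (EtOver.etale_left g)) E.property)
    let g' : V' ⟶ E := EtOver.homMk g.hom.left rfl
    refine ⟨V', g', ?_, hu⟩
    let c : (EtOver.postcomp f hf).obj V' ⟶ V := EtOver.homMk (𝟙 _) (by
      show (yon S).map (𝟙 _) ≫ V.obj.hom = ((yon S).map g.hom.left ≫ E.obj.hom) ≫ f
      rw [Category.assoc, (yon S).map_id]
      exact (Category.id_comp _).trans (EtOver.w g).symm)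
    have hc : (EtOver.postcomp f hf).map g' = c ≫ g := EtOver.hom_ext _ _ (Category.id_comp _).symm
    show R ((EtOver.postcomp f hf).map g')
    rw [hc]
    exact R.downward_closed hg c
  choose V g hg hu using key
  refine (etTop X).superset_covering ?_ (ofArrows_mem_etTop V g fun u => ⟨u, hu u⟩)
  rw [Sieve.generate_le_iff, Presieve.ofArrows_le_iff]
  exact hg

variable (hr : Representable f)

/-- Composition with a representable etale morphism is left adjoint to base change. -/
noncomputable def postcompBcAdj : EtOver.postcomp f hf ⊣ EtOver.bc hr :=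
  Adjunction.mkOfUnitCounit
    { unit :=
        { app := fun E => EtOver.homMk (hr.lift E.obj.hom (𝟙 _)
            (by rw [(yon S).map_id]; exact (Category.id_comp _).symm)) (hr.lift_fst _ _ _)
          naturality := fun E E' g => EtOver.hom_ext _ _ (hr.hom_ext
            (by
              show (yon S).map (g.hom.left ≫ hr.lift E'.obj.hom (𝟙 _) _) ≫ hr.fst _ =
                (yon S).map (hr.lift E.obj.hom (𝟙 _) _ ≫ _) ≫ hr.fst _
              rw [Functor.map_comp, Category.assoc, hr.lift_fst, Functor.map_comp, Category.assoc]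
              exact (EtOver.w g).trans ((hr.lift_fst E.obj.hom (𝟙 _) _).symm.trans
                (congrArg (_ ≫ ·) (EtOver.map_bcMap_fst hr ((EtOver.postcomp f hf).map g)).symm)))
            (by
              show (g.hom.left ≫ hr.lift E'.obj.hom (𝟙 _) _) ≫ hr.snd _ =
                (hr.lift E.obj.hom (𝟙 _) _ ≫ _) ≫ hr.snd _
              rw [Category.assoc, hr.lift_snd, Category.assoc]
              exact (Category.comp_id _).trans ((Category.id_comp _).symm.trans
                ((congrArg (· ≫ g.hom.left) (hr.lift_snd E.obj.hom (𝟙 _) _).symm).trans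
                  ((Category.assoc _ _ _).trans
                    (congrArg (_ ≫ ·) (EtOver.bcMap_snd hr ((EtOver.postcomp f hf).map g)).symm))))) ) }
      counit :=
        { app := fun V => EtOver.homMk (hr.snd V.obj.hom) (hr.w V.obj.hom).symm
          naturality := fun V V' g => EtOver.hom_ext _ _ (EtOver.bcMap_snd hr g) }
      left_triangle := by
        ext E : 2
        refine EtOver.hom_ext _ _ ?_
        simp
        exact hr.lift_snd E.obj.hom (𝟙 _) (by rw [(yon S).map_id]; exact (Category.id_comp _).symm)
      right_triangle := by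
        ext V : 2
        refine EtOver.hom_ext _ _ (hr.hom_ext ?_ ?_)
        · simp
          exact (congrArg ((yon S).map (hr.lift _ (𝟙 _) _) ≫ ·) (EtOver.map_bcMap_fst hr _)).trans
            ((hr.lift_fst _ _ _).trans (Category.id_comp _).symm)
        · simp
          exact (congrArg (hr.lift _ (𝟙 _) _ ≫ ·) (EtOver.bcMap_snd hr _)).trans
            ((reassoc_of% hr.lift_snd _ _ _) _) }

/-- The identification of structure sheaves. -/
noncomputable def postRingHom :
    OEtRing X ⟶ ((EtOver.postcomp f hf).sheafPushforwardContinuous RingCat.{u + 1} (etTop X) (etTop Y)).obj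
      (OEtRing Y) :=
  ObjectProperty.homMk { app := fun E => 𝟙 _, naturality := fun E E' g => by simp; rfl }

/-- Pullback of modules along a representable etale morphism is restriction. -/
noncomputable def postPushBcPushAdj :
    SheafOfModules.pushforward.{u + 1} (postRingHom f hf) ⊣ pushModEt hr :=
  SheafOfModules.pushforwardPushforwardAdj (postcompBcAdj f hf hr) (postRingHom f hf) (bcRingHom hr)
    (by
      ext V : 2
      rfl)
    (by
      ext E : 2
      show 𝟙 _ ≫ (BigSite.ORing Scheme.etalePrecoverage S).obj.map (hr.snd _).op ≫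
        (BigSite.ORing Scheme.etalePrecoverage S).obj.map (hr.lift E.unop.obj.hom (𝟙 _) _).op = 𝟙 _
      rw [Category.id_comp, ← Functor.map_comp, ← op_comp, hr.lift_snd, op_id]
      exact (BigSite.ORing Scheme.etalePrecoverage S).obj.map_id _)

theorem preservesFiniteLimits_pullModEt_of_etale
    [(SheafOfModules.pushforward.{u + 1} (bcRingHom hr)).IsRightAdjoint] (hf : IsEtaleMor f) :
    PreservesFiniteLimits (pullModEt hr) := by
  have h1 : PreservesFiniteLimits (SheafOfModules.pushforward.{u + 1} (postRingHom f hf)) := by
    refine ⟨fun J _ _ => ?_⟩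
    let G := SheafOfModules.forget.{u + 1} (OEtRing X) ⋙ PresheafOfModules.toPresheaf (OEtRing X).obj
    haveI : PreservesLimitsOfShape J (SheafOfModules.pushforward.{u + 1} (postRingHom f hf) ⋙ G) :=
      inferInstanceAs (PreservesLimitsOfShape J (SheafOfModules.forget.{u + 1} (OEtRing Y) ⋙
        PresheafOfModules.toPresheaf (OEtRing Y).obj ⋙
          (Functor.whiskeringLeft _ _ _).obj (EtOver.postcomp f hf).op))
    haveI : G.ReflectsIsomorphisms := reflectsIsomorphisms_comp _ _
    haveI : ReflectsLimitsOfShape J G := reflectsLimitsOfShape_of_reflectsIsomorphisms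
    exact preservesLimitsOfShape_of_reflects_of_preserves (SheafOfModules.pushforward.{u + 1} (postRingHom f hf)) G
  exact preservesFiniteLimits_of_natIso
    ((postPushBcPushAdj f hf hr).leftAdjointUniq (pullPushAdjModEt hr))

end Groth.Agent.AlgSpc
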