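import Groth.Agent.AlgSpc.EtQCohPost

/-!
# Quasi-coherence descends along a surjective etale chart
-/

set_option autoImplicit false
set_option linter.style.haveILetI false
set_option backward.isDefEq.respectTransparency false
set_option backward.isDefEq.respectTransparency.types false
universe u v w

open CategoryTheory CategoryTheory.Limits AlgebraicGeometry Opposite

namespace Groth.Agent.AlgSpc

open _root_.AlgSp

variable {S : Scheme.{u}} {X Y : Sp S} (f : X ⟶ Y) (hf : IsEtaleMor f) (E : EtOver X)

/-- The inverse of the slice functor of composition with an etale morphism. -/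
noncomputable def overPostInv : Over ((EtOver.postcomp f hf).obj E) ⥤ Over E where
  obj d := Over.mk (EtOver.homMk (E := EtOver.mk ((yon S).map d.hom.hom.left ≫ E.obj.hom)
    (repWith_comp ((repWith_yon_map_iff (P := @Etale) _).2 (EtOver.etale_left d.hom)) E.property))
    (E' := E) d.hom.hom.left rfl)
  map {d d'} g := Over.homMk (EtOver.homMk g.left.hom.left (by
      show (yon S).map g.left.hom.left ≫ (yon S).map d'.hom.hom.left ≫ E.obj.hom =
        (yon S).map d.hom.hom.left ≫ E.obj.hom
      rw [← Category.assoc, ← Functor.map_comp]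
      exact congrArg (fun k => (yon S).map k ≫ E.obj.hom) (congrArg (fun k => k.hom.left) (Over.w g))))
    (EtOver.hom_ext _ _ (congrArg (fun k => k.hom.left) (Over.w g)))
  map_id d := Over.OverMorphism.ext (EtOver.hom_ext _ _ rfl)
  map_comp g h := Over.OverMorphism.ext (EtOver.hom_ext _ _ rfl)

/-- Composition with an etale morphism is an equivalence on slices. -/
noncomputable def overPostEquiv : Over E ≌ Over ((EtOver.postcomp f hf).obj E) where
  functor := Over.post (EtOver.postcomp f hf)
  inverse := overPostInv f hf E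
  unitIso := NatIso.ofComponents (fun a => Over.isoMk
    { hom := EtOver.homMk (E := a.left) (𝟙 _) (by
        show (yon S).map (𝟙 _) ≫ (yon S).map a.hom.hom.left ≫ E.obj.hom = a.left.obj.hom
        rw [(yon S).map_id]
        exact (Category.id_comp _).trans (EtOver.w a.hom))
      inv := EtOver.homMk (E' := a.left) (𝟙 _) (by
        show (yon S).map (𝟙 _) ≫ a.left.obj.hom = (yon S).map a.hom.hom.left ≫ E.obj.hom
        rw [(yon S).map_id]
        exact (Category.id_comp _).trans (EtOver.w a.hom).symm)
      hom_inv_id := EtOver.hom_ext _ _ (Category.id_comp _)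
      inv_hom_id := EtOver.hom_ext _ _ (Category.id_comp _) } (EtOver.hom_ext _ _ (Category.id_comp _)))
    fun g => Over.OverMorphism.ext (EtOver.hom_ext _ _ ((Category.comp_id _).trans (Category.id_comp _).symm))
  counitIso := NatIso.ofComponents (fun d => Over.isoMk
    { hom := EtOver.homMk (E' := d.left) (𝟙 _) (by
        show (yon S).map (𝟙 _) ≫ d.left.obj.hom = ((yon S).map d.hom.hom.left ≫ E.obj.hom) ≫ f
        rw [(yon S).map_id, Category.assoc]
        exact (Category.id_comp _).trans (EtOver.w d.hom).symm)
      inv := EtOver.homMk (E := d.left) (𝟙 _) (by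
        show (yon S).map (𝟙 _) ≫ ((yon S).map d.hom.hom.left ≫ E.obj.hom) ≫ f = d.left.obj.hom
        rw [(yon S).map_id, Category.assoc]
        exact (Category.id_comp _).trans (EtOver.w d.hom))
      hom_inv_id := EtOver.hom_ext _ _ (Category.id_comp _)
      inv_hom_id := EtOver.hom_ext _ _ (Category.id_comp _) } (EtOver.hom_ext _ _ (Category.id_comp _)))
    fun g => Over.OverMorphism.ext (EtOver.hom_ext _ _ ((Category.comp_id _).trans (Category.id_comp _).symm))
  functor_unitIso_comp a := Over.OverMorphism.ext (EtOver.hom_ext _ _ (Category.comp_id _))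

variable (hX : IsAlgSpace X) (hY : IsAlgSpace Y)

include hX hY in
theorem nonempty_presentation_over (F : ModEt Y)
    (σ : (((SheafOfModules.pushforward.{u + 1} (postRingHom f hf)).obj F).over E).Presentation) :
    Nonempty (F.over ((EtOver.postcomp f hf).obj E)).Presentation := by
  haveI := isCocontinuous_postcomp f hf hY
  let e := overPostEquiv f hf E
  haveI : e.functor.IsContinuous ((etTop X).over E) ((etTop Y).over _) :=
    isContinuous_overPost_postcomp f hf hX E
  haveI : e.functor.IsCocontinuous ((etTop X).over E) ((etTop Y).over _) :=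
    inferInstanceAs ((Over.post (EtOver.postcomp f hf)).IsCocontinuous _ _)
  haveI : e.inverse.IsContinuous ((etTop Y).over _) ((etTop X).over E) :=
    e.toAdjunction.isContinuous_of_isCocontinuous _ _
  let R' := (OEtRing Y).over ((EtOver.postcomp f hf).obj E)
  let S' := (OEtRing X).over E
  let φ : S' ⟶ (e.functor.sheafPushforwardContinuous RingCat.{u + 1} _ _).obj R' :=
    ObjectProperty.homMk { app := fun a => 𝟙 _, naturality := fun a b g => by simp; rfl }
  let ψ : R' ⟶ (e.inverse.sheafPushforwardContinuous RingCat.{u + 1} _ _).obj S' :=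
    ObjectProperty.homMk { app := fun a => 𝟙 _, naturality := fun a b g => by simp; rfl }
  let EQ := SheafOfModules.pushforwardPushforwardEquivalence e (S := S') (R := R') φ ψ
    (by
      ext a : 2
      exact ((BigSite.ORing Scheme.etalePrecoverage S).obj.map_id _).trans (Category.id_comp _).symm)
    (by
      ext a : 2
      exact (Category.id_comp _).trans ((Category.id_comp _).trans
        ((BigSite.ORing Scheme.etalePrecoverage S).obj.map_id _)))
  exact ⟨(σ.map EQ.inverse (Iso.refl _)).ofIsIso
    ((EQ.unitIso.app (F.over ((EtOver.postcomp f hf).obj E))).inv)⟩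

include hf hX hY in
theorem isQuasicoherent_of_pushforward_postcomp (F : ModEt Y)
    (hsurj : Function.Surjective (Points.map f))
    [((SheafOfModules.pushforward.{u + 1} (postRingHom f hf)).obj F).IsQuasicoherent] :
    F.IsQuasicoherent := by
  obtain ⟨σ⟩ := SheafOfModules.IsQuasicoherent.nonempty_quasicoherentData
    (M := (SheafOfModules.pushforward.{u + 1} (postRingHom f hf)).obj F)
  let τ := fun i => (nonempty_presentation_over f hf (σ.X i) hX hY F (σ.presentation i)).some
  refine SheafOfModules.QuasicoherentData.isQuasicoherent (M := F)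
    { I := σ.I
      X := fun i => (EtOver.postcomp f hf).obj (σ.X i)
      coversTop := fun W => ?_
      presentation := τ }
  have key : ∀ u : ↥W.obj.left.left, ∃ (V : EtOver Y) (g : V ⟶ W),
      (∃ i, Nonempty (V ⟶ (EtOver.postcomp f hf).obj (σ.X i))) ∧ u ∈ Set.range g.hom.left.left := by
    intro u
    obtain ⟨U, a, ha, has⟩ := hX.atlas
    obtain ⟨x, hx⟩ := hsurj (Points.ofPt W.obj.hom u)
    obtain ⟨u', hu'⟩ := surjective_ofPt has x
    let E0 : EtOver X := EtOver.mk a ha
    let A := (EtOver.postcomp f hf).obj E0
    obtain ⟨p, hp, l, hl⟩ := exists_geometric_lift W u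
    obtain ⟨t, ht, -⟩ := OEtStalk.exists_lift p hp A.property (u := u') (by
      show Points.ofPt (a ≫ f) u' = _
      rw [← Points.map_ofPt, hu', hx, ← hl, ofPt_lift])
    let P := EtOver.prodObj W A
    let c : p.pt ⟶ P.obj.left := A.property.1.lift' t l.1 (ht.trans l.2.symm)
    have hc : c ≫ (EtOver.prodFst W A).hom.left = l.1 := Functor.relativelyRepresentable.lift'_snd _ _ _ _
    let P' : EtOver X := EtOver.mk ((yon S).map (EtOver.prodSnd W A).hom.left ≫ a)
      (repWith_comp ((repWith_yon_map_iff (P := @Etale) _).2 (EtOver.etale_left (EtOver.prodSnd W A))) ha)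
    obtain ⟨V, g, ⟨i, ⟨k⟩⟩, hu⟩ := exists_mem_of_mem_etTop hX (σ.coversTop P') (c.left (IsLocalRing.closedPoint p.K))
    let k₀ : (EtOver.postcomp f hf).obj P' ⟶ P := EtOver.homMk (𝟙 _) (by
      show (yon S).map (𝟙 _) ≫ P.obj.hom = ((yon S).map (EtOver.prodSnd W A).hom.left ≫ a) ≫ f
      rw [(yon S).map_id, Category.assoc]
      exact (Category.id_comp _).trans (EtOver.w (EtOver.prodSnd W A)).symm)
    refine ⟨_, (EtOver.postcomp f hf).map g ≫ k₀ ≫ EtOver.prodFst W A,
      ⟨i, ⟨(EtOver.postcomp f hf).map k⟩⟩, ?_⟩
    obtain ⟨v, hv⟩ := hu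
    refine ⟨v, ?_⟩
    rw [← hl, ← hc]
    exact congrArg (EtOver.prodFst W A).hom.left.left hv
  choose V g hi hu using key
  refine (etTop Y).superset_covering ?_ (ofArrows_mem_etTop V g fun u => ⟨u, hu u⟩)
  rw [Sieve.generate_le_iff, Presieve.ofArrows_le_iff]
  exact hi

end Groth.Agent.AlgSpc
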