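import Groth.Agent.AlgSpc.EtPostcomp
import Mathlib.Algebra.Category.ModuleCat.Sheaf.Quasicoherent

/-!
# Quasi-coherence and restriction along an etale morphism
-/

set_option autoImplicit false
set_option linter.style.haveILetI false
set_option backward.isDefEq.respectTransparency false
set_option backward.isDefEq.respectTransparency.types false
universe u v w

open CategoryTheory CategoryTheory.Limits AlgebraicGeometry Opposite

namespace Groth.Agent.AlgSpc

open _root_.AlgSp

variable {S : Scheme.{u}} {X Y : Sp S} (f : X ⟶ Y) (hr : Representable f) (hf : IsEtaleMor f)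

include hf in
theorem coverPreserving_postcomp (hX : IsAlgSpace X) :
    CoverPreserving (etTop X) (etTop Y) (EtOver.postcomp f hf) := by
  refine ⟨fun {E R} hR => ?_⟩
  choose V g hg hu using exists_mem_of_mem_etTop hX hR
  refine (etTop Y).superset_covering ?_
    (ofArrows_mem_etTop (fun u => (EtOver.postcomp f hf).obj (V u)) (fun u => (EtOver.postcomp f hf).map (g u))
      fun u => ⟨u, hu u⟩)
  rw [Sieve.generate_le_iff, Presieve.ofArrows_le_iff]
  exact fun u => ⟨V u, g u, 𝟙 _, hg u, (Category.id_comp _).symm⟩

theorem isContinuous_overPost_postcomp (hX : IsAlgSpace X) (E : EtOver X) :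
    (Over.post (X := E) (EtOver.postcomp f hf)).IsContinuous ((etTop X).over E) ((etTop Y).over _) := by
  haveI : Functor.PreservesOneHypercovers.{u + 1} (EtOver.postcomp f hf) (etTop X) (etTop Y) :=
    Functor.PreservesOneHypercovers.of_coverPreserving (coverPreserving_postcomp f hf hX)
  exact Functor.isContinuous_of_preservesOneHypercovers.{u + 1} _ _ _

include hf in
theorem isQuasicoherent_pullModEt_of_etale
    [(SheafOfModules.pushforward.{u + 1} (bcRingHom hr)).IsRightAdjoint] (hX : IsAlgSpace X) (hY : IsAlgSpace Y) (F : ModEt Y)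
    [F.IsQuasicoherent] : ((pullModEt hr).obj F).IsQuasicoherent := by
  haveI := isCocontinuous_postcomp f hf hY
  haveI := isContinuous_overPost_postcomp f hf hX
  haveI : (EtOver.postcomp f hf).IsLeftAdjoint := (postcompBcAdj f hf hr).isLeftAdjoint
  haveI : IsIso (postRingHom f hf) :=
    ⟨ObjectProperty.homMk { app := fun E => 𝟙 _, naturality := fun E E' g => by simp; rfl },
      by ext E : 3; exact Category.id_comp _, by ext E : 3; exact Category.id_comp _⟩
  have h := SheafOfModules.isQuasicoherent_pushforward_of_isLeftAdjoint (EtOver.postcomp f hf)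
    (postRingHom f hf) (M := F) (Iso.refl _)
  exact (SheafOfModules.isQuasicoherent (OEtRing X)).prop_of_iso
    (((postPushBcPushAdj f hf hr).leftAdjointUniq (pullPushAdjModEt hr)).app F) h

end Groth.Agent.AlgSpc
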