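import Mathlib.Algebra.Category.ModuleCat.Presheaf.Pullback
import Mathlib.CategoryTheory.Category.ULift

/-!
# Inverse images of presheaves of modules on categories with small hom types
-/
set_option autoImplicit false
set_option backward.isDefEq.respectTransparency false
set_option backward.isDefEq.respectTransparency.types false
universe u
open CategoryTheory PresheafOfModules
namespace Groth.Agent.AlgSpc

/-- The comparison with the rings on the category with lifted morphisms. -/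
def upHom {C : Type (u + 1)} [Category.{u} C] (S : Cᵒᵖ ⥤ RingCat.{u + 1}) :
    S ⟶ (ULiftHom.up.{u, u + 1} : C ⥤ ULiftHom.{u + 1} C).op ⋙ (ULiftHom.down.{u, u + 1}.op ⋙ S) where
  app X := 𝟙 _
  naturality X Y g := (Category.comp_id _).trans (Category.id_comp _).symm

theorem isRightAdjoint_pushforward_up {C : Type (u + 1)} [Category.{u} C] (S : Cᵒᵖ ⥤ RingCat.{u + 1}) :
    (pushforward.{u + 1} (F := (ULiftHom.up.{u, u + 1} : C ⥤ ULiftHom.{u + 1} C))
      (upHom S)).IsRightAdjoint := by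
  let a := pushforward.{u + 1} (F := (ULiftHom.up.{u, u + 1} : C ⥤ ULiftHom.{u + 1} C))
    (upHom S)
  let b := pushforward.{u + 1} (F := (ULiftHom.down.{u, u + 1} : ULiftHom.{u + 1} C ⥤ C))
    (𝟙 (ULiftHom.down.{u, u + 1}.op ⋙ S) : _ ⟶ ULiftHom.down.op ⋙ S)
  exact (CategoryTheory.Equivalence.mk a b (Iso.refl _) (Iso.refl _)).symm.toAdjunction.isRightAdjoint

theorem isRightAdjoint_pushforward_down {C : Type (u + 1)} [Category.{u} C] (S : Cᵒᵖ ⥤ RingCat.{u + 1}) :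
    (pushforward.{u + 1} (F := (ULiftHom.down.{u, u + 1} : ULiftHom.{u + 1} C ⥤ C))
      (𝟙 (ULiftHom.down.{u, u + 1}.op ⋙ S) : _ ⟶ ULiftHom.down.op ⋙ S)).IsRightAdjoint := by
  let a := pushforward.{u + 1} (F := (ULiftHom.up.{u, u + 1} : C ⥤ ULiftHom.{u + 1} C))
    (upHom S)
  let b := pushforward.{u + 1} (F := (ULiftHom.down.{u, u + 1} : ULiftHom.{u + 1} C ⥤ C))
    (𝟙 (ULiftHom.down.{u, u + 1}.op ⋙ S) : _ ⟶ ULiftHom.down.op ⋙ S)
  exact (CategoryTheory.Equivalence.mk a b (Iso.refl _) (Iso.refl _)).toAdjunction.isRightAdjoint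

theorem isRightAdjoint_pushforward_of_small_hom {C D : Type (u + 1)} [Category.{u} C] [Category.{u} D]
    {F : C ⥤ D} {R : Dᵒᵖ ⥤ RingCat.{u + 1}} {S : Cᵒᵖ ⥤ RingCat.{u + 1}} (φ : S ⟶ F.op ⋙ R) :
    (pushforward.{u + 1} φ).IsRightAdjoint := by
  haveI := isRightAdjoint_pushforward_up S
  haveI := isRightAdjoint_pushforward_down R
  let F' : ULiftHom.{u + 1} C ⥤ ULiftHom.{u + 1} D := ULiftHom.down ⋙ F ⋙ ULiftHom.up
  let φ' : (ULiftHom.down.{u, u + 1}.op ⋙ S) ⟶ F'.op ⋙ (ULiftHom.down.{u, u + 1}.op ⋙ R) :=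
    Functor.whiskerLeft ULiftHom.down.op φ
  let b := pushforward.{u + 1} (F := (ULiftHom.down.{u, u + 1} : ULiftHom.{u + 1} D ⥤ D))
    (𝟙 (ULiftHom.down.{u, u + 1}.op ⋙ R) : _ ⟶ ULiftHom.down.op ⋙ R)
  let a := pushforward.{u + 1} (F := (ULiftHom.up.{u, u + 1} : C ⥤ ULiftHom.{u + 1} C))
    (upHom S)
  haveI : (b ⋙ pushforward.{u + 1} φ' ⋙ a).IsRightAdjoint := inferInstance
  exact Functor.isRightAdjoint_of_iso (F := b ⋙ pushforward.{u + 1} φ' ⋙ a) (Iso.refl _)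

end Groth.Agent.AlgSpc
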