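import Groth.Agent.AlgSpc.EtQCohPost
import Groth.Agent.AlgSpc.ModPullExists
import Mathlib.Algebra.Category.ModuleCat.Sheaf.PullbackFree
import Groth.Prelude.Def_AlgSpD
import Mathlib.CategoryTheory.Comma.Over.Pullback
import Mathlib.CategoryTheory.Limits.Shapes.BinaryProducts

/-!
# Inverse images of quasi-coherent modules along representable morphisms
-/

set_option autoImplicit false
set_option linter.style.haveILetI false
set_option backward.isDefEq.respectTransparency false
set_option backward.isDefEq.respectTransparency.types false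
set_option maxHeartbeats 800000
universe u v w

open CategoryTheory CategoryTheory.Limits AlgebraicGeometry Opposite

namespace Groth.Agent.AlgSpc

open _root_.AlgSp

variable {S : Scheme.{u}} {X Y : Sp S} {f : X ⟶ Y} (hf : Representable f)

/-- The base change of a product is a product. -/
noncomputable def bcProdIsLimit (E₁ E₂ : EtOver Y) :
    IsLimit (BinaryFan.mk ((EtOver.bc hf).map (EtOver.prodFst E₁ E₂)) ((EtOver.bc hf).map (EtOver.prodSnd E₁ E₂))) :=
  have cond : ∀ {T : EtOver X} {E : EtOver Y} (a : T ⟶ (EtOver.bc hf).obj E),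
      (yon S).map (a.hom.left ≫ hf.snd E.obj.hom) ≫ E.obj.hom = T.obj.hom ≫ f := fun {T E} a => by
    rw [Functor.map_comp, Category.assoc, ← hf.w, ← Category.assoc]
    exact congrArg (· ≫ f) (EtOver.w a)
  BinaryFan.IsLimit.mk _
    (fun {T} a b => EtOver.homMk
      (hf.lift T.obj.hom (E₂.property.1.lift' (b.hom.left ≫ hf.snd E₂.obj.hom) (a.hom.left ≫ hf.snd E₁.obj.hom)
          ((cond b).trans (cond a).symm))
        (by
          change T.obj.hom ≫ f = (yon S).map _ ≫ (yon S).map _ ≫ E₁.obj.hom
          rw [← Category.assoc ((yon S).map _), ← Functor.map_comp, Functor.relativelyRepresentable.lift'_snd]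
          exact (cond a).symm))
      (hf.lift_fst _ _ _))
    (fun {T} a b => EtOver.hom_ext _ _ (hf.hom_ext
      (by
        change (yon S).map (_ ≫ (EtOver.bcMap hf _).hom.left) ≫ hf.fst _ = _
        rw [Functor.map_comp, Category.assoc, EtOver.map_bcMap_fst]
        exact (hf.lift_fst _ _ _).trans (EtOver.w a).symm)
      (by
        change (_ ≫ (EtOver.bcMap hf _).hom.left) ≫ hf.snd _ = _
        rw [Category.assoc, EtOver.bcMap_snd, ← Category.assoc]
        exact (congrArg (· ≫ (EtOver.prodFst E₁ E₂).hom.left) (hf.lift_snd _ _ _)).trans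
          (Functor.relativelyRepresentable.lift'_snd _ _ _ _))))
    (fun {T} a b => EtOver.hom_ext _ _ (hf.hom_ext
      (by
        change (yon S).map (_ ≫ (EtOver.bcMap hf _).hom.left) ≫ hf.fst _ = _
        rw [Functor.map_comp, Category.assoc, EtOver.map_bcMap_fst]
        exact (hf.lift_fst _ _ _).trans (EtOver.w b).symm)
      (by
        change (_ ≫ (EtOver.bcMap hf _).hom.left) ≫ hf.snd _ = _
        rw [Category.assoc, EtOver.bcMap_snd, ← Category.assoc]
        exact (congrArg (· ≫ (EtOver.prodSnd E₁ E₂).hom.left) (hf.lift_snd _ _ _)).trans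
          (Functor.relativelyRepresentable.lift'_fst _ _ _ _))))
    (fun {T} a b m h₁ h₂ => EtOver.hom_ext _ _ (hf.hom_ext
      ((EtOver.w m).trans (hf.lift_fst _ _ _).symm)
      ((Functor.relativelyRepresentable.hom_ext' _
        ((((Category.assoc _ _ _).trans (congrArg (m.hom.left ≫ ·)
            (EtOver.bcMap_snd hf (EtOver.prodSnd E₁ E₂)).symm)).trans ((Category.assoc _ _ _).symm.trans
              (congrArg (fun k => k.hom.left ≫ hf.snd E₂.obj.hom) h₂))).trans
          (Functor.relativelyRepresentable.lift'_fst _ (b.hom.left ≫ hf.snd E₂.obj.hom)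
            (a.hom.left ≫ hf.snd E₁.obj.hom) ((cond b).trans (cond a).symm)).symm)
        ((((Category.assoc _ _ _).trans (congrArg (m.hom.left ≫ ·)
            (EtOver.bcMap_snd hf (EtOver.prodFst E₁ E₂)).symm)).trans ((Category.assoc _ _ _).symm.trans
              (congrArg (fun k => k.hom.left ≫ hf.snd E₁.obj.hom) h₁))).trans
          (Functor.relativelyRepresentable.lift'_snd _ (b.hom.left ≫ hf.snd E₂.obj.hom)
            (a.hom.left ≫ hf.snd E₁.obj.hom) ((cond b).trans (cond a).symm)).symm)).trans
        (hf.lift_snd _ _ _).symm)))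

instance preservesLimit_pair_bc (E₁ E₂ : EtOver Y) : PreservesLimit (pair E₁ E₂) (EtOver.bc hf) :=
  preservesLimit_of_preserves_limit_cone (EtOver.prodIsLimit E₁ E₂)
    ((isLimitMapConeBinaryFanEquiv (EtOver.bc hf) _ _).symm (bcProdIsLimit hf E₁ E₂))

theorem coverPreserving_bc (hY : IsAlgSpace Y) : CoverPreserving (etTop Y) (etTop X) (EtOver.bc hf) := by
  refine ⟨fun {E R} hR => ?_⟩
  choose V g hg hu using exists_mem_of_mem_etTop hY hR
  have hmem : ∀ z : ↥((EtOver.bc hf).obj E).obj.left.left, ∃ u, z ∈ Set.range ((EtOver.bc hf).map (g u)).hom.left.left := by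
    intro z
    let u := (hf.snd E.obj.hom).left z
    obtain ⟨v, hv⟩ := hu u
    have sq := (EtOver.isPullback_bcMap_left hf (g u))
    obtain ⟨w, hw, -⟩ := Scheme.Pullback.exists_preimage_pullback (f := (hf.snd E.obj.hom).left)
      (g := (g u).hom.left.left) z v hv.symm
    refine ⟨u, sq.isoPullback.inv w, ?_⟩
    exact ((Scheme.Hom.comp_apply _ _ w).symm.trans
      (congrArg (fun k : pullback (hf.snd E.obj.hom).left (g u).hom.left.left ⟶ _ => k w) sq.isoPullback_inv_fst)).trans hw
  refine (etTop X).superset_covering ?_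
    (ofArrows_mem_etTop (fun u => (EtOver.bc hf).obj (V u)) (fun u => (EtOver.bc hf).map (g u)) hmem)
  rw [Sieve.generate_le_iff, Presieve.ofArrows_le_iff]
  exact fun u => ⟨V u, g u, 𝟙 _, hg u, (Category.id_comp _).symm⟩

variable (E : EtOver Y)

/-- The base change functor on slices. -/
noncomputable abbrev bcPost : Over E ⥤ Over ((EtOver.bc hf).obj E) := Over.post (EtOver.bc hf)

theorem isContinuous_bcPost (hY : IsAlgSpace Y) :
    (bcPost hf E).IsContinuous ((etTop Y).over E) ((etTop X).over _) := by
  haveI : Functor.PreservesOneHypercovers.{u + 1} (EtOver.bc hf) (etTop Y) (etTop X) :=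
    Functor.PreservesOneHypercovers.of_coverPreserving (coverPreserving_bc hf hY)
  exact Functor.isContinuous_of_preservesOneHypercovers.{u + 1} _ _ _

instance final_bcPost : (bcPost hf E).Final := by
  refine ⟨fun c => ?_⟩
  haveI : Nonempty (StructuredArrow c (bcPost hf E)) :=
    ⟨StructuredArrow.mk (Y := Over.mk (𝟙 E))
      (Over.homMk c.hom (by show c.hom ≫ (EtOver.bc hf).map (𝟙 E) = c.hom; rw [CategoryTheory.Functor.map_id, Category.comp_id]))⟩
  refine zigzag_isConnected fun a b => ?_
  have key : ∀ a : StructuredArrow c (bcPost hf E), Zigzag a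
      (StructuredArrow.mk (Y := Over.mk (𝟙 E))
        (Over.homMk c.hom (by show c.hom ≫ (EtOver.bc hf).map (𝟙 E) = c.hom; rw [CategoryTheory.Functor.map_id, Category.comp_id]))) := fun a =>
    Zigzag.of_hom (StructuredArrow.homMk (Over.homMk a.right.hom (Category.comp_id _))
      (Over.OverMorphism.ext (Over.w a.hom)))
  exact (key a).trans (key b).symm

/-- Products commute with base change. -/
noncomputable def starBcIso :
    Over.star E ⋙ bcPost hf E ≅ EtOver.bc hf ⋙ Over.star ((EtOver.bc hf).obj E) :=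
  NatIso.ofComponents
    (fun W => Over.isoMk (PreservesLimitPair.iso (EtOver.bc hf) E W)
      (by
        show prodComparison (EtOver.bc hf) E W ≫ (prod.lift prod.fst (𝟙 _) ≫ prod.fst) =
          (EtOver.bc hf).map (prod.lift prod.fst (𝟙 _) ≫ prod.fst)
        rw [prod.lift_fst, prod.lift_fst]
        exact prodComparison_fst (EtOver.bc hf) E W))
    fun g => Over.OverMorphism.ext (by simp; exact (prodComparison_natural _ _ _).trans (by simp))

variable [(SheafOfModules.pushforward.{u + 1} (bcRingHom hf)).IsRightAdjoint]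

theorem nonempty_presentation_pullback_over (hY : IsAlgSpace Y) (G : ModEt Y) (σ : (G.over E).Presentation) :
    Nonempty (((pullModEt hf).obj G).over ((EtOver.bc hf).obj E)).Presentation := by
  haveI := isContinuous_bcPost hf E hY
  let R' := (OEtRing X).over ((EtOver.bc hf).obj E)
  let φ : (OEtRing Y).over E ⟶
      ((bcPost hf E).sheafPushforwardContinuous RingCat.{u + 1} ((etTop Y).over E) ((etTop X).over _)).obj R' :=
    ((Over.forget E).sheafPushforwardContinuous RingCat.{u + 1} ((etTop Y).over E) (etTop Y)).map (bcRingHom hf)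
  haveI := isRightAdjoint_pushforward_of_small_hom φ.hom
  let adjE := SheafOfModules.pullbackPushforwardAdjunction.{u + 1} φ
  let A := (pullPushAdjModEt hf).comp (AlgSp.resPushAdjEt ((EtOver.bc hf).obj E))
  let B := (AlgSp.resPushAdjEt E).comp adjE
  haveI := Functor.isContinuous_comp (EtOver.bc hf) (Over.star ((EtOver.bc hf).obj E)) (etTop Y) (etTop X)
    ((etTop X).over ((EtOver.bc hf).obj E))
  haveI := Functor.isContinuous_comp (Over.star E) (bcPost hf E) (etTop Y) ((etTop Y).over E)
    ((etTop X).over ((EtOver.bc hf).obj E))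
  let e : pushOnModEt ((EtOver.bc hf).obj E) ⋙ pushModEt hf ≅ SheafOfModules.pushforward.{u + 1} φ ⋙ pushOnModEt E :=
    SheafOfModules.pushforwardComp _ _ ≪≫ SheafOfModules.pushforwardCongr₂ _ (starBcIso hf E) (by
      ext W : 3
      have h1 : ((starBcIso hf E).hom.app (unop W)).left ≫ prod.snd =
          (EtOver.bc hf).map (prod.snd : E ⨯ unop W ⟶ unop W) := by
        simp [starBcIso]
      refine Eq.trans ?_ ((bcRingHom hf).hom.naturality (prod.snd : E ⨯ unop W ⟶ unop W).op).symm
      simp [φ, SheafOfModules.pushforwardOver]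
      rw [← h1, op_comp, Functor.map_comp]) ≪≫ (SheafOfModules.pushforwardComp _ _).symm
  let e' := (conjugateIsoEquiv A B).symm e
  exact ⟨(σ.map (SheafOfModules.pullback.{u + 1} φ) (asIso (SheafOfModules.pullbackObjUnitToUnit φ)).symm).ofIsIso
    (e'.app G).hom⟩

theorem isQuasicoherent_pullModEt (hY : IsAlgSpace Y) (hX : IsAlgSpace X) (G : ModEt Y) [G.IsQuasicoherent] :
    ((pullModEt hf).obj G).IsQuasicoherent := by
  obtain ⟨σ⟩ := SheafOfModules.IsQuasicoherent.nonempty_quasicoherentData (M := G)
  let τ := fun i => (nonempty_presentation_pullback_over hf (σ.X i) hY G (σ.presentation i)).some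
  refine SheafOfModules.QuasicoherentData.isQuasicoherent (M := (pullModEt hf).obj G)
    { I := σ.I
      X := fun i => (EtOver.bc hf).obj (σ.X i)
      coversTop := fun W => ?_
      presentation := τ }
  have key : ∀ u : ↥W.obj.left.left, ∃ (V : EtOver X) (g : V ⟶ W),
      (∃ i, Nonempty (V ⟶ (EtOver.bc hf).obj (σ.X i))) ∧ u ∈ Set.range g.hom.left.left := by
    intro u
    obtain ⟨p, hp, l, hl⟩ := exists_geometric_lift W u
    obtain ⟨U, a, ha, has⟩ := hY.atlas
    obtain ⟨u', hu'⟩ := surjective_ofPt has (Points.mk (p.map f))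
    obtain ⟨t, ht, -⟩ := OEtStalk.exists_lift (p.map f) hp ha hu'
    let E0 : EtOver Y := EtOver.mk a ha
    haveI := isCofiltered_etNbhd hY (p.map f) hp
    obtain ⟨V, g, ⟨i, ⟨k⟩⟩, y, -⟩ := (mem_liftTop_iff hY (p.map f) hp _).1
      (etTop_le_liftTop hY (p.map f) hp _ (σ.coversTop E0)) ⟨t, ht⟩
    let A := (EtOver.bc hf).obj (σ.X i)
    let m : p.pt ⟶ A.obj.left := hf.lift p.toHom (y.1 ≫ k.hom.left) (by
      rw [Functor.map_comp, Category.assoc, EtOver.w k, y.2, FieldPt.toHom_map])
    let c : p.pt ⟶ (EtOver.prodObj W A).obj.left := A.property.1.lift' m l.1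
      ((hf.lift_fst _ _ _).trans l.2.symm)
    have hc : c ≫ (EtOver.prodFst W A).hom.left = l.1 := Functor.relativelyRepresentable.lift'_snd _ _ _ _
    refine ⟨_, EtOver.prodFst W A, ⟨i, ⟨EtOver.prodSnd W A⟩⟩, c.left (IsLocalRing.closedPoint p.K), ?_⟩
    rw [← hl, ← hc]
    rfl
  choose V g hi hu using key
  refine (etTop X).superset_covering ?_ (ofArrows_mem_etTop V g fun u => ⟨u, hu u⟩)
  rw [Sieve.generate_le_iff, Presieve.ofArrows_le_iff]
  exact hi

end Groth.Agent.AlgSpc
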