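import Groth.Agent.AlgSpc.EtPoints
import Groth.Agent.OEtStalk.Apply

/-!
# Elements of stalks on the small etale site of an algebraic space
-/

set_option autoImplicit false
set_option linter.style.haveILetI false
set_option backward.isDefEq.respectTransparency false
universe u v w

open CategoryTheory CategoryTheory.Limits AlgebraicGeometry Opposite

namespace Groth.Agent.AlgSpc

open _root_.AlgSp

variable {S : Scheme.{u}} {X : Sp S}

section

variable {A : Type v} [Category.{w} A] {FA : A → A → Type*} {CA : A → Type (u + 1)}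
  [∀ X Y, FunLike (FA X Y) (CA X) (CA Y)] [ConcreteCategory.{u + 1} A FA]
  [PreservesFilteredColimitsOfSize.{u + 1, u + 1} (forget A)]

theorem exists_rep_stalkEt (p : FieldPt X) [IsFiltered (EtNbhd p)ᵒᵖ] [HasColimitsOfShape (EtNbhd p)ᵒᵖ A]
    (F : EtSh X A) (z : ToType (stalkEt p F)) :
    ∃ (N : EtNbhd p) (s : ToType (F.obj.obj (op N.1))), stalkEtι p F N s = z := by
  have : PreservesFilteredColimitsOfSize.{u, u + 1} (forget A) :=
    preservesFilteredColimitsOfSize_shrink.{u + 1, u + 1, u, u + 1} _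
  obtain ⟨N, s, h⟩ := Concrete.colimit_exists_rep (stalkEtDiagram p F) z
  exact ⟨N.unop, s, h⟩

theorem exists_of_stalkEtι_eq (p : FieldPt X) [IsFiltered (EtNbhd p)ᵒᵖ] [HasColimitsOfShape (EtNbhd p)ᵒᵖ A]
    (F : EtSh X A) (N : EtNbhd p) (s t : ToType (F.obj.obj (op N.1)))
    (h : stalkEtι p F N s = stalkEtι p F N t) :
    ∃ (M : EtNbhd p) (g : M ⟶ N), F.obj.map g.val.op s = F.obj.map g.val.op t := by
  have : PreservesFilteredColimitsOfSize.{u, u + 1} (forget A) :=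
    preservesFilteredColimitsOfSize_shrink.{u + 1, u + 1, u, u + 1} _
  obtain ⟨k, f, g, hk⟩ := Concrete.colimit_exists_of_rep_eq (stalkEtDiagram p F) (i := op N) (j := op N) s t h
  refine ⟨(IsFiltered.coeq f g).unop, (f ≫ IsFiltered.coeqHom f g).unop, ?_⟩
  have h1 : (stalkEtDiagram p F).map (f ≫ IsFiltered.coeqHom f g) s =
      (stalkEtDiagram p F).map (g ≫ IsFiltered.coeqHom f g) t := by
    rw [Functor.map_comp, Functor.map_comp, ConcreteCategory.comp_apply, ConcreteCategory.comp_apply, hk]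
  rw [← IsFiltered.coeq_condition] at h1
  exact h1

omit [PreservesFilteredColimitsOfSize.{u + 1, u + 1} (forget A)] in
theorem stalkEtι_map (p : FieldPt X) [HasColimitsOfShape (EtNbhd p)ᵒᵖ A] (F : EtSh X A) {M N : EtNbhd p}
    (g : M ⟶ N) (s : ToType (F.obj.obj (op N.1))) :
    stalkEtι p F M (F.obj.map g.val.op s) = stalkEtι p F N s :=
  (ConcreteCategory.comp_apply _ _ _).symm.trans (ConcreteCategory.congr_hom (colimit.w (stalkEtDiagram p F) g.op) s)

end

theorem ofPt_lift {p : FieldPt X} {E : EtOver X} (x : p.liftsTo.obj E) :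
    Points.ofPt E.obj.hom (x.1.left (IsLocalRing.closedPoint p.K)) = Points.mk p := by
  rw [← ofPt_comp x.1 E.obj.hom, x.2, Points.ofPt_toHom]

/-- Every point of an object of the site carries a geometric point with a lift. -/
theorem exists_geometric_lift (E : EtOver X) (u : ↥E.obj.left.left) :
    ∃ (p : FieldPt X) (_ : p.IsGeometric) (x : p.liftsTo.obj E), x.1.left (IsLocalRing.closedPoint p.K) = u := by
  let K := AlgebraicClosure (E.obj.left.left.residueField u)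
  let t : Spec (CommRingCat.of K) ⟶ E.obj.left.left :=
    Spec.map (CommRingCat.ofHom (algebraMap (E.obj.left.left.residueField u) K)) ≫
      E.obj.left.left.fromSpecResidueField u
  let t' : Over.mk (t ≫ E.obj.left.hom) ⟶ E.obj.left := Over.homMk t rfl
  let p : FieldPt X := ⟨K, t ≫ E.obj.left.hom, (J S).uliftYonedaEquiv ((yon S).map t' ≫ E.obj.hom)⟩
  refine ⟨p, AlgebraicClosure.isAlgClosed _, ⟨t', (Equiv.symm_apply_apply (J S).uliftYonedaEquiv _).symm⟩, ?_⟩
  show t (IsLocalRing.closedPoint K) = u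
  rw [Scheme.Hom.comp_apply]
  exact E.obj.left.left.fromSpecResidueField_apply u _

/-- Sections of an abelian sheaf vanishing locally vanish. -/
theorem eq_zero_of_locally (F : AbEt X) {E : EtOver X} (σ : ↥(F.obj.obj (op E)))
    (h : ∀ u : ↥E.obj.left.left, ∃ (V : EtOver X) (φ : V ⟶ E), u ∈ Set.range φ.hom.left.left ∧
      (F.obj.map φ.op).hom σ = 0) : σ = 0 := by
  choose V φ hu hσ using h
  have hc := ofArrows_mem_etTop (X := X) V φ fun u => ⟨u, hu u⟩
  have hs := ((isSheaf_iff_isSheaf_of_type (etTop X) _).1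
    ((sheafCompose (etTop X) (forget AddCommGrpCat.{u + 1})).obj F).2) _ hc
  refine hs.isSeparatedFor.ext fun Y f hf => ?_
  rw [Sieve.mem_ofArrows_iff] at hf
  obtain ⟨i, g, rfl⟩ := hf
  show (F.obj.map (g ≫ φ i).op).hom σ = (F.obj.map (g ≫ φ i).op).hom 0
  rw [op_comp, Functor.map_comp]
  show (F.obj.map g.op).hom ((F.obj.map (φ i).op).hom σ) = (F.obj.map g.op).hom ((F.obj.map (φ i).op).hom 0)
  simp only [hσ i, map_zero]

/-- The vanishing locus of a section. -/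
theorem exists_vanishing_locus (hX : IsAlgSpace X) (F : AbEt X) (U : EtOver X) (σ : ↥(F.obj.obj (op U))) :
    ∃ W : TopologicalSpace.Opens ↥U.obj.left.left,
      (∀ (V : EtOver X) (φ : V ⟶ U),
          (F.obj.map φ.op).hom σ = 0 ↔ Set.range (fun v => φ.hom.left.left v) ⊆ (W : Set ↥U.obj.left.left)) ∧
      (∀ p : FieldPt X, p.IsGeometric → ∀ l : p.liftsTo.obj U,
          (stalkEtι p F ⟨U, l⟩).hom σ = 0 ↔ l.1.left (IsLocalRing.closedPoint p.K) ∈ W) := by
  let W : Set ↥U.obj.left.left :=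
    {u | ∃ (V : EtOver X) (φ : V ⟶ U), u ∈ Set.range φ.hom.left.left ∧ (F.obj.map φ.op).hom σ = 0}
  have hW : IsOpen W := by
    rw [isOpen_iff_forall_mem_open]
    rintro u ⟨V, φ, hu, hσ⟩
    haveI := EtOver.etale_left φ
    exact ⟨Set.range φ.hom.left.left, fun v hv => ⟨V, φ, hv, hσ⟩, φ.hom.left.left.isOpenMap.isOpen_range, hu⟩
  refine ⟨⟨W, hW⟩, fun V φ => ⟨fun h => ?_, fun h => ?_⟩, fun p hp l => ⟨fun h => ?_, ?_⟩⟩
  · rintro _ ⟨v, rfl⟩
    exact ⟨V, φ, ⟨v, rfl⟩, h⟩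
  · refine eq_zero_of_locally F _ fun v => ?_
    obtain ⟨V', ψ, ⟨v', hv'⟩, hσ⟩ := h ⟨v, rfl⟩
    obtain ⟨p, hp, x, hx⟩ := exists_geometric_lift V v
    obtain ⟨y, hy⟩ := exists_lift_etOver p hp ψ (p.liftsTo.map φ x) v' (by
      show _ = φ.hom.left.left (x.1.left _)
      rw [hx]; exact hv')
    haveI := isCofiltered_etNbhd hX p hp
    let A : EtNbhd p := ⟨V, x⟩
    let B : EtNbhd p := ⟨V', y⟩
    let C : EtNbhd p := ⟨U, p.liftsTo.map φ x⟩
    let a : A ⟶ C := CategoryOfElements.homMk A C φ rfl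
    let b : B ⟶ C := CategoryOfElements.homMk B C ψ hy
    obtain ⟨M, g₁, g₂, -⟩ := IsCofilteredOrEmpty.cone_objs A B
    let e := IsCofiltered.eqHom (g₁ ≫ a) (g₂ ≫ b)
    have he : (e ≫ g₁).val ≫ φ = (e ≫ g₂).val ≫ ψ :=
      congrArg Subtype.val (by
        rw [Category.assoc, Category.assoc]
        exact IsCofiltered.eq_condition (g₁ ≫ a) (g₂ ≫ b) : (e ≫ g₁) ≫ a = (e ≫ g₂) ≫ b)
    refine ⟨_, (e ≫ g₁).val, ⟨(IsCofiltered.eq (g₁ ≫ a) (g₂ ≫ b)).2.1.left (IsLocalRing.closedPoint p.K), ?_⟩, ?_⟩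
    · rw [← hx]
      exact congrArg (fun z : p.liftsTo.obj V => z.1.left (IsLocalRing.closedPoint p.K)) (e ≫ g₁).property
    · show (F.obj.map φ.op ≫ F.obj.map (e ≫ g₁).val.op).hom σ = 0
      rw [← Functor.map_comp, ← op_comp, he, op_comp, Functor.map_comp]
      show (F.obj.map (e ≫ g₂).val.op).hom ((F.obj.map ψ.op).hom σ) = 0
      rw [hσ, map_zero]
  · haveI := isCofiltered_etNbhd hX p hp
    obtain ⟨M, g, hg⟩ := exists_of_stalkEtι_eq p F ⟨U, l⟩ σ 0 (h.trans (map_zero _).symm)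
    refine ⟨M.1, g.val, ⟨M.2.1.left (IsLocalRing.closedPoint p.K), ?_⟩, hg.trans (map_zero _)⟩
    exact congrArg (fun z : p.liftsTo.obj U => z.1.left (IsLocalRing.closedPoint p.K)) g.property
  · rintro ⟨V, φ, ⟨v, hv⟩, hσ⟩
    obtain ⟨y, hy⟩ := exists_lift_etOver p hp φ l v hv
    let A : EtNbhd p := ⟨V, y⟩
    let C : EtNbhd p := ⟨U, l⟩
    let g : A ⟶ C := CategoryOfElements.homMk A C φ hy
    show stalkEtι p F ⟨U, l⟩ σ = 0
    rw [← stalkEtι_map p F g σ]
    show stalkEtι p F ⟨V, y⟩ ((F.obj.map φ.op).hom σ) = 0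
    rw [hσ]
    exact map_zero _

theorem exists_not_isZero_stalkEt_iff (hX : IsAlgSpace X) (F : AbEt X) (x : Points X) :
    (∃ p : FieldPt X, p.IsGeometric ∧ Points.mk p = x ∧ ¬ IsZero (stalkEt p F)) ↔
      ∃ (U : EtOver X) (σ : ↥(F.obj.obj (op U))) (u : ↥U.obj.left.left),
        Points.ofPt U.obj.hom u = x ∧
          ∀ (V : EtOver X) (φ : V ⟶ U), (F.obj.map φ.op).hom σ = 0 →
            u ∉ Set.range (fun v => φ.hom.left.left v) := by
  constructor
  · rintro ⟨p, hp, rfl, hz⟩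
    haveI := isCofiltered_etNbhd hX p hp
    rw [AddCommGrpCat.isZero_iff_subsingleton, subsingleton_iff_forall_eq 0] at hz
    push Not at hz
    obtain ⟨z, hz⟩ := hz
    obtain ⟨N, σ, rfl⟩ := exists_rep_stalkEt p F z
    refine ⟨N.1, σ, N.2.1.left (IsLocalRing.closedPoint p.K), ofPt_lift N.2, fun V φ hσ hu => hz ?_⟩
    obtain ⟨W, hW, hW'⟩ := exists_vanishing_locus hX F N.1 σ
    exact (hW' p hp N.2).2 ((hW V φ).1 hσ hu)
  · rintro ⟨U, σ, u, hx, hu⟩
    obtain ⟨p, hp, l, hl⟩ := exists_geometric_lift U u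
    refine ⟨p, hp, (ofPt_lift l).symm.trans (by rw [hl, hx]), fun hz => ?_⟩
    haveI := isCofiltered_etNbhd hX p hp
    haveI := AddCommGrpCat.subsingleton_of_isZero hz
    obtain ⟨M, g, hg⟩ := exists_of_stalkEtι_eq p F ⟨U, l⟩ σ 0 (Subsingleton.elim _ _)
    refine hu M.1 g.val (hg.trans (map_zero _)) ⟨M.2.1.left (IsLocalRing.closedPoint p.K), ?_⟩
    exact (congrArg (fun z : p.liftsTo.obj U => z.1.left (IsLocalRing.closedPoint p.K)) g.property).trans hl

theorem isClosed_support_ring (hX : IsAlgSpace X) (O' : EtSh X CommRingCat.{u + 1}) :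
    IsClosed {x : Points X | ∃ p : FieldPt X, p.IsGeometric ∧ Points.mk p = x ∧ Nontrivial ↥(stalkEt p O')} := by
  rw [← isOpen_compl_iff, isOpen_iff_forall_mem_open]
  intro x hx
  obtain ⟨p, hp, rfl⟩ := OEtStalk.exists_geometric x
  haveI := isCofiltered_etNbhd hX p hp
  obtain ⟨N0⟩ := IsCofiltered.nonempty (C := EtNbhd p)
  haveI : Subsingleton ↥(stalkEt p O') := not_nontrivial_iff_subsingleton.1 fun h => hx ⟨p, hp, rfl, h⟩
  obtain ⟨M, g, hg⟩ := exists_of_stalkEtι_eq p O' N0 1 0 (Subsingleton.elim _ _)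
  rw [map_one, map_zero] at hg
  refine ⟨Set.range (Points.ofPt M.1.obj.hom), ?_, (isOpenMap_ofPt M.1.property).isOpen_range,
    ⟨_, ofPt_lift M.2⟩⟩
  rintro _ ⟨v, rfl⟩ ⟨q, hq, hqv, hnt⟩
  obtain ⟨t, ht, -⟩ := OEtStalk.exists_lift q hq M.1.property hqv.symm
  let M' : EtNbhd q := ⟨M.1, ⟨t, ht⟩⟩
  refine zero_ne_one (α := ↥(stalkEt q O')) ?_
  have h1 := congrArg (stalkEtι q O' M').hom hg
  rwa [map_one, map_zero, eq_comm] at h1

/-- Subsheaves of the final object come from opens. -/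
theorem existsUnique_open_of_subsingleton (hX : IsAlgSpace X) (F : EtSh X (Type (u + 1)))
    (hF : ∀ E : EtOver X, Subsingleton (F.obj.obj (op E))) :
    ∃! W : Set (Points X), IsOpen W ∧
      ∀ E : EtOver X, Nonempty (F.obj.obj (op E)) ↔ Set.range (Points.ofPt E.obj.hom) ⊆ W := by
  let W : Set (Points X) := {x | ∃ E : EtOver X, Nonempty (F.obj.obj (op E)) ∧ x ∈ Set.range (Points.ofPt E.obj.hom)}
  have hW : IsOpen W := by
    rw [isOpen_iff_forall_mem_open]
    rintro x ⟨E, hE, hx⟩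
    exact ⟨_, fun y hy => ⟨E, hE, hy⟩, (isOpenMap_ofPt E.property).isOpen_range, hx⟩
  refine ⟨W, ⟨hW, fun E => ⟨fun hE => fun y hy => ⟨E, hE, hy⟩, fun hsub => ?_⟩⟩, ?_⟩
  · have key : ∀ u : ↥E.obj.left.left, ∃ (V : EtOver X) (φ : V ⟶ E),
        u ∈ Set.range φ.hom.left.left ∧ Nonempty (F.obj.obj (op V)) := by
      intro u
      obtain ⟨E', hne, v, hv⟩ := hsub ⟨u, rfl⟩
      obtain ⟨p, hp, x, hx⟩ := exists_geometric_lift E u
      obtain ⟨t, ht, -⟩ := OEtStalk.exists_lift p hp E'.property (u := v) (by rw [hv, ← hx, ofPt_lift x])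
      haveI := isCofiltered_etNbhd hX p hp
      let A : EtNbhd p := ⟨E, x⟩
      let B : EtNbhd p := ⟨E', ⟨t, ht⟩⟩
      obtain ⟨M, g₁, g₂, -⟩ := IsCofilteredOrEmpty.cone_objs A B
      refine ⟨M.1, g₁.val, ⟨M.2.1.left (IsLocalRing.closedPoint p.K), ?_⟩, hne.map (F.obj.map g₂.val.op)⟩
      rw [← hx]
      exact congrArg (fun z : p.liftsTo.obj E => z.1.left (IsLocalRing.closedPoint p.K)) g₁.property
    choose V φ hu hne using key
    have hc := ofArrows_mem_etTop (X := X) V φ fun u => ⟨u, hu u⟩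
    have hs := ((isSheaf_iff_isSheaf_of_type (etTop X) _).1 F.2) _ hc
    have hmem : ∀ ⦃Y : EtOver X⦄ (f : Y ⟶ E), (Sieve.ofArrows V φ) f → Nonempty (F.obj.obj (op Y)) := by
      intro Y f hf
      rw [Sieve.mem_ofArrows_iff] at hf
      obtain ⟨i, g, rfl⟩ := hf
      exact (hne i).map (F.obj.map g.op)
    exact ⟨hs.amalgamate (fun Y f hf => (hmem f hf).some) fun _ _ Z _ _ _ _ _ _ _ =>
      @Subsingleton.elim _ (hF Z) _ _⟩
  · rintro W' ⟨hW', h'⟩
    refine Set.Subset.antisymm (fun x hx => ?_) fun x ⟨E, hE, hx⟩ => (h' E).1 hE hx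
    obtain ⟨U, a, ha, has⟩ := hX.atlas
    obtain ⟨u, rfl⟩ := surjective_ofPt has x
    let O : U.left.Opens := ⟨Points.ofPt a ⁻¹' W', hW'.preimage (Points.continuous_ofPt a)⟩
    let ι : Over.mk (O.ι ≫ U.hom) ⟶ U := Over.homMk O.ι rfl
    let E : EtOver X := EtOver.mk ((yon S).map ι ≫ a) (repWith_comp ((repWith_yon_map_iff (P := @Etale) _).2
      (inferInstanceAs (Etale O.ι))) ha)
    have hr : ∀ z : ↥O, Points.ofPt E.obj.hom z = Points.ofPt a z.1 := fun z => ofPt_comp ι a z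
    refine ⟨E, (h' E).2 ?_, ⟨⟨u, hx⟩, hr ⟨u, hx⟩⟩⟩
    rintro _ ⟨z, rfl⟩
    rw [hr z]
    exact z.2

end Groth.Agent.AlgSpc
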