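import Groth.Agent.AlgSpc.FieldRel
import Groth.Agent.AlgSpc.Basic
import Groth.Agent.AlgSpLoc.Cover
import Mathlib.AlgebraicGeometry.Morphisms.Finite
import Mathlib.AlgebraicGeometry.Morphisms.FinitePresentation
import Mathlib.Algebra.Category.Ring.Epi

/-!
A map from the spectrum of a field to a sheaf whose kernel pair is finite factors through a
monomorphism from the spectrum of a subfield of finite index.
-/

universe u

open CategoryTheory CategoryTheory.Limits AlgebraicGeometry Opposite TensorProduct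

set_option linter.style.haveILetI false
set_option backward.isDefEq.respectTransparency false

namespace Groth.Agent.AlgSpc.FieldRel

open _root_.AlgSp Groth.Agent.AlgSpc

/-- `A` as an algebra over `L` through `t`. -/
def Tw {L A : Type u} [CommRing L] [CommRing A] (_t : L →+* A) : Type u := A

instance {L A : Type u} [CommRing L] [CommRing A] (t : L →+* A) : CommRing (Tw t) :=
  inferInstanceAs (CommRing A)

instance {L A : Type u} [CommRing L] [CommRing A] (t : L →+* A) : Algebra L (Tw t) :=
  t.toAlgebra (S := Tw t)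

/-- The pushout of `t` and `s`, with the independence property. -/
theorem exists_composable {L A : Type u} [Field L] [CommRing A] (s t : L →+* A) :
    ∃ (B : Type u) (_ : CommRing B) (i₁ i₂ : A →+* B), i₂.comp s = i₁.comp t ∧
      ∀ (n : ℕ) (v : Fin n → A), (∀ c : Fin n → L, ∑ i, s (c i) * v i = 0 → c = 0) →
        ∀ a : Fin n → A, ∑ i, i₁ (a i) * i₂ (v i) = 0 → a = 0 := by
  letI : Algebra L A := s.toAlgebra
  refine ⟨Tw t ⊗[L] A, inferInstance,
    (Algebra.TensorProduct.includeLeftRingHom : Tw t →+* Tw t ⊗[L] A),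
    (Algebra.TensorProduct.includeRight : A →ₐ[L] Tw t ⊗[L] A).toRingHom, ?_, fun n v hv a ha => ?_⟩
  · ext x
    change (1 : Tw t) ⊗ₜ[L] (algebraMap L A x) = (algebraMap L (Tw t) x) ⊗ₜ[L] (1 : A)
    simp [Algebra.algebraMap_eq_smul_one, TensorProduct.smul_tmul]
  · have hli : LinearIndependent L v := Fintype.linearIndependent_iff.2 fun c hc i =>
      congrFun (hv c (by simpa [Algebra.smul_def, RingHom.algebraMap_toAlgebra] using hc)) i
    let a' : Fin n → Tw t := a
    funext i
    refine Fintype.linearIndependent_iff.1 (Module.Flat.linearIndependent_one_tmul (S := Tw t) hli)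
      a' ?_ i
    refine Eq.trans (Finset.sum_congr rfl fun j _ => ?_) ha
    change a' j • ((1 : Tw t) ⊗ₜ[L] v j) = (a' j ⊗ₜ[L] (1 : A)) * ((1 : Tw t) ⊗ₜ[L] v j)
    rw [TensorProduct.smul_tmul', Algebra.TensorProduct.tmul_mul_tmul, smul_eq_mul, one_mul]

theorem hom_congr {R R' : CommRingCat.{u}} {f g : R ⟶ R'} (h : Spec.map f = Spec.map g) :
    f.hom = g.hom := congrArg CommRingCat.Hom.hom (Spec.map_injective h)

variable {S : Scheme.{u}}

theorem epi_map_of_cover {V T : Over S} (c : V ⟶ T) [Flat c.left] [Surjective c.left]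
    [LocallyOfFinitePresentation c.left] : Epi ((yon S).map c) := by
  refine AlgSpLoc.epi_of_sq _ fun R g => ?_
  have h := (IsPullback.of_hasPullback c (pre g)).map (Over.forget S)
  refine ⟨pullback c (pre g), pullback.snd _ _, (yon S).map (pullback.fst _ _),
    MorphismProperty.of_isPullback (P := @Flat) h ‹_›,
    MorphismProperty.of_isPullback (P := @Surjective) h ‹_›,
    MorphismProperty.of_isPullback (P := @LocallyOfFinitePresentation) h ‹_›, ?_⟩
  rw [← Functor.map_comp, pullback.condition, Functor.map_comp, map_pre]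

/-- A map from the spectrum of a field whose kernel pair is finite over the field factors through a
monomorphism from the spectrum of a field, by a finite flat surjection. -/
theorem exists_mono_factor {F : Sp S} {L : Type u} [Field L] {str : Spec (CommRingCat.of L) ⟶ S}
    (q : (yon S).obj (Over.mk str) ⟶ F) {P : Over S} {p₁ p₂ : P ⟶ Over.mk str}
    (sq : IsPullback ((yon S).map p₁) ((yon S).map p₂) q q) (hfin : IsFinite p₁.left) :
    ∃ (k : Type u) (_ : Field k) (str' : Spec (CommRingCat.of k) ⟶ S)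
      (c : Over.mk str ⟶ Over.mk str') (q' : (yon S).obj (Over.mk str') ⟶ F),
      Mono q' ∧ (yon S).map c ≫ q' = q ∧ IsFinite c.left ∧ Flat c.left ∧ Surjective c.left ∧
        LocallyOfFinitePresentation c.left ∧ IsPullback (𝟙 _) ((yon S).map c) q q' := by
  haveI : IsAffine P.left := by
    haveI : IsAffine (Over.mk str).left := inferInstanceAs (IsAffine (Spec (CommRingCat.of L)))
    exact isAffine_of_isAffineHom p₁.left
  let A : CommRingCat.{u} := Γ(P.left, ⊤)
  let ι := P.left.isoSpec
  obtain ⟨s, hs⟩ : ∃ s : CommRingCat.of L ⟶ A, Spec.map s = ι.inv ≫ p₁.left :=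
    Spec.map_surjective _
  obtain ⟨t, ht⟩ : ∃ t : CommRingCat.of L ⟶ A, Spec.map t = ι.inv ≫ p₂.left :=
    Spec.map_surjective _
  have hsfin : s.hom.Finite := by
    rw [← IsFinite.SpecMap_iff, hs]
    infer_instance
  have w₁ : ι.inv ≫ P.hom = Spec.map s ≫ str := by
    rw [hs, Category.assoc]; exact congrArg (ι.inv ≫ ·) (Over.w p₁).symm
  have w₂ : ι.inv ≫ P.hom = Spec.map t ≫ str := by
    rw [ht, Category.assoc]; exact congrArg (ι.inv ≫ ·) (Over.w p₂).symm
  -- the diagonal
  let δ := pre (sq.lift (𝟙 _) (𝟙 _) rfl)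
  have hδ₁ : δ ≫ p₁ = 𝟙 _ := (yon S).map_injective (by simp [δ])
  have hδ₂ : δ ≫ p₂ = 𝟙 _ := (yon S).map_injective (by simp [δ])
  obtain ⟨e, he⟩ : ∃ e : A ⟶ CommRingCat.of L, Spec.map e = δ.left ≫ ι.hom :=
    Spec.map_surjective _
  have hes : e.hom.comp s.hom = RingHom.id L := by
    refine hom_congr (f := s ≫ e) (g := 𝟙 _) ?_
    rw [Spec.map_comp, he, hs, Category.assoc, Iso.hom_inv_id_assoc, ← Over.comp_left, hδ₁,
      Spec.map_id]
    rfl
  have het : e.hom.comp t.hom = RingHom.id L := by
    refine hom_congr (f := t ≫ e) (g := 𝟙 _) ?_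
    rw [Spec.map_comp, he, ht, Category.assoc, Iso.hom_inv_id_assoc, ← Over.comp_left, hδ₂,
      Spec.map_id]
    rfl
  -- composition
  obtain ⟨B, _, i₁, i₂, h12, hind⟩ := exists_composable s.hom t.hom
  have h12' : Spec.map (CommRingCat.ofHom i₂) ≫ Spec.map s =
      Spec.map (CommRingCat.ofHom i₁) ≫ Spec.map t := by
    rw [← Spec.map_comp, ← Spec.map_comp]
    exact congrArg Spec.map (CommRingCat.hom_ext h12)
  let T : Over S := Over.mk (Spec.map (CommRingCat.ofHom i₁) ≫ ι.inv ≫ P.hom)
  let β₁ : T ⟶ P := Over.homMk (Spec.map (CommRingCat.ofHom i₁) ≫ ι.inv) (Category.assoc _ _ _)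
  let β₂ : T ⟶ P := Over.homMk (Spec.map (CommRingCat.ofHom i₂) ≫ ι.inv) (by
    change (Spec.map (CommRingCat.ofHom i₂) ≫ ι.inv) ≫ P.hom =
      Spec.map (CommRingCat.ofHom i₁) ≫ ι.inv ≫ P.hom
    rw [Category.assoc, w₁, ← Category.assoc, h12', Category.assoc, ← w₂, w₁])
  have hβ : β₁ ≫ p₂ = β₂ ≫ p₁ := by
    ext : 1
    change (Spec.map (CommRingCat.ofHom i₁) ≫ ι.inv) ≫ p₂.left =
      (Spec.map (CommRingCat.ofHom i₂) ≫ ι.inv) ≫ p₁.left
    rw [Category.assoc, Category.assoc, ← hs, ← ht, h12']
  have wμ : (yon S).map (β₁ ≫ p₁) ≫ q = (yon S).map (β₂ ≫ p₂) ≫ q := by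
    rw [Functor.map_comp, Category.assoc, sq.w, ← Category.assoc, ← Functor.map_comp, hβ,
      Functor.map_comp, Category.assoc, sq.w, Functor.map_comp, Category.assoc]
  let μ := pre (sq.lift _ _ wμ)
  have hμ₁ : μ ≫ p₁ = β₁ ≫ p₁ := (yon S).map_injective (by simp [μ])
  have hμ₂ : μ ≫ p₂ = β₂ ≫ p₂ := (yon S).map_injective (by simp [μ])
  obtain ⟨m, hm⟩ : ∃ m : A ⟶ CommRingCat.of B, Spec.map m = μ.left ≫ ι.hom :=
    Spec.map_surjective _
  have hms : m.hom.comp s.hom = i₁.comp s.hom := by
    refine hom_congr (f := s ≫ m) (g := s ≫ CommRingCat.ofHom i₁) ?_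
    rw [Spec.map_comp, Spec.map_comp, hm, hs, Category.assoc, Iso.hom_inv_id_assoc,
      ← Over.comp_left, hμ₁, Over.comp_left, ← Category.assoc]
    rfl
  have hmt : m.hom.comp t.hom = i₂.comp t.hom := by
    refine hom_congr (f := t ≫ m) (g := t ≫ CommRingCat.ofHom i₂) ?_
    rw [Spec.map_comp, Spec.map_comp, hm, ht, Category.assoc, Iso.hom_inv_id_assoc,
      ← Over.comp_left, hμ₂, Over.comp_left, ← Category.assoc]
    rfl
  -- the two copies of `L` generate
  have hP : ∀ {Z : Scheme.{u}} (a b : Z ⟶ P.left), a ≫ p₁.left = b ≫ p₁.left →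
      a ≫ p₂.left = b ≫ p₂.left → a = b := by
    intro Z a b h₁ h₂
    have hw : a ≫ P.hom = b ≫ P.hom := by
      rw [← Over.w p₁, ← Category.assoc, h₁, Category.assoc]
    let a' : Over.mk (a ≫ P.hom) ⟶ P := Over.homMk a rfl
    let b' : Over.mk (a ≫ P.hom) ⟶ P := Over.homMk b hw.symm
    have : a' = b' := (yon S).map_injective (sq.hom_ext
      (by rw [← Functor.map_comp, ← Functor.map_comp]; exact congrArg (yon S).map (Over.OverMorphism.ext h₁))
      (by rw [← Functor.map_comp, ← Functor.map_comp]; exact congrArg (yon S).map (Over.OverMorphism.ext h₂)))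
    exact congrArg CommaMorphism.left this
  have hgen : Subring.closure (Set.range s.hom ∪ Set.range t.hom) = ⊤ := by
    let B₀ := Subring.closure (Set.range s.hom ∪ Set.range t.hom)
    let j : CommRingCat.of B₀ ⟶ A := CommRingCat.ofHom B₀.subtype
    let s₀ : CommRingCat.of L ⟶ CommRingCat.of B₀ := CommRingCat.ofHom
      (s.hom.codRestrict B₀ fun x => Subring.subset_closure (Or.inl ⟨x, rfl⟩))
    let t₀ : CommRingCat.of L ⟶ CommRingCat.of B₀ := CommRingCat.ofHom
      (t.hom.codRestrict B₀ fun x => Subring.subset_closure (Or.inr ⟨x, rfl⟩))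
    haveI : Mono (Spec.map j) := ⟨fun a b h => by
      have h₁ : a ≫ Spec.map s = b ≫ Spec.map s := by
        rw [show s = s₀ ≫ j from rfl, Spec.map_comp, reassoc_of% h]
      have h₂ : a ≫ Spec.map t = b ≫ Spec.map t := by
        rw [show t = t₀ ≫ j from rfl, Spec.map_comp, reassoc_of% h]
      rw [hs, ← Category.assoc, ← Category.assoc] at h₁
      rw [ht, ← Category.assoc, ← Category.assoc] at h₂
      exact (cancel_mono ι.inv).1 (hP _ _ h₁ h₂)⟩
    haveI : Epi j := ⟨fun a b h => Spec.map_injective ((cancel_mono (Spec.map j)).1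
      (by rw [← Spec.map_comp, ← Spec.map_comp, h]))⟩
    refine eq_top_iff.2 fun x _ => ?_
    obtain ⟨y, rfl⟩ := RingHom.surjective_of_epi_of_finite j
      (RingHom.Finite.of_comp_finite (f := s₀.hom) (g := j.hom) hsfin) x
    exact y.2
  -- the field of constants
  let k := eqField s.hom t.hom
  haveI hk : FiniteDimensional k L := finiteDimensional hes het h12 hms hmt hind hsfin
  have hpo := isPushout hes het h12 hms hmt hind hgen
  let incl : CommRingCat.of k ⟶ CommRingCat.of L := CommRingCat.ofHom k.subtype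
  have hpb : IsPullback (Spec.map s) (Spec.map t) (Spec.map incl) (Spec.map incl) :=
    isPullback_SpecMap_of_isPushout _ _ _ _ hpo
  let φ := S.descResidueField (Scheme.stalkClosedPointTo str)
  have hφ : Spec.map φ ≫ S.fromSpecResidueField _ = str :=
    Scheme.descResidueField_stalkClosedPointTo_fromSpecResidueField L S str
  have hφk : ∀ x, φ.hom x ∈ k := by
    have : φ ≫ s = φ ≫ t := by
      refine Spec.map_injective ((cancel_mono (S.fromSpecResidueField (str (IsLocalRing.closedPoint L)))).1 ?_)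
      rw [Spec.map_comp, Spec.map_comp, Category.assoc, Category.assoc, hφ, ← w₁, w₂]
    exact fun x => RingHom.congr_fun (congrArg CommRingCat.Hom.hom this) x
  let str' : Spec (CommRingCat.of k) ⟶ S :=
    Spec.map (CommRingCat.ofHom (φ.hom.codRestrict k hφk)) ≫ S.fromSpecResidueField _
  have hstr : Spec.map incl ≫ str' = str := by
    rw [← Category.assoc, ← Spec.map_comp]
    exact hφ
  let c : Over.mk str ⟶ Over.mk str' := Over.homMk (Spec.map incl) hstr
  haveI hcf : IsFinite c.left := by
    change IsFinite (Spec.map incl)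
    rw [IsFinite.SpecMap_iff]
    exact RingHom.finite_algebraMap.2 (inferInstanceAs (Module.Finite k L))
  haveI hcl : Flat c.left := by
    change Flat (Spec.map incl)
    rw [Flat.SpecMap_iff]
    exact RingHom.flat_algebraMap_iff.2 (inferInstanceAs (Module.Flat k L))
  haveI hcs : Surjective c.left := ⟨fun x => ⟨(default : PrimeSpectrum L),
    @Subsingleton.elim (PrimeSpectrum k) _ _ _⟩⟩
  haveI hcp : LocallyOfFinitePresentation c.left := by
    change LocallyOfFinitePresentation (Spec.map incl)
    rw [LocallyOfFinitePresentation.SpecMap_iff]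
    exact RingHom.FinitePresentation.of_finiteType.1
      (RingHom.FiniteType.of_finite (RingHom.finite_algebraMap.2 (inferInstanceAs (Module.Finite k L))))
  -- kernel pair of `c` and of `q` agree
  have key : ∀ ⦃T : Over S⦄ (g₁ g₂ : T ⟶ Over.mk str),
      g₁ ≫ c = g₂ ≫ c ↔ (yon S).map g₁ ≫ q = (yon S).map g₂ ≫ q := by
    intro T g₁ g₂
    constructor
    · intro h
      have h' : g₁.left ≫ Spec.map incl = g₂.left ≫ Spec.map incl := congrArg CommaMorphism.left h
      let r := hpb.lift g₁.left g₂.left h'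
      have hr₁ : r ≫ ι.inv ≫ p₁.left = g₁.left := by rw [← hs]; exact hpb.lift_fst _ _ _
      have hr₂ : r ≫ ι.inv ≫ p₂.left = g₂.left := by rw [← ht]; exact hpb.lift_snd _ _ _
      let R : T ⟶ P := Over.homMk (r ≫ ι.inv) (by
        rw [← Over.w p₁, Category.assoc, ← Category.assoc ι.inv, ← Category.assoc, hr₁]
        exact Over.w g₁)
      have hR₁ : R ≫ p₁ = g₁ := Over.OverMorphism.ext ((Category.assoc _ _ _).trans hr₁)
      have hR₂ : R ≫ p₂ = g₂ := Over.OverMorphism.ext ((Category.assoc _ _ _).trans hr₂)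
      rw [← hR₁, ← hR₂, Functor.map_comp, Functor.map_comp, Category.assoc, Category.assoc, sq.w]
    · intro h
      let r := pre (sq.lift _ _ h)
      have hr₁ : r ≫ p₁ = g₁ := (yon S).map_injective (by simp [r])
      have hr₂ : r ≫ p₂ = g₂ := (yon S).map_injective (by simp [r])
      ext : 1
      change g₁.left ≫ Spec.map incl = g₂.left ≫ Spec.map incl
      have := congrArg ((r.left ≫ ι.hom) ≫ ·) hpb.w
      rw [← hr₁, ← hr₂, Over.comp_left, Over.comp_left]
      simpa [hs, ht] using this
  haveI := epi_map_of_cover c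
  haveI := AlgSpLoc.effectiveEpi_of_epi ((yon S).map c)
  let q' : (yon S).obj (Over.mk str') ⟶ F := EffectiveEpi.desc ((yon S).map c) q fun g₁ g₂ h => by
    refine hom_ext fun T a => ?_
    have := (key (pre (a ≫ g₁)) (pre (a ≫ g₂))).1 ((yon S).map_injective (by simp [h]))
    simpa using this
  have hq' : (yon S).map c ≫ q' = q := EffectiveEpi.fac _ _ _
  haveI hmono : Mono q' := by
    refine mono_of_cancel fun T a b hab => ?_
    have h₁ := (IsPullback.of_hasPullback c (pre a)).map (Over.forget S)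
    let cov₁ := pullback.snd c (pre a)
    have h₂ := (IsPullback.of_hasPullback c (cov₁ ≫ pre b)).map (Over.forget S)
    let cov₂ := pullback.snd c (cov₁ ≫ pre b)
    haveI : Epi ((yon S).map cov₁) :=
      @epi_map_of_cover _ _ _ cov₁ (MorphismProperty.of_isPullback (P := @Flat) h₁ hcl)
        (MorphismProperty.of_isPullback (P := @Surjective) h₁ hcs)
        (MorphismProperty.of_isPullback (P := @LocallyOfFinitePresentation) h₁ hcp)
    haveI : Epi ((yon S).map cov₂) :=
      @epi_map_of_cover _ _ _ cov₂ (MorphismProperty.of_isPullback (P := @Flat) h₂ hcl)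
        (MorphismProperty.of_isPullback (P := @Surjective) h₂ hcs)
        (MorphismProperty.of_isPullback (P := @LocallyOfFinitePresentation) h₂ hcp)
    let a₂ := cov₂ ≫ pullback.fst c (pre a)
    let b₂ := pullback.fst c (cov₁ ≫ pre b)
    have ha : a₂ ≫ c = cov₂ ≫ cov₁ ≫ pre a := by simp [a₂, cov₁, pullback.condition]
    have hb : b₂ ≫ c = cov₂ ≫ cov₁ ≫ pre b := pullback.condition
    have : a₂ ≫ c = b₂ ≫ c := (key _ _).2 (by
      rw [← hq', ← Category.assoc, ← Functor.map_comp, ← Category.assoc, ← Functor.map_comp, ha, hb]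
      simp [hab])
    rw [ha, hb] at this
    have := congrArg (yon S).map this
    simpa [cancel_epi] using this
  refine ⟨k, inferInstance, str', c, q', hmono, hq', hcf, hcl, hcs, hcp, ?_⟩
  refine IsPullback.of_isLimit' ⟨by rw [Category.id_comp, hq']⟩
    (PullbackCone.IsLimit.mk _ (fun x => x.fst) (fun x => Category.comp_id _) (fun x => ?_)
      (fun x n h₁ _ => by simpa using h₁))
  refine (cancel_mono q').1 ?_
  rw [Category.assoc, hq']
  exact x.condition

end Groth.Agent.AlgSpc.FieldRel
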