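import Mathlib.RingTheory.Flat.Basic
import Mathlib.Algebra.Category.Ring.Constructions
import Mathlib.RingTheory.Finiteness.Basic
import Mathlib.LinearAlgebra.Dimension.StrongRankCondition
import Mathlib.LinearAlgebra.TensorProduct.Basis
import Mathlib.RingTheory.TensorProduct.Free
import Mathlib.LinearAlgebra.Basis.VectorSpace
import Mathlib.LinearAlgebra.FiniteDimensional.Basic

/-!
Equivalence relations on the spectrum of a field: the ring of a finite equivalence relation on
`Spec L` is `L ⊗[k] L` for the fixed field `k`.
-/

universe u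

open CategoryTheory TensorProduct

set_option linter.style.haveILetI false
set_option backward.isDefEq.respectTransparency false

namespace Groth.Agent.AlgSpc.FieldRel

variable {L A : Type u} [Field L] [CommRing A]

/-- The fixed field of two maps out of a field. -/
def eqField (s t : L →+* A) : Subfield L where
  __ := RingHom.eqLocus s t
  inv_mem' x hx := by
    change s x⁻¹ = t x⁻¹
    rcases eq_or_ne x 0 with rfl | h0
    · simp
    · have hx' : s x = t x := hx
      have h1 : s x⁻¹ * s x = 1 := by rw [← map_mul, inv_mul_cancel₀ h0, map_one]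
      have h2 : s x * t x⁻¹ = 1 := by rw [hx', ← map_mul, mul_inv_cancel₀ h0, map_one]
      exact left_inv_eq_right_inv h1 h2

theorem mem_eqField {s t : L →+* A} {x : L} : x ∈ eqField s t ↔ s x = t x := Iff.rfl

variable {B : Type u} [CommRing B] {s t : L →+* A} {e : A →+* L} {i₁ i₂ m : A →+* B}

/-- The induction behind the linear disjointness of the two copies of `L` in `A`. -/
theorem sum_eq_zero (hes : e.comp s = RingHom.id L) (het : e.comp t = RingHom.id L)
    (h12 : i₂.comp s = i₁.comp t) (hms : m.comp s = i₁.comp s) (hmt : m.comp t = i₂.comp t)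
    (hind : ∀ (n : ℕ) (v : Fin n → A), (∀ c : Fin n → L, ∑ i, s (c i) * v i = 0 → c = 0) →
      ∀ a : Fin n → A, ∑ i, i₁ (a i) * i₂ (v i) = 0 → a = 0) :
    ∀ (n : ℕ) (l : Fin n → L), LinearIndependent (eqField s t) l →
      ∀ c : Fin n → L, ∑ i, s (c i) * t (l i) = 0 → c = 0 := by
  intro n
  induction n with
  | zero => exact fun l _ c _ => Subsingleton.elim _ _
  | succ n ih =>
    intro l hl c hc
    have hl' : LinearIndependent (eqField s t) (l ∘ Fin.succ) :=
      hl.comp _ (Fin.succ_injective _)
    rcases eq_or_ne (c 0) 0 with h0 | h0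
    · rw [Fin.sum_univ_succ, h0, map_zero, zero_mul, zero_add] at hc
      have := ih _ hl' _ hc
      funext i
      induction i using Fin.cases with
      | zero => exact h0
      | succ i => exact congrFun this i
    exfalso
    set d : Fin (n + 1) → L := fun i => (c 0)⁻¹ * c i with hd
    have hd0 : d 0 = 1 := inv_mul_cancel₀ h0
    have hdsum : ∑ i, s (d i) * t (l i) = 0 := by
      simp only [hd, map_mul, mul_assoc, ← Finset.mul_sum, hc, mul_zero]
    -- compare the relation pulled back along the composition and along the second projection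
    have h1 : ∑ i, i₁ (s (d i)) * i₂ (t (l i)) = 0 := by
      have := congrArg m hdsum
      simp only [map_sum, map_mul, map_zero] at this
      convert this using 2 with i
      exact congrArg₂ (· * ·) (RingHom.congr_fun hms _).symm (RingHom.congr_fun hmt _).symm
    have h2 : ∑ i, i₁ (t (d i)) * i₂ (t (l i)) = 0 := by
      have := congrArg i₂ hdsum
      simp only [map_sum, map_mul, map_zero] at this
      convert this using 2 with i
      exact congrArg (· * _) (RingHom.congr_fun h12 _).symm
    have h3 : ∑ i : Fin n, i₁ (s (d i.succ) - t (d i.succ)) * i₂ (t (l i.succ)) = 0 := by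
      have := congrArg₂ (· - ·) h1 h2
      simp only [Fin.sum_univ_succ, hd0, map_one, add_sub_add_left_eq_sub, sub_self] at this
      simpa only [map_sub, sub_mul, Finset.sum_sub_distrib] using this
    have h4 := hind n _ (ih _ hl') _ h3
    have hk : ∀ i, d i ∈ eqField s t := by
      intro i
      induction i using Fin.cases with
      | zero => rw [hd0]; exact one_mem _
      | succ i => exact sub_eq_zero.1 (congrFun h4 i)
    have h5 : ∑ i, d i * l i = 0 := by
      have := congrArg e hdsum
      simp only [map_sum, map_mul, map_zero] at this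
      convert this using 2 with i
      exact congrArg₂ (· * ·) (RingHom.congr_fun hes _).symm (RingHom.congr_fun het _).symm
    have h6 := Fintype.linearIndependent_iff.1 hl (fun i => ⟨d i, hk i⟩)
      (by simpa [Subfield.smul_def] using h5) 0
    exact one_ne_zero (hd0.symm.trans (congrArg Subtype.val h6))

variable (hes : e.comp s = RingHom.id L) (het : e.comp t = RingHom.id L)
    (h12 : i₂.comp s = i₁.comp t) (hms : m.comp s = i₁.comp s) (hmt : m.comp t = i₂.comp t)
    (hind : ∀ (n : ℕ) (v : Fin n → A), (∀ c : Fin n → L, ∑ i, s (c i) * v i = 0 → c = 0) →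
      ∀ a : Fin n → A, ∑ i, i₁ (a i) * i₂ (v i) = 0 → a = 0)

include hes het h12 hms hmt hind in
theorem linearIndependent_of_linearIndependent {ι : Type*} (l : ι → L)
    (hl : LinearIndependent (eqField s t) l) :
    letI : Algebra L A := s.toAlgebra
    LinearIndependent L (fun i => t (l i)) := by
  letI : Algebra L A := s.toAlgebra
  refine linearIndependent_iff'.2 fun F g hg i hi => ?_
  let f := F.equivFin
  have hli : LinearIndependent (eqField s t) (fun j => l (f.symm j).1) :=
    hl.comp _ (Subtype.val_injective.comp f.symm.injective)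
  have := sum_eq_zero hes het h12 hms hmt hind F.card _ hli (fun j => g (f.symm j).1) (by
    rw [← hg, ← Finset.sum_coe_sort F, ← Equiv.sum_comp f.symm]
    exact Finset.sum_congr rfl fun j _ => (Algebra.smul_def _ _).symm)
  simpa using congrFun this (f ⟨i, hi⟩)

include hes het h12 hms hmt hind in
theorem finiteDimensional (hfin : s.Finite) : FiniteDimensional (eqField s t) L := by
  letI : Algebra L A := s.toAlgebra
  haveI : Module.Finite L A := hfin
  let b := Module.Basis.ofVectorSpace (eqField s t) L
  have hb := linearIndependent_of_linearIndependent hes het h12 hms hmt hind b b.linearIndependent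
  obtain ⟨w, hw⟩ := Module.Finite.fg_top (R := L) (M := A)
  have := LinearIndependent.finite_of_le_span_finite _ hb (w : Set A)
    (fun x _ => by rw [hw]; trivial)
  exact Module.Finite.of_basis b

include hes het h12 hms hmt hind in
/-- The ring of the relation is the tensor square of `L` over the fixed field. -/
theorem isPushout (hgen : Subring.closure (Set.range s ∪ Set.range t) = ⊤) :
    IsPushout (CommRingCat.ofHom (eqField s t).subtype) (CommRingCat.ofHom (eqField s t).subtype)
      (CommRingCat.ofHom s) (CommRingCat.ofHom t) := by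
  letI : Algebra L A := s.toAlgebra
  let k := eqField s t
  letI : Algebra k A := (s.comp k.subtype).toAlgebra
  haveI : IsScalarTower k L A := IsScalarTower.of_algebraMap_eq' rfl
  let t' : L →ₐ[k] A := { t with commutes' := fun x => (x.2 : s x.1 = t x.1).symm }
  let s' : L →ₐ[L] A := Algebra.ofId L A
  let Φ : L ⊗[k] L →ₐ[L] A := Algebra.TensorProduct.lift s' t' fun _ _ => .all _ _
  have hΦ : Function.Bijective Φ := by
    constructor
    · let b := Module.Basis.ofVectorSpace k L
      let bL := Algebra.TensorProduct.basis L b
      refine LinearMap.injective_of_linearIndependent (f := Φ.toLinearMap) bL.span_eq ?_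
      have hv : Φ.toLinearMap ∘ bL = fun i => t (b i) := funext fun i => by
        change Φ (bL i) = _
        simp [bL, Φ, Algebra.TensorProduct.basis_apply, t']
      rw [hv]
      exact linearIndependent_of_linearIndependent hes het h12 hms hmt hind b b.linearIndependent
    · change Function.Surjective Φ.toRingHom
      rw [← RingHom.range_eq_top, eq_top_iff, ← hgen, Subring.closure_le]
      rintro _ (⟨x, rfl⟩ | ⟨x, rfl⟩)
      · exact ⟨x ⊗ₜ 1, by change Φ (x ⊗ₜ[k] (1 : L)) = s x; simp [Φ, s', RingHom.algebraMap_toAlgebra]⟩
      · exact ⟨1 ⊗ₜ x, by change Φ ((1 : L) ⊗ₜ[k] x) = t x; simp [Φ, t']⟩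
  have h := CommRingCat.isPushout_tensorProduct k L L
  refine h.of_iso (Iso.refl _) (Iso.refl _) (Iso.refl _)
    (RingEquiv.ofBijective Φ.toRingHom hΦ).toCommRingCatIso ?_ ?_ ?_ ?_
  · ext; rfl
  · ext; rfl
  · ext x
    change Φ (x ⊗ₜ[k] (1 : L)) = s x
    simp [Φ, s', RingHom.algebraMap_toAlgebra]
  · ext x
    change Φ ((1 : L) ⊗ₜ[k] x) = t x
    simp [Φ, t']

end Groth.Agent.AlgSpc.FieldRel
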