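import Groth.Agent.AlgSpLoc.AffineDescent
import Groth.Agent.AlgSpLoc.Glue
import Groth.Agent.AlgSpc.OpenSubspace
import Groth.Agent.AlgSpc.LocSurj
import Mathlib.AlgebraicGeometry.ZariskisMainTheorem
import Mathlib.AlgebraicGeometry.QuasiAffine

/-!
Effective fppf descent of schemes which are separated and locally quasi-finite over the base.
-/

set_option autoImplicit false
set_option linter.style.haveILetI false
set_option backward.isDefEq.respectTransparency false

universe u

open CategoryTheory CategoryTheory.Limits AlgebraicGeometry Opposite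

namespace Groth.Agent.AlgSpc.FppfDescent

open _root_.AlgSp Groth.Agent.AlgSpc Groth.Agent.AlgSpLoc

variable {S : Scheme.{u}}

/-- A sheaf over an affine scheme which becomes quasi-affine after an fppf affine base change is a scheme. -/
theorem exists_yon_iso_of_quasiAffine {X : Sp S} {T T' : Over S} [IsAffine T.left] [IsAffine T'.left]
    (c : T' ⟶ T) [Flat c.left] [LocallyOfFinitePresentation c.left] [Surjective c.left]
    (f : X ⟶ (yon S).obj T) {W : Over S} (qW : (yon S).obj W ⟶ X) (fW : W ⟶ T')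
    (sq : IsPullback qW ((yon S).map fW) f ((yon S).map c)) [W.left.IsQuasiAffine] :
    ∃ V : Over S, Nonempty ((yon S).obj V ≅ X) := by
  haveI : CompactSpace ↥W.left := inferInstance
  haveI hcq : QuasiCompact c.left := inferInstance
  have hqWF : RepWith @Flat qW := repWith_of_isPullback sq.flip ((repWith_yon_map_iff _ c).2 ‹_›)
  have hqWL : RepWith @LocallyOfFinitePresentation qW :=
    repWith_of_isPullback sq.flip ((repWith_yon_map_iff _ c).2 ‹_›)
  have hqWs : RepWith @Surjective qW := repWith_of_isPullback sq.flip ((repWith_yon_map_iff _ c).2 ‹_›)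
  have hqWq : RepWith @QuasiCompact qW := repWith_of_isPullback sq.flip ((repWith_yon_map_iff _ c).2 hcq)
  -- an affine cover of `W`
  let 𝒲 := W.left.affineCover.finiteSubcover
  haveI : ∀ i, IsAffine (𝒲.X i) := fun i => inferInstanceAs (IsAffine (W.left.affineCover.X _))
  let φ : (∐ 𝒲.X) ⟶ W.left := Sigma.desc 𝒲.f
  let U : Over S := Over.mk (φ ≫ W.hom)
  let φ' : U ⟶ W := Over.homMk φ rfl
  haveI hU : IsAffine U.left := inferInstanceAs (IsAffine (∐ 𝒲.X))
  haveI : Etale φ'.left := IsZariskiLocalAtSource.sigmaDesc fun i => (inferInstance : Etale (𝒲.f i))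
  haveI : Surjective φ'.left := ⟨fun w => by
    obtain ⟨i, y, rfl⟩ := 𝒲.exists_eq w
    exact ⟨Sigma.ι 𝒲.X i y, by
      change φ (Sigma.ι 𝒲.X i y) = _
      rw [← Scheme.Hom.comp_apply, Sigma.ι_desc]⟩⟩
  haveI : QuasiCompact φ'.left := quasiCompact_of_compactSpace _
  obtain ⟨p, hpdef⟩ : ∃ p : (yon S).obj U ⟶ X, p = (yon S).map φ' ≫ qW := ⟨_, rfl⟩
  have hpF : RepWith @Flat p := hpdef ▸ repWith_comp ((repWith_yon_map_iff _ φ').2 inferInstance) hqWF
  have hpL : RepWith @LocallyOfFinitePresentation p :=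
    hpdef ▸ repWith_comp ((repWith_yon_map_iff _ φ').2 inferInstance) hqWL
  have hps : RepWith @Surjective p := hpdef ▸ repWith_comp ((repWith_yon_map_iff _ φ').2 inferInstance) hqWs
  have hpq : RepWith @QuasiCompact p := hpdef ▸ repWith_comp ((repWith_yon_map_iff _ φ').2 inferInstance) hqWq
  haveI := isLocallySurjective_of_repWith hpF hpL hps
  haveI : Epi p := inferInstance
  let u : U ⟶ T := pre (p ≫ f)
  have hu : (yon S).map u = p ≫ f := map_pre _
  -- the equivalence relation
  let UU := pullback u u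
  have hUU : IsAffine UU.left := IsAffine.of_isPullback (show IsPullback (pullback.fst u u).left
    (pullback.snd u u).left u.left u.left from (IsPullback.of_hasPullback u u).map (Over.forget S))
  -- the equivalence relation
  obtain ⟨V, fstV, sndV, sqV⟩ := exists_sq hpq.1 p
  haveI : QuasiCompact sndV.left := hpq.2 _ _ _ sqV
  haveI : CompactSpace ↥V.left := QuasiCompact.compactSpace_of_compactSpace sndV.left
  let r₁ : V ⟶ U := pre fstV
  let r₂ : V ⟶ U := sndV
  have hr : (yon S).map r₁ ≫ p = (yon S).map r₂ ≫ p := by simp [r₁, r₂, sqV.w]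
  have hfac : ∀ ⦃Z : Over S⦄ (a b : Z ⟶ U), (yon S).map a ≫ p = (yon S).map b ≫ p →
      ∃ r : Z ⟶ V, r ≫ r₁ = a ∧ r ≫ r₂ = b := fun Z a b w =>
    ⟨pre (sqV.lift _ _ w), (yon S).map_injective (by simp [r₁]), (yon S).map_injective (by simp [r₂])⟩
  -- affine cover of the equivalence relation
  let 𝒰 := V.left.affineCover.finiteSubcover
  have : ∀ i, IsAffine (𝒰.X i) := fun i => inferInstanceAs (IsAffine (V.left.affineCover.X _))
  let σ₀ : (∐ 𝒰.X) ⟶ V.left := Sigma.desc 𝒰.f
  let Ra : Over S := Over.mk (σ₀ ≫ V.hom)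
  let σ : Ra ⟶ V := Over.homMk σ₀ rfl
  have : IsAffine Ra.left := inferInstanceAs (IsAffine (∐ 𝒰.X))
  have hσ : ∀ ⦃Z : Scheme.{u}⦄ (a b : V.left ⟶ Z), σ₀ ≫ a = σ₀ ≫ b → a = b := fun Z a b w =>
    Scheme.Cover.hom_ext 𝒰 _ _ fun i => by
      have := congrArg (Sigma.ι 𝒰.X i ≫ ·) w
      simpa [σ₀] using this
  have hw : (σ ≫ r₁) ≫ u = (σ ≫ r₂) ≫ u := (yon S).map_injective (by simp [hu, reassoc_of% hr])
  obtain ⟨B₀, hB₀, b₀, π₀, hπb, hπr, hstab⟩ := exists_stable_coequalizer u.left (σ ≫ r₁).left
    (σ ≫ r₂).left (congrArg CommaMorphism.left hw)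
  let B : Over S := Over.mk (b₀ ≫ T.hom)
  let b : B ⟶ T := Over.homMk b₀ rfl
  let π : U ⟶ B := Over.homMk π₀ (show π₀ ≫ b₀ ≫ T.hom = U.hom by rw [reassoc_of% hπb]; exact Over.w u)
  have : IsAffine B.left := hB₀
  have hπb' : π ≫ b = u := Over.OverMorphism.ext hπb
  haveI := effectiveEpi_of_epi p
  obtain ⟨m, hm⟩ : ∃ m : X ⟶ (yon S).obj B, p ≫ m = (yon S).map π := by
    refine ⟨EffectiveEpi.desc p ((yon S).map π) fun g₁ g₂ w => ?_, EffectiveEpi.fac _ _ _⟩
    refine AlgSpc.hom_ext fun Z z => ?_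
    obtain ⟨r, h₁, h₂⟩ := hfac (pre (z ≫ g₁)) (pre (z ≫ g₂)) (by simp [w])
    suffices pre (z ≫ g₁) ≫ π = pre (z ≫ g₂) ≫ π by
      simpa using congrArg (yon S).map this
    rw [← h₁, ← h₂]
    ext : 1
    simp only [Category.assoc, Over.comp_left]
    congr 1
    refine hσ _ _ ?_
    simpa [σ, π, Category.assoc] using hπr
  have hmb : m ≫ (yon S).map b = f := by
    rw [← cancel_epi p, reassoc_of% hm, ← Functor.map_comp, hπb', hu]
  -- base change
  have key : ∃ mW : W ⟶ pullback c b,
      IsPullback qW ((yon S).map mW) m ((yon S).map (pullback.snd c b)) ∧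
      IsOpenImmersion mW.left ∧ (IsAffine W.left → IsIso mW.left) := by
    let B' := pullback c b
    let U' := pullback c u
    let R' := pullback c ((σ ≫ r₁) ≫ u)
    have hB' : IsAffine B'.left := IsAffine.of_isPullback (show IsPullback (pullback.fst c b).left
      (pullback.snd c b).left c.left b.left from (IsPullback.of_hasPullback c b).map (Over.forget S))
    let π' : U' ⟶ B' := pullback.map c u c b (𝟙 _) π (𝟙 _) (by simp) (by simp [hπb'])
    let r₁' : R' ⟶ U' := pullback.map c ((σ ≫ r₁) ≫ u) c u (𝟙 _) (σ ≫ r₁) (𝟙 _) (by simp) (by simp)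
    let r₂' : R' ⟶ U' := pullback.map c ((σ ≫ r₁) ≫ u) c u (𝟙 _) (σ ≫ r₂) (𝟙 _) (by simp) (by simp [← hw])
    have coeq : ∀ {Q : Scheme.{u}} [IsAffine Q] (h : U'.left ⟶ Q), r₁'.left ≫ h = r₂'.left ≫ h →
        ∃! k : B'.left ⟶ Q, π'.left ≫ k = h :=
      hstab c.left inferInstance _ _ ((IsPullback.of_hasPullback c b).map (Over.forget S))
        _ _ ((IsPullback.of_hasPullback c u).map (Over.forget S))
        _ _ ((IsPullback.of_hasPullback c ((σ ≫ r₁) ≫ u)).map (Over.forget S))
        π'.left r₁'.left r₂'.left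
        (by simp [π', ← Over.comp_left]) (by simp [π', ← Over.comp_left]; rfl)
        (by simp [r₁', ← Over.comp_left]) (by simp [r₁', ← Over.comp_left])
        (by simp [r₂', ← Over.comp_left]) (by simp [r₂', ← Over.comp_left])
    -- the chart of the base change
    let p' : U' ⟶ W := pre (sq.lift ((yon S).map (pullback.snd c u) ≫ p) ((yon S).map (pullback.fst c u)) (by
      rw [Category.assoc, ← hu, ← Functor.map_comp, ← Functor.map_comp, pullback.condition]))
    have hp'1 : (yon S).map p' ≫ qW = (yon S).map (pullback.snd c u) ≫ p := by simp [p']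
    have hp'2 : p' ≫ fW = pullback.fst c u := (yon S).map_injective (by simp [p'])
    have sqp : IsPullback ((yon S).map (pullback.snd c u)) ((yon S).map p') p qW := by
      refine IsPullback.of_bot ?_ hp'1.symm sq
      rw [← Functor.map_comp, hp'2, ← hu]
      exact (IsPullback.of_hasPullback c u).flip.map (yon S)
    haveI := AlgSpc.isLocallySurjective_of_repWith (repWith_of_isPullback sqp hpF)
      (repWith_of_isPullback sqp hpL) (repWith_of_isPullback sqp hps)
    haveI : Epi ((yon S).map p') := inferInstance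
    have hepi : ∀ {Z : Over S} (a a' : W ⟶ Z), p' ≫ a = p' ≫ a' → a = a' := fun a a' h =>
      (yon S).map_injective ((cancel_epi ((yon S).map p')).1 (by rw [← Functor.map_comp, h, Functor.map_comp]))
    have hwmW : (qW ≫ m) ≫ (yon S).map b = (yon S).map fW ≫ (yon S).map c := by
      rw [Category.assoc, hmb]; exact sq.w
    let mW : W ⟶ B' := pullback.lift fW (pre (qW ≫ m)) ((yon S).map_injective (by simp [← hwmW]))
    have sqm : IsPullback qW ((yon S).map mW) m ((yon S).map (pullback.snd c b)) := by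
      refine IsPullback.of_bot (h₃₁ := (yon S).map c) (v₂₁ := (yon S).map (pullback.fst c b)) ?_ ?_
        ((IsPullback.of_hasPullback c b).flip.map (yon S))
      · rw [← Functor.map_comp, hmb, show mW ≫ pullback.fst c b = fW from pullback.lift_fst _ _ _]
        exact sq
      · rw [← Functor.map_comp, show mW ≫ pullback.snd c b = _ from pullback.lift_snd _ _ _, map_pre]
    have hp'm : p' ≫ mW = π' := by
      apply pullback.hom_ext
      · simp [mW, π', hp'2]
      · apply (yon S).map_injective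
        simp [mW, π', reassoc_of% hp'1, hm]
    have hr' : r₁' ≫ p' = r₂' ≫ p' := by
      apply (yon S).map_injective
      apply sq.hom_ext
      · simp only [Functor.map_comp, Category.assoc, hp'1]
        rw [← Functor.map_comp_assoc, ← Functor.map_comp_assoc,
          show r₁' ≫ pullback.snd c u = _ from pullback.lift_snd _ _ _,
          show r₂' ≫ pullback.snd c u = _ from pullback.lift_snd _ _ _]
        simp [hr]
      · simp only [← Functor.map_comp, Category.assoc, hp'2]
        congr 1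
        simp [r₁', r₂']
    -- compare with the affinization
    let τ : W.left ⟶ Spec Γ(W.left, ⊤) := W.left.toSpecΓ
    obtain ⟨mΓ, hmΓ⟩ : ∃ mΓ : Spec Γ(W.left, ⊤) ⟶ B'.left, τ ≫ mΓ = mW.left :=
      ⟨Spec.map mW.left.appTop ≫ B'.left.isoSpec.inv, by
        rw [← Scheme.toSpecΓ_naturality_assoc]; simp [Scheme.isoSpec]⟩
    let WΓ : Over S := Over.mk (mΓ ≫ B'.hom)
    let τ' : W ⟶ WΓ := Over.homMk τ (show τ ≫ mΓ ≫ B'.hom = W.hom by rw [reassoc_of% hmΓ]; exact Over.w mW)
    let mΓ' : WΓ ⟶ B' := Over.homMk mΓ rfl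
    have hτm : τ' ≫ mΓ' = mW := Over.OverMorphism.ext hmΓ
    have hh : r₁'.left ≫ (p' ≫ τ').left = r₂'.left ≫ (p' ≫ τ').left := by
      rw [← Over.comp_left, ← Over.comp_left, reassoc_of% hr']
    have : IsAffine WΓ.left := inferInstanceAs (IsAffine (Spec _))
    obtain ⟨k', hk', -⟩ := coeq (p' ≫ τ').left hh
    obtain ⟨_, -, huniq⟩ := coeq π'.left (by
      rw [← hp'm, ← Over.comp_left, ← Over.comp_left, reassoc_of% hr'])
    have hk1 : k' ≫ mΓ = 𝟙 _ := by
      refine (huniq (k' ≫ mΓ) ?_).trans (huniq (𝟙 _) (Category.comp_id _)).symm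
      change π'.left ≫ k' ≫ mΓ = _
      rw [← Category.assoc, hk', Over.comp_left, Category.assoc]
      change p'.left ≫ τ ≫ mΓ = _
      rw [hmΓ, ← Over.comp_left, hp'm]
    have hk2 : mΓ ≫ k' = 𝟙 _ := by
      let k₁ : B' ⟶ WΓ := Over.homMk k' (show k' ≫ mΓ ≫ B'.hom = B'.hom by rw [reassoc_of% hk1])
      have hπk : π' ≫ k₁ = p' ≫ τ' := Over.OverMorphism.ext hk'
      have hWk : mW ≫ k₁ = τ' := hepi _ _ (by rw [← Category.assoc, hp'm, hπk])
      have e : τ ≫ (mΓ ≫ k') = τ ≫ 𝟙 _ := by
        rw [← Category.assoc, hmΓ, Category.comp_id]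
        exact congrArg CommaMorphism.left hWk
      apply ext_of_isAffine
      have e' := congrArg Scheme.Hom.appTop e
      simp only [Scheme.Hom.comp_appTop] at e'
      have : IsIso τ.appTop := by simp only [τ, Scheme.toSpecΓ_appTop]; infer_instance
      simpa only [Scheme.Hom.comp_appTop, cancel_mono τ.appTop] using e'
    have hiso : IsIso mΓ := ⟨k', hk2, hk1⟩
    have hmW : IsOpenImmersion mW.left := by rw [← hmΓ]; infer_instance
    refine ⟨mW, sqm, hmW, fun _ => ?_⟩
    rw [← hmΓ]; infer_instance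
  obtain ⟨mW, sqm, hmW, -⟩ := key
  -- descend
  haveI := hmW
  let π₂ := pullback.snd c b
  have hπsq := (IsPullback.of_hasPullback c b).map (Over.forget S)
  haveI : Flat π₂.left := MorphismProperty.of_isPullback (P := @Flat) hπsq ‹_›
  haveI : LocallyOfFinitePresentation π₂.left :=
    MorphismProperty.of_isPullback (P := @LocallyOfFinitePresentation) hπsq ‹_›
  haveI : Surjective π₂.left := MorphismProperty.of_isPullback (P := @Surjective) hπsq ‹_›
  haveI : Mono m := mono_of_cancel fun R a a' h => by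
    have s := (IsPullback.of_hasPullback π₂ (pre (a ≫ m))).map (Over.forget S)
    let q := pullback.snd π₂ (pre (a ≫ m))
    haveI : Flat q.left := MorphismProperty.of_isPullback (P := @Flat) s ‹_›
    haveI : LocallyOfFinitePresentation q.left :=
      MorphismProperty.of_isPullback (P := @LocallyOfFinitePresentation) s ‹_›
    haveI : Surjective q.left := MorphismProperty.of_isPullback (P := @Surjective) s ‹_›
    haveI : Epi ((yon S).map q) := AlgSpLoc.epi_of_sq _ fun Z g => by
      have h' := (IsPullback.of_hasPullback q (pre g)).map (Over.forget S)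
      refine ⟨pullback q (pre g), pullback.snd _ _, (yon S).map (pullback.fst _ _),
        MorphismProperty.of_isPullback (P := @Flat) h' ‹_›,
        MorphismProperty.of_isPullback (P := @Surjective) h' ‹_›,
        MorphismProperty.of_isPullback (P := @LocallyOfFinitePresentation) h' ‹_›, ?_⟩
      rw [← Functor.map_comp, pullback.condition, Functor.map_comp, map_pre]
    have w₁ : ((yon S).map q ≫ a) ≫ m = (yon S).map (pullback.fst π₂ (pre (a ≫ m))) ≫ (yon S).map π₂ := by
      rw [← Functor.map_comp, pullback.condition, Functor.map_comp, map_pre, Category.assoc]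
    have w₂ : ((yon S).map q ≫ a') ≫ m = (yon S).map (pullback.fst π₂ (pre (a ≫ m))) ≫ (yon S).map π₂ := by
      rw [Category.assoc]
      exact (congrArg ((yon S).map q ≫ ·) h.symm).trans ((Category.assoc _ _ _).symm.trans w₁)
    let l₁ := pre (sqm.lift _ _ w₁)
    let l₂ := pre (sqm.lift _ _ w₂)
    haveI : Mono mW := (Over.forget S).mono_of_mono_map (inferInstanceAs (Mono mW.left))
    have e : l₁ = l₂ := by
      rw [← cancel_mono mW]
      exact (yon S).map_injective (by simp [l₁, l₂])
    have := congrArg (fun l => (yon S).map l ≫ qW) e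
    exact (cancel_epi ((yon S).map q)).1 (by simpa [l₁, l₂] using this)
  let O : B.left.Opens := ⟨π₂.left '' Set.range mW.left,
    π₂.left.isOpenMap _ mW.left.isOpenEmbedding.isOpen_range⟩
  haveI : Mono ((yon S).map (openSubι B O)) :=
    mono_of_repWith (P := @IsOpenImmersion) (fun _ _ k (hk : IsOpenImmersion k) => inferInstance)
      ((repWith_yon_map_iff _ _).2 inferInstance)
  obtain ⟨m', hm'⟩ : ∃ m' : X ⟶ (yon S).obj (openSub B O), m' ≫ (yon S).map (openSubι B O) = m := by
    refine (exists_factor_iff ((repWith_yon_map_iff _ _).2 inferInstance) m).2 ?_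
    rintro _ ⟨x, rfl⟩
    obtain ⟨w, rfl⟩ := surjective_ofPt hqWs x
    refine ⟨Points.ofScheme _ (⟨π₂.left (mW.left w), _, ⟨w, rfl⟩, rfl⟩ : (O : Scheme.{u})), ?_⟩
    rw [map_ofPt_sq sqm.w w, ← ofPt_comp mW, ← Points.ofPt_eq_map_ofScheme]
    rw [ofPt_comp, AlgSpc.ofPt_pre, AlgSpc.ofPt_pre, pre_map, pre_map]
    rfl
  haveI : Mono (m' ≫ (yon S).map (openSubι B O)) := hm'.symm ▸ ‹Mono m›
  haveI : Mono m' := mono_of_mono m' ((yon S).map (openSubι B O))
  haveI : IsIso m' := isIso_of_mono_of_sq m' fun R g => by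
    let g₀ := pre g ≫ openSubι B O
    have s := (IsPullback.of_hasPullback π₂ g₀).map (Over.forget S)
    let q := pullback.snd π₂ g₀
    have hr : Set.range (pullback.fst π₂ g₀).left ⊆ Set.range mW.left := by
      rintro _ ⟨z, rfl⟩
      have hz : π₂.left ((pullback.fst π₂ g₀).left z) = g₀.left (q.left z) :=
        congrArg (fun φ : (pullback π₂ g₀).left ⟶ B.left => φ z) s.w
      have hO : g₀.left (q.left z) ∈ (O : Set B.left) := ((pre g).left (q.left z)).2
      obtain ⟨_, ⟨w, rfl⟩, hw⟩ := hz.symm ▸ hO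
      obtain ⟨v, -, hv⟩ := exists_point_of_sq sqm (Points.ofPt qW w) ((pullback.fst π₂ g₀).left z)
        (by rw [map_ofPt_sq sqm.w w, AlgSpc.ofPt_pre, AlgSpc.ofPt_pre, pre_map]; exact congrArg _ (show π₂.left (mW.left w) = π₂.left _ from hw))
      exact ⟨v, hv⟩
    let l : pullback π₂ g₀ ⟶ W := Over.homMk (IsOpenImmersion.lift mW.left _ hr) (by
      rw [← Over.w mW, IsOpenImmersion.lift_fac_assoc mW.left _ hr]; exact Over.w _)
    have hl : l ≫ mW = pullback.fst π₂ g₀ := by apply Over.OverMorphism.ext; exact IsOpenImmersion.lift_fac mW.left _ hr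
    refine ⟨pullback π₂ g₀, q, (yon S).map l ≫ qW, MorphismProperty.of_isPullback (P := @Flat) s ‹_›,
      MorphismProperty.of_isPullback (P := @Surjective) s ‹_›,
      MorphismProperty.of_isPullback (P := @LocallyOfFinitePresentation) s ‹_›, ?_⟩
    rw [← cancel_mono ((yon S).map (openSubι B O))]
    simp only [Category.assoc, hm', sqm.w]
    rw [← Functor.map_comp_assoc, hl, ← Functor.map_comp, pullback.condition]
    simp [g₀, q]
  exact ⟨openSub B O, ⟨(asIso m').symm⟩⟩

end Groth.Agent.AlgSpc.FppfDescent
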