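import Groth.Agent.AlgSpc.FppfGlue
import Groth.Agent.AlgSpc.SepLQF
import Groth.Agent.AlgSpc.LocSurj
import Groth.Agent.AlgSpc.LocP
import Groth.Agent.FpqcDescent.Topological
import Groth.Agent.FpqcDescent.Basic

/-!
Representability of a map which becomes separated and locally quasi-finite after an fppf cover.
-/

set_option autoImplicit false
set_option linter.style.haveILetI false
set_option backward.isDefEq.respectTransparency false

universe u

open CategoryTheory CategoryTheory.Limits AlgebraicGeometry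

namespace Groth.Agent.AlgSpc

open _root_.AlgSp

variable {S : Scheme.{u}}

/-- An fppf cover by a map representable by spaces lifts scheme-valued points fppf locally. -/
theorem exists_fppf_lift_of_repBySpWith {F G : Sp S} {g : F ⟶ G}
    (hg : RepBySpWith (IsSurjectiveMor ⊓ LocP @Flat ⊓ LocP @LocallyOfFinitePresentation) g.hom)
    {T : Over S} (y : (yon S).obj T ⟶ G) :
    ∃ (T' : Over S) (e : T' ⟶ T) (z : (yon S).obj T' ⟶ F),
      Flat e.left ∧ LocallyOfFinitePresentation e.left ∧ Surjective e.left ∧ z ≫ g = (yon S).map e ≫ y := by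
  obtain ⟨hP, ⟨hs, hfl⟩, hfp⟩ := (repBySpWith_hom_iff _ g).1 hg y _ _ (IsPullback.of_hasPullback g y)
  obtain ⟨V, p, hp, hps⟩ := hP.atlas
  let q := pre (p ≫ pullback.snd g y)
  have w : p ≫ pullback.snd g y = (yon S).map q ≫ 𝟙 _ := by simp [q]
  have hid : RepWith @Etale (𝟙 ((yon S).obj T)) := repWith_id _ T
  refine ⟨V, q, p ≫ pullback.fst g y, hfl p _ q hp hid w, hfp p _ q hp hid w, ⟨fun t => ?_⟩, ?_⟩
  · obtain ⟨x, hx⟩ := hs (Points.ofScheme T t)
    obtain ⟨v, rfl⟩ := surjective_ofPt hps x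
    refine ⟨v, ?_⟩
    rw [Points.map_ofPt, ← map_pre (p ≫ pullback.snd g y)] at hx
    have := congrArg (Points.toScheme T) hx
    rwa [Points.toScheme_ofPt, Points.toScheme_ofScheme] at this
  · rw [Category.assoc, pullback.condition]
    simp [q]

/-- The base change to `T` is a scheme, separated and locally quasi-finite, if it is so after an fppf cover. -/
theorem exists_sq_of_fppf_cover {H G : Sp S} (b : H ⟶ G) {T T' : Over S} (y : (yon S).obj T ⟶ G) (e : T' ⟶ T)
    [Flat e.left] [LocallyOfFinitePresentation e.left] [Surjective e.left]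
    {W : Over S} {qW : (yon S).obj W ⟶ H} {fW : W ⟶ T'}
    (sq : IsPullback qW ((yon S).map fW) b ((yon S).map e ≫ y))
    [IsSeparated fW.left] [LocallyQuasiFinite fW.left] [LocallyOfFiniteType fW.left] :
    ∃ (V : Over S) (fst : (yon S).obj V ⟶ H) (snd : V ⟶ T), IsPullback fst ((yon S).map snd) b y ∧
      IsSeparated snd.left ∧ LocallyQuasiFinite snd.left ∧ LocallyOfFiniteType snd.left := by
  have sqD := IsPullback.of_hasPullback b y
  let l := sqD.lift qW ((yon S).map fW ≫ (yon S).map e) (by rw [Category.assoc]; exact sq.w)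
  have sqW : IsPullback l ((yon S).map fW) (pullback.snd b y) ((yon S).map e) :=
    IsPullback.of_right (by simpa only [l, IsPullback.lift_fst] using sq) (sqD.lift_snd _ _ _) sqD
  obtain ⟨V, ⟨χ⟩⟩ := FppfDescent.exists_yon_iso_of_fppf_cover (pullback.snd b y) e sqW
  let snd : V ⟶ T := pre (χ.hom ≫ pullback.snd b y)
  have hsnd : (yon S).map snd = χ.hom ≫ pullback.snd b y := map_pre _
  let m : W ⟶ V := pre (l ≫ χ.inv)
  have sqV : IsPullback ((yon S).map m) ((yon S).map fW) ((yon S).map snd) ((yon S).map e) := by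
    rw [hsnd, show (yon S).map m = l ≫ χ.inv from map_pre _]
    exact sqW.of_iso (Iso.refl _) χ.symm (Iso.refl _) (Iso.refl _) (by simp) (by simp) (by simp) (by simp)
  have h' : IsPullback fW.left m.left e.left snd.left :=
    ((IsPullback.of_map (yon S) ((yon S).map_injective (by simpa using sqV.w)) sqV).map (Over.forget S)).flip
  refine ⟨V, χ.hom ≫ pullback.fst b y, snd, IsPullback.of_iso_pullback ⟨?_⟩ χ rfl ?_, ?_, ?_⟩
  · rw [hsnd, Category.assoc, Category.assoc, sqD.w]
  · rw [hsnd]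
  · exact MorphismProperty.of_isPullback_of_descendsAlong (P := @IsSeparated)
      (Q := @Surjective ⊓ @Flat ⊓ @LocallyOfFinitePresentation) h' ⟨⟨‹_›, ‹_›⟩, ‹_›⟩ ‹_›
  · exact MorphismProperty.of_isPullback_of_descendsAlong (P := @LocallyQuasiFinite ⊓ @LocallyOfFiniteType)
      (Q := @Surjective ⊓ @Flat ⊓ @LocallyOfFinitePresentation) h' ⟨⟨‹_›, ‹_›⟩, ‹_›⟩ ⟨‹_›, ‹_›⟩

/-- Bootstrap for separated locally quasi-finite maps. -/
theorem repWith_of_fppf_descent {E F G H : Sp S} (a : E ⟶ F) (f : E ⟶ H) (g : F ⟶ G) (b : H ⟶ G)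
    (sq : IsPullback a f g b)
    (hg : RepBySpWith (IsSurjectiveMor ⊓ LocP @Flat ⊓ LocP @LocallyOfFinitePresentation) g.hom)
    (ha : RepBySpWith (IsSeparatedMor ⊓ LocP (@LocallyQuasiFinite ⊓ @LocallyOfFiniteType)) a.hom) :
    RepWith @IsSeparated b ∧ RepWith (@LocallyQuasiFinite ⊓ @LocallyOfFiniteType) b := by
  have key : ∀ (T : Over S) (y : (yon S).obj T ⟶ G), ∃ (V : Over S) (fst : (yon S).obj V ⟶ H) (snd : V ⟶ T),
      IsPullback fst ((yon S).map snd) b y ∧
        IsSeparated snd.left ∧ LocallyQuasiFinite snd.left ∧ LocallyOfFiniteType snd.left := by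
    intro T y
    obtain ⟨T', e, z, h₁, h₂, h₃, hz⟩ := exists_fppf_lift_of_repBySpWith hg y
    have sqE := IsPullback.of_hasPullback a z
    obtain ⟨hE, hsep, hqf⟩ := (repBySpWith_hom_iff _ a).1 ha z _ _ sqE
    obtain ⟨W, ⟨χ⟩⟩ := SepLQF.exists_yon_iso_of_lqf_separated hE (pullback.snd a z) hqf hsep
    let fW : W ⟶ T' := pre (χ.hom ≫ pullback.snd a z)
    have hfW : (yon S).map fW = χ.hom ≫ pullback.snd a z := map_pre _
    have sqW : IsPullback ((χ.hom ≫ pullback.fst a z) ≫ f) ((yon S).map fW) b ((yon S).map e ≫ y) := by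
      rw [← hz]
      refine IsPullback.paste_horiz ?_ sq.flip |> fun h => h
      rw [hfW]
      exact IsPullback.of_iso_pullback ⟨by simp [sqE.w]⟩ χ rfl rfl
    have hl : LocP (@LocallyQuasiFinite ⊓ @LocallyOfFiniteType) ((yon S).map fW) := by
      intro U' V' a' b' h' ha' hb' w'
      rw [hfW, ← Category.assoc] at w'
      exact hqf _ b' h' (repWith_comp ha' (repWith_iso χ.hom)) hb' w'
    haveI : LocallyQuasiFinite fW.left := (locP_yon_map hl).1
    haveI : LocallyOfFiniteType fW.left := (locP_yon_map hl).2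
    haveI : (IsSeparatedMor (S := S)).RespectsIso :=
      inferInstanceAs ((RepWith (S := S) @IsClosedImmersion).diagonal.RespectsIso)
    haveI : IsSeparated fW.left := (isSeparatedMor_yon_map_iff fW).1 (by
      rw [hfW]; exact (MorphismProperty.cancel_left_of_respectsIso (IsSeparatedMor (S := S)) χ.hom _).2 hsep)
    exact exists_sq_of_fppf_cover b y e sqW
  constructor <;> refine repWith_mk fun T y => ?_
  · obtain ⟨V, fst, snd, h, h₁, -, -⟩ := key T y
    exact ⟨V, fst, snd, h, h₁⟩
  · obtain ⟨V, fst, snd, h, -, h₂, h₃⟩ := key T y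
    exact ⟨V, fst, snd, h, h₂, h₃⟩

end Groth.Agent.AlgSpc
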