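import Groth.Agent.AlgSpc.Decent
import Groth.Agent.AlgSpc.Misc2
import Groth.Agent.AlgSpc.UnivOpenField

/-!
Locally separated algebraic spaces are decent.
-/

universe u

open CategoryTheory CategoryTheory.Limits AlgebraicGeometry Opposite

set_option linter.style.haveILetI false
set_option backward.isDefEq.respectTransparency false

namespace Groth.Agent.AlgSpc

open _root_.AlgSp

variable {S : Scheme.{u}}

/-- Morphisms from the spectrum of a field to a sheaf with representable diagonal are determined on an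
extension of the field. -/
theorem hom_ext_of_field_extension {X : Sp S} (hX : Representable (diag X)) {L : Type u} [Field L]
    {str : Spec (CommRingCat.of L) ⟶ S} {P : Over S} (c : P ⟶ Over.mk str) (hP : Nonempty ↥P.left)
    {y₁ y₂ : (yon S).obj (Over.mk str) ⟶ X} (h : (yon S).map c ≫ y₁ = (yon S).map c ≫ y₂) : y₁ = y₂ := by
  obtain ⟨R, rf, r, sq⟩ := exists_sq hX (prod.lift y₁ y₂)
  haveI : Mono ((yon S).map r) := ⟨fun u v huv => sq.hom_ext (by
    have hr : (yon S).map r ≫ y₁ = rf := by simpa using (congrArg (· ≫ prod.fst) sq.w).symm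
    rw [← hr, ← Category.assoc, huv, Category.assoc]) huv⟩
  haveI := mono_of_map r
  obtain ⟨t⟩ := hP
  let l := pre (sq.lift ((yon S).map c ≫ y₁) ((yon S).map c) (by ext <;> simp [h]))
  obtain ⟨s, hs⟩ := exists_section_of_mono r.left (l.left t)
  let σ : Over.mk str ⟶ R := Over.homMk s (by
    change s ≫ R.hom = str
    rw [← Over.w r, reassoc_of% hs]
    rfl)
  have hσ : σ ≫ r = 𝟙 _ := by ext : 1; exact hs
  have w₁ : (yon S).map r ≫ y₁ = rf := by simpa using (congrArg (· ≫ prod.fst) sq.w).symm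
  have w₂ : (yon S).map r ≫ y₂ = rf := by simpa using (congrArg (· ≫ prod.snd) sq.w).symm
  have := congrArg ((yon S).map σ ≫ ·) (w₁.trans w₂.symm)
  simpa [← Functor.map_comp_assoc, hσ] using this

/-- Points of the pullback of the diagonal along a pair of morphisms. -/
theorem mem_range_diag_pullback_iff {X : Sp S} (hX : Representable (diag X)) {M R : Over S} {b₁ b₂ : (yon S).obj M ⟶ X}
    {fst : (yon S).obj R ⟶ X} {r : R ⟶ M} (sq : IsPullback fst ((yon S).map r) (diag X) (prod.lift b₁ b₂))
    (m : ↥M.left) :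
    m ∈ Set.range r.left ↔
      (yon S).map (Over.homMk (M.left.fromSpecResidueField m) rfl :
          Over.mk (M.left.fromSpecResidueField m ≫ M.hom) ⟶ M) ≫ b₁ =
        (yon S).map (Over.homMk (M.left.fromSpecResidueField m) rfl) ≫ b₂ := by
  set j : Over.mk (M.left.fromSpecResidueField m ≫ M.hom) ⟶ M := Over.homMk (M.left.fromSpecResidueField m) rfl
  have w₁ : (yon S).map r ≫ b₁ = fst := by simpa using (congrArg (· ≫ prod.fst) sq.w).symm
  have w₂ : (yon S).map r ≫ b₂ = fst := by simpa using (congrArg (· ≫ prod.snd) sq.w).symm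
  constructor
  · rintro ⟨x, rfl⟩
    let j' : Over.mk (R.left.fromSpecResidueField x ≫ R.hom) ⟶ R := Over.homMk (R.left.fromSpecResidueField x) rfl
    let c : Over.mk (R.left.fromSpecResidueField x ≫ R.hom) ⟶
        Over.mk (M.left.fromSpecResidueField (r.left x) ≫ M.hom) :=
      Over.homMk (Spec.map (r.left.residueFieldMap x)) (by
        change Spec.map _ ≫ M.left.fromSpecResidueField _ ≫ M.hom = R.left.fromSpecResidueField x ≫ R.hom
        rw [Scheme.Hom.SpecMap_residueFieldMap_fromSpecResidueField_assoc, Over.w])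
    have hc : c ≫ j = j' ≫ r := by
      ext : 1
      exact Scheme.Hom.SpecMap_residueFieldMap_fromSpecResidueField _ _
    -- morphisms to `X` from spectra of fields are determined on an extension of the field
    have h : ((yon S).map c ≫ (yon S).map j ≫ b₁) = ((yon S).map c ≫ (yon S).map j ≫ b₂) := by
      rw [← Functor.map_comp_assoc, ← Functor.map_comp_assoc, hc]
      simp [w₁, w₂]
    exact hom_ext_of_field_extension hX c ⟨IsLocalRing.closedPoint (R.left.residueField x)⟩ h
  · intro h
    obtain ⟨l, -, hl⟩ : ∃ l, l ≫ fst = (yon S).map j ≫ b₁ ∧ l ≫ (yon S).map r = (yon S).map j :=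
      ⟨sq.lift ((yon S).map j ≫ b₁) ((yon S).map j) (by ext <;> simp [h]), sq.lift_fst _ _ _, sq.lift_snd _ _ _⟩
    have e : pre l ≫ r = j := (yon S).map_injective (by simp [hl])
    refine ⟨(pre l).left (IsLocalRing.closedPoint _), ?_⟩
    have := congrArg (fun k : _ ⟶ M => k.left (IsLocalRing.closedPoint (M.left.residueField m))) e
    exact this.trans (Scheme.fromSpecResidueField_apply m _)

/-- A closed point of the fibre in an open set gives an open image. -/
theorem exists_open_image_of_fibre {Q : Scheme.{u}} {K : Type u} [Field K] (π : Q ⟶ Spec (CommRingCat.of K))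
    (O : (pullback π π).Opens) (m : ↥(pullback π π)) (hm : m ∈ O) :
    ∃ B : Q.Opens, pullback.snd π π m ∈ B ∧ ∀ v ∈ B, ∃ n ∈ O,
      pullback.fst π π n = pullback.fst π π m ∧ pullback.snd π π n = v := by
  let z := pullback.fst π π m
  let p := pullback.fst π π
  let q := p.fiberι z ≫ pullback.snd π π
  have sq : IsPullback q (p.fiberToSpecResidueField z) π (Q.fromSpecResidueField z ≫ π) := by
    have h₁ : IsPullback (p.fiberι z) (p.fiberToSpecResidueField z) p (Q.fromSpecResidueField z) :=
      IsPullback.of_hasPullback _ _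
    exact h₁.paste_horiz (IsPullback.of_hasPullback π π).flip
  haveI := universallyOpen_to_field (Q.fromSpecResidueField z ≫ π)
  haveI : UniversallyOpen q := MorphismProperty.of_isPullback sq.flip ‹_›
  have ho : IsOpen (q '' (p.fiberι z ⁻¹' (O : Set _))) :=
    q.isOpenMap _ (O.2.preimage (p.fiberι z).continuous)
  refine ⟨⟨_, ho⟩, ⟨p.asFiber m, ?_, ?_⟩, ?_⟩
  · change p.fiberι z (p.asFiber m) ∈ O
    exact (Scheme.Hom.fiberι_asFiber p m).symm ▸ hm
  · exact (Scheme.Hom.comp_apply _ _ _).trans (congrArg _ (Scheme.Hom.fiberι_asFiber p m))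
  · rintro _ ⟨x, hx, rfl⟩
    refine ⟨p.fiberι z x, hx, ?_, (Scheme.Hom.comp_apply _ _ _).symm⟩
    exact (p.range_fiberι z).le ⟨x, rfl⟩

/-- Locally separated algebraic spaces have compact fibres. -/
theorem hasCompactFibres_of_isLocallySeparatedSp {X : Sp S} (hX : IsLocallySeparatedSp X) :
    HasCompactFibres X := by
  intro U a hU _ K _ str g V fst snd sq
  haveI := hU
  haveI := quasiCompact_from_field str
  haveI : CompactSpace ↥(pullback str U.hom) := inferInstance
  let Q : Over S := Over.mk (pullback.snd str U.hom ≫ U.hom)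
  haveI : CompactSpace ↥Q.left := ‹CompactSpace ↥(pullback str U.hom)›
  let π₁ : Q ⟶ Over.mk str := Over.homMk (pullback.fst str U.hom) pullback.condition
  let π₂ : Q ⟶ U := Over.homMk (pullback.snd str U.hom) rfl
  let b₁ := (yon S).map π₁ ≫ g
  let b₂ := (yon S).map π₂ ≫ a
  obtain ⟨L, lf, l, sqL⟩ := exists_sq hX.1 (prod.lift b₁ b₂)
  haveI : IsImmersion l.left := hX.2 _ _ _ sqL
  -- `V` is `L`
  have wl : (yon S).map l ≫ b₁ = (yon S).map l ≫ b₂ := by
    have h₁ : (yon S).map l ≫ b₁ = lf := by simpa using (congrArg (· ≫ prod.fst) sqL.w).symm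
    have h₂ : (yon S).map l ≫ b₂ = lf := by simpa using (congrArg (· ≫ prod.snd) sqL.w).symm
    rw [h₁, h₂]
  let e : L ⟶ V := pre (sq.lift ((yon S).map (l ≫ π₂)) ((yon S).map (l ≫ π₁)) (by
    rw [Functor.map_comp_assoc, Functor.map_comp_assoc]; exact wl.symm))
  have hsurj : Surjective e.left := ⟨fun v => by
    let l' : V ⟶ Q := Over.homMk (pullback.lift snd.left (pre fst).left
      ((Over.w snd).trans (Over.w (pre fst)).symm)) (by
        change pullback.lift _ _ _ ≫ pullback.snd str U.hom ≫ U.hom = V.hom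
        rw [pullback.lift_snd_assoc]
        exact Over.w (pre fst))
    have hl₁ : (yon S).map (l' ≫ π₁) = (yon S).map snd := congrArg _ (by ext : 1; exact pullback.lift_fst _ _ _)
    have hl₂ : (yon S).map (l' ≫ π₂) = fst := by
      rw [show l' ≫ π₂ = pre fst by ext : 1; exact pullback.lift_snd _ _ _, map_pre]
    have e₁ : (yon S).map l' ≫ b₁ = fst ≫ a := by
      rw [← Functor.map_comp_assoc, hl₁, sq.w]
    have e₂ : (yon S).map l' ≫ b₂ = fst ≫ a := by rw [← Functor.map_comp_assoc, hl₂]
    let c := sqL.lift (fst ≫ a) ((yon S).map l') (by ext <;> simp [e₁, e₂])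
    have hc : pre c ≫ l = l' := (yon S).map_injective (by simp [c])
    have hce : (yon S).map (pre c ≫ e) = 𝟙 _ := by
      apply sq.hom_ext
      · rw [Functor.map_comp, map_pre, map_pre, Category.assoc, sq.lift_fst, Category.id_comp, ← map_pre c,
          ← Functor.map_comp, ← Category.assoc (pre c), hc, hl₂]
      · rw [Functor.map_comp, map_pre, map_pre, Category.assoc, sq.lift_snd, Category.id_comp, ← map_pre c,
          ← Functor.map_comp, ← Category.assoc (pre c), hc, hl₁]
    have := (yon S).map_injective (hce.trans ((yon S).map_id V).symm)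
    exact ⟨(pre c).left v, congrArg (fun k : V ⟶ V => k.left v) this⟩⟩
  suffices hcl : IsClosed (Set.range l.left) by
    haveI : CompactSpace ↥L.left := ⟨l.left.isEmbedding.isCompact_iff.2 (by
      rw [Set.image_univ]; exact hcl.isCompact)⟩
    exact ⟨by rw [← e.left.surjective.range_eq]; exact isCompact_range e.left.continuous⟩
  -- the pairs of points of the fibre
  let P : Over S := Over.mk (pullback.fst π₁.left π₁.left ≫ Q.hom)
  let p₁ : P ⟶ Q := Over.homMk (pullback.fst π₁.left π₁.left) rfl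
  let p₂ : P ⟶ Q := Over.homMk (pullback.snd π₁.left π₁.left) (by
    change _ ≫ Q.hom = _ ≫ Q.hom
    rw [← Over.w π₁, pullback.condition_assoc])
  obtain ⟨R, rf, r, sqR⟩ := exists_sq hX.1 (prod.lift ((yon S).map p₁ ≫ b₂) ((yon S).map p₂ ≫ b₂))
  haveI : IsImmersion r.left := hX.2 _ _ _ sqR
  have hQ := mem_range_diag_pullback_iff hX.1 sqL
  have hP := mem_range_diag_pullback_iff hX.1 sqR
  -- base change of the residue fields
  have hbc : ∀ (p : P ⟶ Q) (m : ↥P.left),
      ∃ c : Over.mk (P.left.fromSpecResidueField m ≫ P.hom) ⟶ Over.mk (Q.left.fromSpecResidueField (p.left m) ≫ Q.hom),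
        Flat c.left ∧ Surjective c.left ∧
        c ≫ (Over.homMk (Q.left.fromSpecResidueField (p.left m)) rfl :
            Over.mk (Q.left.fromSpecResidueField (p.left m) ≫ Q.hom) ⟶ Q) =
          (Over.homMk (P.left.fromSpecResidueField m) rfl : Over.mk (P.left.fromSpecResidueField m ≫ P.hom) ⟶ P) ≫ p := by
    intro p m
    refine ⟨Over.homMk (Spec.map (p.left.residueFieldMap m)) (by
      change Spec.map _ ≫ Q.left.fromSpecResidueField _ ≫ Q.hom = P.left.fromSpecResidueField m ≫ P.hom
      rw [Scheme.Hom.SpecMap_residueFieldMap_fromSpecResidueField_assoc, Over.w]), ?_,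
      ⟨fun y => ⟨IsLocalRing.closedPoint _,
        @Subsingleton.elim (PrimeSpectrum ↑(Q.left.residueField (p.left m))) _ _ _⟩⟩, ?_⟩
    · change Flat (Spec.map _)
      rw [Flat.SpecMap_iff]
      letI := (p.left.residueFieldMap m).hom.toAlgebra
      exact RingHom.flat_algebraMap_iff.2 inferInstance
    · ext : 1
      exact Scheme.Hom.SpecMap_residueFieldMap_fromSpecResidueField _ _
  have hπ : p₁ ≫ π₁ = p₂ ≫ π₁ := by ext : 1; exact pullback.condition
  refine isClosed_of_closure_subset fun z hz => ?_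
  -- the diagonal lies over the diagonal
  let d : Q ⟶ P := Over.homMk (pullback.lift (𝟙 Q.left) (𝟙 Q.left) rfl) (by
    change pullback.lift _ _ _ ≫ pullback.fst _ _ ≫ Q.hom = Q.hom
    rw [pullback.lift_fst_assoc, Category.id_comp])
  have hd₁ : d ≫ p₁ = 𝟙 Q := by ext : 1; exact pullback.lift_fst _ _ _
  have hd₂ : d ≫ p₂ = 𝟙 Q := by ext : 1; exact pullback.lift_snd _ _ _
  have hdz : d.left z ∈ Set.range r.left := by
    let c := sqR.lift b₂ ((yon S).map d) (by
      ext
      · simp only [Category.assoc, prod.lift_fst, Category.comp_id]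
        rw [← Functor.map_comp_assoc, hd₁, CategoryTheory.Functor.map_id, Category.id_comp]
      · simp only [Category.assoc, prod.lift_snd, Category.comp_id]
        rw [← Functor.map_comp_assoc, hd₂, CategoryTheory.Functor.map_id, Category.id_comp])
    have hc : pre c ≫ r = d := (yon S).map_injective (by simp [c])
    exact ⟨(pre c).left z, congrArg (fun k : Q ⟶ P => k.left z) hc⟩
  -- an open set in which the image of `r` is closed
  let O : (pullback π₁.left π₁.left).Opens :=
    ⟨coborder (Set.range r.left), r.left.isLocallyClosed_range.isOpen_coborder⟩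
  have hdO : d.left z ∈ O := subset_coborder hdz
  obtain ⟨B, hB, hBO⟩ := exists_open_image_of_fibre π₁.left O _ hdO
  have hz₂ : p₂.left (d.left z) = z := congrArg (fun k : Q ⟶ Q => k.left z) hd₂
  have hz₁ : p₁.left (d.left z) = z := congrArg (fun k : Q ⟶ Q => k.left z) hd₁
  obtain ⟨v, hvB, hv⟩ := mem_closure_iff.1 hz B B.2 (hz₂ ▸ hB)
  obtain ⟨n, hnO, hn₁, hn₂⟩ := hBO v hvB
  -- `n` is a limit of pairs of points of `V`
  have hn : n ∈ closure (Set.range r.left) := by
    refine mem_closure_iff.2 fun O' hO' hnO' => ?_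
    obtain ⟨n', hn'⟩ : ∃ n', (pullbackSymmetry π₁.left π₁.left).hom n' = n :=
      (pullbackSymmetry π₁.left π₁.left).hom.surjective n
    obtain ⟨B', hB', hBO'⟩ := exists_open_image_of_fibre π₁.left
      ((pullbackSymmetry π₁.left π₁.left).hom ⁻¹ᵁ ⟨O', hO'⟩) n' (show _ ∈ O' from hn'.symm ▸ hnO')
    have e₁ : pullback.snd π₁.left π₁.left n' = z := by
      refine Eq.trans ?_ (hn₁.trans hz₁)
      rw [← hn', ← Scheme.Hom.comp_apply, pullbackSymmetry_hom_comp_fst]
    have e₂ : pullback.fst π₁.left π₁.left n' = v := by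
      rw [← hn₂, ← hn', ← Scheme.Hom.comp_apply, pullbackSymmetry_hom_comp_snd]
    obtain ⟨v', hv'B, hv'⟩ := mem_closure_iff.1 hz B' B'.2 (e₁ ▸ hB')
    obtain ⟨k, hkO, hk₁, hk₂⟩ := hBO' v' hv'B
    refine ⟨(pullbackSymmetry π₁.left π₁.left).hom k, hkO, (hP _).2 ?_⟩
    set k' : ↥P.left := (pullbackSymmetry π₁.left π₁.left).hom k
    have h₁ : p₁.left k' = v' := by
      change pullback.fst π₁.left π₁.left k' = _
      rw [← hk₂, ← Scheme.Hom.comp_apply, pullbackSymmetry_hom_comp_fst]
    have h₂ : p₂.left k' = v := by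
      change pullback.snd π₁.left π₁.left k' = _
      rw [← e₂, ← hk₁, ← Scheme.Hom.comp_apply, pullbackSymmetry_hom_comp_snd]
    obtain ⟨c₁, -, -, hc₁⟩ := hbc p₁ k'
    obtain ⟨c₂, -, -, hc₂⟩ := hbc p₂ k'
    have k₁ := congrArg ((yon S).map c₁ ≫ ·) ((hQ (p₁.left k')).1 (h₁.symm ▸ hv'))
    have k₂ := congrArg ((yon S).map c₂ ≫ ·) ((hQ (p₂.left k')).1 (h₂.symm ▸ hv))
    simp only [← Functor.map_comp_assoc] at k₁ k₂
    rw [hc₁] at k₁
    rw [hc₂] at k₂
    simp only [b₁, ← Functor.map_comp_assoc, Category.assoc] at k₁ k₂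
    rw [hπ] at k₁
    simp only [b₂, ← Functor.map_comp_assoc, Category.assoc] at k₁ k₂ ⊢
    exact k₁.symm.trans k₂
  have hnr : n ∈ Set.range r.left := (closure_inter_coborder (s := Set.range r.left)).le ⟨hn, hnO⟩
  -- hence `z` is in the range
  obtain ⟨c₁, hf₁, hs₁, hc₁⟩ := hbc p₁ n
  obtain ⟨c₂, -, -, hc₂⟩ := hbc p₂ n
  have kR := (hP n).1 hnr
  have k₂ := congrArg ((yon S).map c₂ ≫ ·) ((hQ (p₂.left n)).1 ((show p₂.left n = v from hn₂).symm ▸ hv))
  simp only [← Functor.map_comp_assoc] at k₂ kR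
  rw [hc₂] at k₂
  have hzn : p₁.left n = z := hn₁.trans hz₁
  rw [← hzn, hQ (p₁.left n)]
  refine hom_ext_of_field_extension hX.1 c₁ ⟨IsLocalRing.closedPoint (P.left.residueField n)⟩ ?_
  simp only [← Functor.map_comp_assoc]
  rw [hc₁]
  simp only [b₁, ← Functor.map_comp_assoc, Category.assoc] at k₂ ⊢
  rw [hπ, k₂]
  exact kR.symm

end Groth.Agent.AlgSpc
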