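import Groth.Agent.AlgSpc.PushStalk

/-!
# The essential image of the direct image along an integral universally injective morphism
-/

set_option autoImplicit false
set_option linter.style.haveILetI false
set_option backward.isDefEq.respectTransparency false
set_option backward.isDefEq.respectTransparency.types false
universe u v w

open CategoryTheory CategoryTheory.Limits AlgebraicGeometry Opposite

namespace Groth.Agent.AlgSpc

open _root_.AlgSp

variable {S : Scheme.{u}} {Y X : Sp S} {f : Y ⟶ X}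

theorem range_map_yon {F : Sp S} {T : Over S} (a : (yon S).obj T ⟶ F) :
    Set.range (Points.map a) = Set.range (Points.ofPt a) := by
  refine Set.Subset.antisymm ?_ ?_
  · rintro _ ⟨x, rfl⟩
    exact ⟨Points.toScheme T x, by rw [Points.ofPt_eq_map_ofScheme, Points.ofScheme_toScheme]⟩
  · rintro _ ⟨t, rfl⟩
    exact ⟨_, (Points.ofPt_eq_map_ofScheme a t).symm⟩

section Family

variable (hX : IsAlgSpace X) (P : FieldPt X → Prop)

/-- Geometric points satisfying a condition, as points of the site. -/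
def etPointsOf : ObjectProperty (GrothendieckTopology.Point.{u + 1} (etTop X)) :=
  ObjectProperty.ofObj fun q : {p : FieldPt X // p.IsGeometric ∧ P p} => etPoint hX q.1 q.2.1

theorem etPointsOf_conservative (hP : ∀ (E : EtOver X) (u : ↥E.obj.left.left),
    ∃ p : FieldPt X, (p.IsGeometric ∧ P p) ∧ ∃ x : p.liftsTo.obj E, x.1.left (IsLocalRing.closedPoint p.K) = u) :
    (etPointsOf hX P).IsConservativeFamilyOfPoints := by
  refine ObjectProperty.IsConservativeFamilyOfPoints.mk' fun E R hR => ?_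
  have key : ∀ u : ↥E.obj.left.left, ∃ (V : EtOver X) (g : V ⟶ E) (_ : R g), u ∈ Set.range g.hom.left.left := by
    intro u
    obtain ⟨p, hp, x, hx⟩ := hP E u
    obtain ⟨V, g, hg, y, hy⟩ :=
      hR ⟨etPoint hX p hp.1, ⟨(⟨p, hp⟩ : {p : FieldPt X // p.IsGeometric ∧ P p})⟩⟩ (ULift.up x)
    refine ⟨V, g, hg, y.down.1.left (IsLocalRing.closedPoint p.K), ?_⟩
    rw [← hx]
    exact congrArg (fun z : ULift (p.liftsTo.obj E) => z.down.1.left (IsLocalRing.closedPoint p.K)) hy
  choose V g hg hu using key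
  refine (etTop X).superset_covering ?_ (ofArrows_mem_etTop V g fun u => ⟨u, hu u⟩)
  rw [Sieve.generate_le_iff, Presieve.ofArrows_le_iff]
  exact hg

end Family

variable (hf : Representable f) (hY : IsAlgSpace Y) (hX : IsAlgSpace X)

/-- The fibre functor of the image of a point. -/
noncomputable def fibreIso (z : FieldPt Y) (hz : z.IsGeometric) :
    (etPoint hX (z.map f) hz).fiber ≅ EtOver.bc hf ⋙ (etPoint hY z hz).fiber :=
  NatIso.ofComponents (fun E => Equiv.toIso
    { toFun := fun t => ULift.up (bcLift hf z t.down)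
      invFun := fun y => ULift.up (unBc hf z y.down)
      left_inv := fun t => congrArg ULift.up (Subtype.ext (bcLift_snd hf z t.down))
      right_inv := fun y => congrArg ULift.up (bcLift_unBc hf z y.down) })
    fun g => by
      ext t
      exact congrArg ULift.up (map_bcLift hf z g t.down).symm

/-- Direct images of skyscrapers. -/
noncomputable def skyPushIso (z : FieldPt Y) (hz : z.IsGeometric) (A : Type v) [Category.{w} A]
    [HasProducts.{u + 1} A] :
    (etPoint hY z hz).skyscraperSheafFunctor ⋙ pushEt hf A ≅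
      (etPoint hX (z.map f) hz).skyscraperSheafFunctor (A := A) :=
  NatIso.ofComponents
    (fun M => (fullyFaithfulSheafToPresheaf _ _).preimageIso
      (((flipFunctor _ _ _).mapIso
        (Functor.isoWhiskerRight (NatIso.op (fibreIso hf hY hX z hz)) piFunctor.{u + 1}.flip)).app M))
    fun g => (sheafToPresheaf _ _).map_injective
      (((flipFunctor _ _ _).mapIso
        (Functor.isoWhiskerRight (NatIso.op (fibreIso hf hY hX z hz)) piFunctor.{u + 1}.flip)).hom.naturality g)

/-- The stalks of an inverse image. -/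
noncomputable def pullFibreIso (z : FieldPt Y) (hz : z.IsGeometric) (A : Type v) [Category.{w} A]
    [HasProducts.{u + 1} A] [HasColimitsOfSize.{u + 1, u + 1} A]
    [((EtOver.bc hf).sheafPushforwardContinuous A (etTop X) (etTop Y)).IsRightAdjoint] :
    (etPoint hX (z.map f) hz).sheafFiber (A := A) ≅ pullEt hf A ⋙ (etPoint hY z hz).sheafFiber :=
  (conjugateIsoEquiv ((pullPushAdjEt hf A).comp (etPoint hY z hz).skyscraperSheafAdjunction)
    (etPoint hX (z.map f) hz).skyscraperSheafAdjunction).symm (skyPushIso hf hY hX z hz A)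

variable (hint : ∀ E : EtOver X, IsIntegralHom (hf.snd E.obj.hom).left)

/-- The condition that sections over etale schemes missing the image are trivial. -/
def TrivOff (f : Y ⟶ X) (G : EtSh X (Type (u + 1))) : Prop :=
  ∀ E : EtOver X, Disjoint (Set.range (Points.map E.obj.hom)) (Set.range (Points.map f)) →
    Nonempty (Unique (G.obj.obj (op E)))

theorem isEmpty_bc (E : EtOver X) (h : Disjoint (Set.range (Points.map E.obj.hom)) (Set.range (Points.map f))) :
    IsEmpty ↥((EtOver.bc hf).obj E).obj.left.left := by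
  refine ⟨fun w => Set.disjoint_left.1 h ?_ ⟨Points.ofPt (hf.fst E.obj.hom) w, rfl⟩⟩
  rw [range_map_yon]
  refine ⟨(hf.snd E.obj.hom).left w, ?_⟩
  rw [Points.map_ofPt, hf.w, ofPt_comp]

theorem unique_of_isEmpty {Z : Sp S} (F : EtSh Z (Type (u + 1))) (E : EtOver Z) [IsEmpty ↥E.obj.left.left] :
    Nonempty (Unique (F.obj.obj (op E))) := by
  have hc := ofArrows_mem_etTop (X := Z) (fun i : PEmpty.{u + 2} => (i.elim : EtOver Z))
    (fun i => (i.elim : (i.elim : EtOver Z) ⟶ E)) fun x => (IsEmpty.false x).elim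
  have hs := (Presieve.isSheafFor_arrows_iff _ _).1 ((Presieve.isSheafFor_iff_generate _).2
    (((isSheaf_iff_isSheaf_of_type (etTop Z) _).1 F.2) _ hc))
  obtain ⟨t, -, huniq⟩ := hs (fun i => i.elim) (fun i => i.elim)
  exact ⟨⟨⟨t⟩, fun s => huniq s fun i => i.elim⟩⟩

include hf in
theorem trivOff_push (F : EtSh Y (Type (u + 1))) : TrivOff f ((pushEt hf _).obj F) := fun E h =>
  haveI := isEmpty_bc hf E h
  unique_of_isEmpty F ((EtOver.bc hf).obj E)

include hint hX in
theorem exists_disjoint_nhd (p : FieldPt X) (hp : p.IsGeometric) (hout : Points.mk p ∉ Set.range (Points.map f))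
    (N : EtNbhd p) : ∃ (M : EtNbhd p) (_ : M ⟶ N),
      Disjoint (Set.range (Points.map M.1.obj.hom)) (Set.range (Points.map f)) := by
  obtain ⟨E, e⟩ := N
  haveI : IsIntegralHom (hf.snd E.obj.hom).left := hint E
  let O : E.obj.left.left.Opens :=
    ⟨(Set.range (hf.snd E.obj.hom).left)ᶜ, (hf.snd E.obj.hom).left.isClosedMap.isClosed_range.isOpen_compl⟩
  have he : e.1.left (IsLocalRing.closedPoint p.K) ∈ O := by
    rintro ⟨w, hw⟩
    refine hout ⟨Points.ofPt (hf.fst E.obj.hom) w, ?_⟩
    rw [Points.map_ofPt, hf.w, ofPt_comp, hw, ofPt_lift]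
  let ι : Over.mk (O.ι ≫ E.obj.left.hom) ⟶ E.obj.left := Over.homMk O.ι rfl
  let E' : EtOver X := EtOver.mk ((yon S).map ι ≫ E.obj.hom)
    (repWith_comp ((repWith_yon_map_iff (P := @Etale) _).2 (inferInstanceAs (Etale O.ι))) E.property)
  let j : E' ⟶ E := EtOver.homMk ι rfl
  obtain ⟨e', he'⟩ := exists_lift_etOver p hp j e ⟨_, he⟩ rfl
  refine ⟨⟨E', e'⟩, CategoryOfElements.homMk _ _ j he', Set.disjoint_left.2 ?_⟩
  rw [range_map_yon]
  rintro _ ⟨v, rfl⟩ ⟨y, hy⟩
  obtain ⟨q, hq, rfl⟩ := OEtStalk.exists_geometric y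
  obtain ⟨t, ht, htv⟩ := OEtStalk.exists_lift (q.map f) hq E'.property (u := v) hy.symm
  refine v.2 ⟨(bcLift hf q (E := E) ((q.map f).liftsTo.map j ⟨t, ht⟩)).1.left (IsLocalRing.closedPoint q.K), ?_⟩
  exact ((congrArg (fun k => k.left (IsLocalRing.closedPoint q.K))
    (bcLift_snd hf q (E := E) ((q.map f).liftsTo.map j ⟨t, ht⟩))).trans (congrArg O.ι htv) :)

include hint hX in
theorem unique_stalk (p : FieldPt X) (hp : p.IsGeometric) (hout : Points.mk p ∉ Set.range (Points.map f))
    (G : EtSh X (Type (u + 1))) (hG : TrivOff f G) : Nonempty (Unique (stalkEt p G)) := by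
  haveI := isCofiltered_etNbhd hX p hp
  obtain ⟨N0⟩ := IsCofiltered.nonempty (C := EtNbhd p)
  obtain ⟨M0, -, hM0⟩ := exists_disjoint_nhd hf hX hint p hp hout N0
  obtain ⟨U0⟩ := hG M0.1 hM0
  refine ⟨⟨⟨stalkEtι p G M0 default⟩, fun z => ?_⟩⟩
  obtain ⟨N, s, rfl⟩ := exists_rep_stalkEt p G z
  obtain ⟨L, a, b, -⟩ := IsCofilteredOrEmpty.cone_objs N M0
  obtain ⟨M, g, hM⟩ := exists_disjoint_nhd hf hX hint p hp hout L
  obtain ⟨U⟩ := hG M.1 hM
  show stalkEtι p G N s = stalkEtι p G M0 default
  rw [← stalkEtι_map p G (g ≫ a) s, ← stalkEtι_map p G (g ≫ b) default]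
  exact congrArg _ (Subsingleton.elim _ _)

variable (hinj : ∀ E : EtOver X, Function.Injective fun z => (hf.snd E.obj.hom).left z)

/-- Good geometric points: images of geometric points, and points outside the image. -/
def GoodPt (f : Y ⟶ X) (p : FieldPt X) : Prop :=
  (∃ q : FieldPt Y, q.IsGeometric ∧ q.map f = p) ∨ Points.mk p ∉ Set.range (Points.map f)

include hX in
theorem exists_goodPt (E : EtOver X) (u : ↥E.obj.left.left) :
    ∃ p : FieldPt X, (p.IsGeometric ∧ GoodPt f p) ∧
      ∃ x : p.liftsTo.obj E, x.1.left (IsLocalRing.closedPoint p.K) = u := by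
  by_cases h : Points.ofPt E.obj.hom u ∈ Set.range (Points.map f)
  · obtain ⟨y, hy⟩ := h
    obtain ⟨q, hq, rfl⟩ := OEtStalk.exists_geometric y
    obtain ⟨t, ht, htu⟩ := OEtStalk.exists_lift (q.map f) hq E.property (u := u) hy.symm
    exact ⟨q.map f, ⟨hq, .inl ⟨q, hq, rfl⟩⟩, ⟨t, ht⟩, htu⟩
  · obtain ⟨p, hp, x, hx⟩ := exists_geometric_lift E u
    exact ⟨p, ⟨hp, .inr (by rwa [← ofPt_lift x, hx])⟩, x, hx⟩

section Main

include hY hX hint hinj

theorem essImage_iff (G : EtSh X (Type (u + 1))) : (pushEt hf _).essImage G ↔ TrivOff f G := by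
  refine ⟨fun ⟨F, ⟨e⟩⟩ E h => ?_, fun hG => ?_⟩
  · obtain ⟨U⟩ := trivOff_push hf F E h
    exact ⟨@Equiv.unique _ _ U (((sheafToPresheaf _ _).mapIso e).app (op E)).symm.toEquiv⟩
  obtain ⟨-, -, hc⟩ := pushEt_fullyFaithful hf hY hX hint hinj
  let adj := pullPushAdjEt hf (Type (u + 1))
  refine ⟨(pullEt hf _).obj G, ⟨(@asIso _ _ _ _ (adj.unit.app G) ?_).symm⟩⟩
  refine (((etPointsOf_conservative hX (GoodPt f) (exists_goodPt hX)).jointlyReflectIsomorphisms_type).isIso_iff _).2 ?_
  rintro ⟨_, ⟨⟨p, hp, hgood⟩⟩⟩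
  rcases hgood with ⟨q, hq, rfl⟩ | hout
  · refine (NatIso.isIso_map_iff (pullFibreIso hf hY hX q hq (Type (u + 1))) _).2 ?_
    show IsIso ((etPoint hY q hq).sheafFiber.map ((pullEt hf _).map (adj.unit.app G)))
    haveI : IsIso ((pullEt hf _).map (adj.unit.app G)) := by
      haveI : IsIso adj.counit := hc
      haveI : IsIso (adj.counit.app ((pullEt hf _).obj G)) := inferInstance
      haveI : IsIso ((pullEt hf _).map (adj.unit.app G) ≫ adj.counit.app ((pullEt hf _).obj G)) := by
        rw [show (pullEt hf _).map (adj.unit.app G) ≫ adj.counit.app ((pullEt hf _).obj G) = 𝟙 _ from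
          adj.left_triangle_components G]
        exact IsIso.id _
      exact IsIso.of_isIso_comp_right _ (adj.counit.app ((pullEt hf _).obj G))
    infer_instance
  · refine (NatIso.isIso_map_iff (stalkIso hX p hp (Type (u + 1))) _).1 ?_
    rw [isIso_iff_bijective]
    obtain ⟨U1⟩ := unique_stalk hf hX hint p hp hout G hG
    obtain ⟨U2⟩ := unique_stalk hf hX hint p hp hout _ (trivOff_push hf ((pullEt hf _).obj G))
    exact ⟨fun a b _ => @Subsingleton.elim _ (@Unique.instSubsingleton _ U1) a b,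
      fun b => ⟨U1.default, @Subsingleton.elim _ (@Unique.instSubsingleton _ U2) _ b⟩⟩

theorem essImage_ab_iff (G : AbEt X) :
    (pushEt hf AddCommGrpCat.{u + 1}).essImage G ↔
      ∀ E : EtOver X, Disjoint (Set.range (Points.map E.obj.hom)) (Set.range (Points.map f)) →
        Subsingleton ↥(G.obj.obj (op E)) := by
  refine ⟨fun ⟨F, ⟨e⟩⟩ E h => ?_, fun hG => ?_⟩
  · obtain ⟨U⟩ := trivOff_push hf ((sheafCompose (etTop Y) (forget AddCommGrpCat.{u + 1})).obj F) E h
    haveI : Subsingleton ↥(((pushEt hf AddCommGrpCat.{u + 1}).obj F).obj.obj (op E)) := @Unique.instSubsingleton _ U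
    exact @Equiv.subsingleton _ _ (((sheafToPresheaf _ _).mapIso e).app (op E)).addCommGroupIsoToAddEquiv.symm.toEquiv ‹_›
  have hG' : TrivOff f ((sheafCompose (etTop X) (forget AddCommGrpCat.{u + 1})).obj G) := fun E h =>
    ⟨⟨⟨(0 : ↥(G.obj.obj (op E)))⟩, fun s => @Subsingleton.elim _ (hG E h) s _⟩⟩
  obtain ⟨-, ⟨hfull, hfaith⟩, -⟩ := pushEt_fullyFaithful hf hY hX hint hinj
  let adj := pullPushAdjEt hf AddCommGrpCat.{u + 1}
  refine ⟨(pullEt hf _).obj G, ⟨(@asIso _ _ _ _ (adj.unit.app G) ?_).symm⟩⟩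
  refine (((etPointsOf_conservative hX (GoodPt f) (exists_goodPt hX)).jointlyReflectIsomorphisms
    AddCommGrpCat.{u + 1}).isIso_iff _).2 ?_
  rintro ⟨_, ⟨⟨p, hp, hgood⟩⟩⟩
  rcases hgood with ⟨q, hq, rfl⟩ | hout
  · refine (NatIso.isIso_map_iff (pullFibreIso hf hY hX q hq AddCommGrpCat.{u + 1}) _).2 ?_
    show IsIso ((etPoint hY q hq).sheafFiber.map ((pullEt hf _).map (adj.unit.app G)))
    haveI : IsIso ((pullEt hf _).map (adj.unit.app G)) := by
      haveI : IsIso adj.counit := Adjunction.counit_isIso_of_R_fully_faithful adj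
      haveI : IsIso (adj.counit.app ((pullEt hf _).obj G)) := inferInstance
      haveI : IsIso ((pullEt hf _).map (adj.unit.app G) ≫ adj.counit.app ((pullEt hf _).obj G)) := by
        rw [show (pullEt hf _).map (adj.unit.app G) ≫ adj.counit.app ((pullEt hf _).obj G) = 𝟙 _ from
          adj.left_triangle_components G]
        exact IsIso.id _
      exact IsIso.of_isIso_comp_right _ (adj.counit.app ((pullEt hf _).obj G))
    infer_instance
  · refine (NatIso.isIso_map_iff (stalkIso hX p hp AddCommGrpCat.{u + 1}) _).1 ?_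
    have key : ∀ K : AbEt X, TrivOff f ((sheafCompose (etTop X) (forget AddCommGrpCat.{u + 1})).obj K) →
        Subsingleton ↥(stalkEt p K) := fun K hK => by
      haveI := isCofiltered_etNbhd hX p hp
      refine subsingleton_of_forall_eq 0 fun z => ?_
      obtain ⟨N, s, rfl⟩ := exists_rep_stalkEt p K z
      obtain ⟨M, g, hM⟩ := exists_disjoint_nhd hf hX hint p hp hout N
      obtain ⟨U⟩ := hK M.1 hM
      rw [← stalkEtι_map p K g s]
      exact (congrArg _ (@Subsingleton.elim _ (@Unique.instSubsingleton _ U) _ (0 : ↥(K.obj.obj (op M.1))))).trans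
        (map_zero _)
    haveI h1 := key G hG'
    haveI h2 := key ((pushEt hf _).obj ((pullEt hf _).obj G))
      (trivOff_push hf ((sheafCompose (etTop Y) (forget AddCommGrpCat.{u + 1})).obj ((pullEt hf _).obj G)))
    rw [ConcreteCategory.isIso_iff_bijective]
    exact ⟨fun a b _ => Subsingleton.elim (α := ↥(stalkEt p G)) a b,
      fun b => ⟨(0 : ↥(stalkEt p G)), Subsingleton.elim (α := ↥(stalkEt p ((pushEt hf _).obj ((pullEt hf _).obj G)))) _ b⟩⟩

end Main

end Groth.Agent.AlgSpc
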