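import Groth.Agent.AlgSpc.PushEssImage
import Groth.Agent.EtSh.IntegralSplit
import Groth.Agent.BigEt.General
import Groth.Prelude.Def_AlgSp3

/-!
# The direct image along an integral morphism of spaces is exact
-/

set_option autoImplicit false
set_option linter.style.haveILetI false
set_option backward.isDefEq.respectTransparency false
set_option backward.isDefEq.respectTransparency.types false
universe u v w

open CategoryTheory CategoryTheory.Limits AlgebraicGeometry Opposite

namespace Groth.Agent.AlgSpc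

open _root_.AlgSp

variable {S : Scheme.{u}} {X Y : Sp S}

theorem exists_lift_of_epi_sp (hX : IsAlgSpace X) {F G : AbEt X} (α : F ⟶ G) [Epi α] (U : EtOver X)
    (s : ↥(G.obj.obj (op U))) (u : ↥U.obj.left.left) :
    ∃ (W : EtOver X) (g : W ⟶ U) (r : ↥(F.obj.obj (op W))),
      u ∈ Set.range g.hom.left.left ∧ (α.hom.app (op W)).hom r = (G.obj.map g.op).hom s := by
  obtain ⟨p, hp, x, hx⟩ := exists_geometric_lift U u
  haveI := isCofiltered_etNbhd hX p hp
  haveI : PreservesColimitsOfSize.{0, 0} ((etPoint hX p hp).sheafFiber (A := AddCommGrpCat.{u + 1})) :=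
    ((etPoint hX p hp).skyscraperSheafAdjunction (A := AddCommGrpCat.{u + 1})).leftAdjoint_preservesColimits
  haveI : ((etPoint hX p hp).sheafFiber (A := AddCommGrpCat.{u + 1})).PreservesEpimorphisms :=
    preservesEpimorphisms_of_preservesColimitsOfShape _
  haveI hepi : Epi ((stalkEtFunctor AddCommGrpCat.{u + 1} p).map α) :=
    ((MorphismProperty.epimorphisms _).arrow_mk_iso_iff
      (((Functor.mapArrowFunctor _ _).mapIso (stalkIso hX p hp AddCommGrpCat.{u + 1})).app (Arrow.mk α))).2
      (inferInstanceAs (Epi ((etPoint hX p hp).sheafFiber.map α)))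
  obtain ⟨z, hz⟩ := (AddCommGrpCat.epi_iff_surjective _).1 hepi (stalkEtι p G ⟨U, x⟩ s)
  obtain ⟨N, r, rfl⟩ := exists_rep_stalkEt p F z
  have h1 : stalkEtι p F N ≫ (stalkEtFunctor AddCommGrpCat.{u + 1} p).map α =
      α.hom.app (op N.1) ≫ stalkEtι p G N :=
    colimit.ι_map (Functor.whiskerLeft (EtNbhd.toEtOver p).op α.hom) (op N)
  have h2 : stalkEtι p G N ((α.hom.app (op N.1)).hom r) = stalkEtι p G ⟨U, x⟩ s :=
    (ConcreteCategory.congr_hom h1 r).symm.trans hz
  obtain ⟨M, a, b, -⟩ := IsCofilteredOrEmpty.cone_objs N (⟨U, x⟩ : EtNbhd p)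
  rw [← stalkEtι_map p G a, ← stalkEtι_map p G b] at h2
  obtain ⟨L, c, hc⟩ := exists_of_stalkEtι_eq p G M _ _ h2
  refine ⟨L.1, (c ≫ b).val, (F.obj.map (c ≫ a).val.op).hom r,
    ⟨L.2.1.left (IsLocalRing.closedPoint p.K), ?_⟩, ?_⟩
  · rw [← hx]
    exact congrArg (fun z : p.liftsTo.obj U => z.1.left (IsLocalRing.closedPoint p.K)) (c ≫ b).property
  · refine (NatTrans.naturality_apply α.hom (c ≫ a).val.op r).trans ?_
    rw [show (c ≫ a).val = c.val ≫ a.val from rfl, show (c ≫ b).val = c.val ≫ b.val from rfl,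
      op_comp, op_comp, G.obj.map_comp, G.obj.map_comp]
    exact hc

variable {f : X ⟶ Y} (hf : Representable f)

theorem isIntegralHom_snd_of_isAffine (hi : IsIntegralMor f) (E : EtOver Y) (hE : IsAffine E.obj.left.left) :
    IsIntegralHom (hf.snd E.obj.hom).left := by
  obtain ⟨W, i, fst, sq, -, hW⟩ := hi hE E.obj.hom
  have sq' := hf.isPullback E.obj.hom
  let e := (yon S).preimage (sq'.isoIsPullback _ _ sq).hom
  haveI : IsIso ((yon S).map e) := by
    rw [Functor.map_preimage]
    infer_instance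
  haveI : IsIso e := isIso_of_fully_faithful (yon S) e
  have he : e ≫ i = hf.snd E.obj.hom := (yon S).map_injective (by
    rw [Functor.map_comp, Functor.map_preimage]
    exact IsPullback.isoIsPullback_hom_snd _ _ _ _)
  rw [← he, Over.comp_left]
  haveI : IsIso e.left := inferInstanceAs (IsIso ((Over.forget S).map e))
  infer_instance

variable (hX : IsAlgSpace X) (hY : IsAlgSpace Y)

include hX hY in
theorem preservesEpimorphisms_pushEt (hi : IsIntegralMor f) :
    (pushEt hf AddCommGrpCat.{u + 1}).PreservesEpimorphisms where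
  preserves {F G} α _ := by
    suffices Sheaf.IsLocallySurjective ((pushEt hf AddCommGrpCat.{u + 1}).map α) from
      Sheaf.epi_of_isLocallySurjective _
    refine ⟨fun {E} s => ?_⟩
    have key : ∀ v : ↥E.obj.left.left, ∃ (E' : EtOver Y) (φ : E' ⟶ E), v ∈ Set.range φ.hom.left.left ∧
        ∃ t : ↥(F.obj.obj (op ((EtOver.bc hf).obj E'))),
          (α.hom.app (op ((EtOver.bc hf).obj E'))).hom t = (G.obj.map ((EtOver.bc hf).map φ).op).hom s := by
      intro v
      obtain ⟨_, ⟨O₁, hO₁, rfl⟩, hv, -⟩ :=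
        E.obj.left.left.isBasis_affineOpens.exists_subset_of_mem_open (Set.mem_univ v) isOpen_univ
      let ι₁ : Over.mk ((Scheme.Opens.ι O₁) ≫ E.obj.left.hom) ⟶ E.obj.left := Over.homMk (Scheme.Opens.ι O₁) rfl
      let E₁ : EtOver Y := EtOver.mk ((yon S).map ι₁ ≫ E.obj.hom)
        (repWith_comp ((repWith_yon_map_iff (P := @Etale) _).2 (inferInstanceAs (Etale (Scheme.Opens.ι O₁))))
          E.property)
      let j₁ : E₁ ⟶ E := EtOver.homMk ι₁ rfl
      let B := (EtOver.bc hf).obj E₁
      let s₁ : ↥(G.obj.obj (op B)) := (G.obj.map ((EtOver.bc hf).map j₁).op).hom s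
      choose W g r hu hr using fun w => exists_lift_of_epi_sp hX α B s₁ w
      haveI : IsIntegralHom (hf.snd E₁.obj.hom).left := isIntegralHom_snd_of_isAffine hf hi E₁ hO₁
      haveI : ∀ w, Etale (g w).hom.left.left := fun w => EtOver.etale_left _
      obtain ⟨V', e, hee, ⟨v', hv'⟩, n, O, hdis, hsup, hk⟩ := Groth.Agent.EtSh.exists_split_nhd
        (hf.snd E₁.obj.hom).left (fun w => (g w).hom.left.left) (⟨v, hv⟩ : O₁) fun w _ => ⟨w, hu w⟩
      let m : Over.mk (e ≫ E₁.obj.left.hom) ⟶ E₁.obj.left := Over.homMk e rfl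
      let E₂ : EtOver Y := EtOver.mk ((yon S).map m ≫ E₁.obj.hom)
        (repWith_comp ((repWith_yon_map_iff (P := @Etale) _).2 hee) E₁.property)
      let j₂ : E₂ ⟶ E₁ := EtOver.homMk m rfl
      let P := (EtOver.bc hf).obj E₂
      have sq := EtOver.isPullback_bcMap_left hf j₂
      let Q : Fin n → P.obj.left.left.Opens := fun a => sq.isoPullback.hom ⁻¹ᵁ O a
      have hQ : ∀ y : ↥P.obj.left.left, ∃ a, y ∈ Q a := fun y => by
        obtain ⟨a, ha⟩ := TopologicalSpace.Opens.mem_iSup.1
          (hsup.ge (Set.mem_univ (sq.isoPullback.hom y) : sq.isoPullback.hom y ∈ (⊤ : (pullback _ e).Opens)))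
        exact ⟨a, ha⟩
      let q : ∀ a, Over.mk ((Q a).ι ≫ P.obj.left.hom) ⟶ P.obj.left := fun a => Over.homMk (Q a).ι rfl
      let Pa : Fin n → EtOver X := fun a => EtOver.mk ((yon S).map (q a) ≫ P.obj.hom)
        (repWith_comp ((repWith_yon_map_iff (P := @Etale) _).2 (inferInstanceAs (Etale (Q a).ι))) P.property)
      let pa : ∀ a, Pa a ⟶ P := fun a => EtOver.homMk (q a) rfl
      have hlift : ∀ a, ∃ (w : ↥B.obj.left.left) (c : Pa a ⟶ W w), c ≫ g w = pa a ≫ (EtOver.bc hf).map j₂ := by
        intro a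
        obtain ⟨w, k, hk⟩ := hk a
        let c₀ : (Q a).toScheme ⟶ (W w).obj.left.left := (sq.isoPullback.hom ∣_ O a) ≫ k
        have hc₀ : c₀ ≫ (g w).hom.left.left = (Q a).ι ≫ (EtOver.bcMap hf j₂).hom.left.left := by
          rw [Category.assoc, hk, morphismRestrict_ι_assoc]
          exact congrArg ((Q a).ι ≫ ·) sq.isoPullback_hom_fst
        let c₁ : (Pa a).obj.left ⟶ (W w).obj.left := Over.homMk c₀ (by
          show c₀ ≫ (W w).obj.left.hom = (Q a).ι ≫ P.obj.left.hom
          rw [← Over.w (g w).hom.left, ← Category.assoc, hc₀, Category.assoc]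
          exact congrArg ((Q a).ι ≫ ·) (Over.w (EtOver.bcMap hf j₂).hom.left))
        have hc₁ : c₁ ≫ (g w).hom.left = q a ≫ (EtOver.bcMap hf j₂).hom.left := Over.OverMorphism.ext hc₀
        refine ⟨w, EtOver.homMk c₁ ?_, EtOver.hom_ext _ _ hc₁⟩
        rw [← EtOver.w (g w), ← Category.assoc, ← Functor.map_comp, hc₁, Functor.map_comp, Category.assoc]
        exact congrArg ((yon S).map (q a) ≫ ·) (EtOver.w (EtOver.bcMap hf j₂))
      choose w c hc using hlift
      have hcov := ofArrows_mem_etTop (X := X) Pa pa fun y => by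
        obtain ⟨a, ha⟩ := hQ y
        exact ⟨a, ⟨y, ha⟩, rfl⟩
      have hs := (Presieve.isSheafFor_arrows_iff _ _).1 ((Presieve.isSheafFor_iff_generate _).2
        (((isSheaf_iff_isSheaf_of_type (etTop X) _).1
          ((sheafCompose (etTop X) (forget AddCommGrpCat.{u + 1})).obj F).2) _ hcov))
      obtain ⟨t, ht, -⟩ := hs (fun a => (F.obj.map (c a).op).hom (r (w a))) (by
        intro a b Z ga gb hab
        by_cases h : a = b
        · subst h
          have : ga = gb := by
            refine EtOver.hom_ext _ _ (Over.OverMorphism.ext ((cancel_mono (Q a).ι).1 ?_))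
            exact congrArg (fun k : Z ⟶ P => k.hom.left.left) hab
          rw [this]
        · haveI : IsEmpty ↥Z.obj.left.left := ⟨fun z => by
            have hz : (Q a).ι (ga.hom.left.left z) = (Q b).ι (gb.hom.left.left z) :=
              congrArg (fun k : Z ⟶ P => k.hom.left.left z) hab
            have h1 : sq.isoPullback.hom ((Q a).ι (ga.hom.left.left z)) ∈ O a := (ga.hom.left.left z).2
            have h2 : sq.isoPullback.hom ((Q b).ι (gb.hom.left.left z)) ∈ O b := (gb.hom.left.left z).2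
            rw [← hz] at h2
            exact (hdis a b h).le_bot ⟨h1, h2⟩⟩
          obtain ⟨U⟩ := unique_of_isEmpty ((sheafCompose (etTop X) (forget AddCommGrpCat.{u + 1})).obj F) Z
          exact @Subsingleton.elim _ (@Unique.instSubsingleton _ U) _ _)
      refine ⟨E₂, j₂ ≫ j₁, ⟨v', congrArg (fun y : O₁ => y.1) hv'⟩, t, ?_⟩
      refine ext_of_germs hX ((sheafCompose (etTop X) (forget AddCommGrpCat.{u + 1})).obj G) _ _ fun p hp x => ?_
      obtain ⟨a, ha⟩ := hQ (x.1.left (IsLocalRing.closedPoint p.K))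
      obtain ⟨y, hy⟩ := exists_lift_etOver p hp (pa a) x ⟨_, ha⟩ rfl
      rw [← hy, ← germ_map, ← germ_map]
      refine congrArg _ ?_
      show (G.obj.map (pa a).op).hom ((α.hom.app (op P)).hom t) =
        (G.obj.map (pa a).op).hom ((G.obj.map ((EtOver.bc hf).map (j₂ ≫ j₁)).op).hom s)
      have h3 : (F.obj.map (pa a).op).hom t = (F.obj.map (c a).op).hom (r (w a)) := ht a
      refine ((NatTrans.naturality_apply α.hom (pa a).op t).symm.trans ?_)
      refine (congrArg (α.hom.app (op (Pa a))).hom h3).trans ?_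
      refine (NatTrans.naturality_apply α.hom (c a).op (r (w a))).trans ?_
      refine (congrArg (G.obj.map (c a).op).hom (hr (w a))).trans ?_
      show (G.obj.map ((EtOver.bc hf).map j₁).op ≫ G.obj.map (g (w a)).op ≫ G.obj.map (c a).op).hom s =
        (G.obj.map ((EtOver.bc hf).map (j₂ ≫ j₁)).op ≫ G.obj.map (pa a).op).hom s
      rw [← G.obj.map_comp, ← G.obj.map_comp, ← G.obj.map_comp, ← op_comp, ← op_comp, ← op_comp, hc,
        Functor.map_comp, Category.assoc]
    choose E' φ hv t ht using key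
    refine (etTop Y).superset_covering ?_ (ofArrows_mem_etTop E' φ fun v => ⟨v, hv v⟩)
    rw [Sieve.generate_le_iff, Presieve.ofArrows_le_iff]
    exact fun v => ⟨t v, ht v⟩

include hX hY in
theorem preservesFiniteColimits_pushEt (hi : IsIntegralMor f) :
    PreservesFiniteColimits (pushEt hf AddCommGrpCat.{u + 1}) := by
  have := preservesEpimorphisms_pushEt hf hX hY hi
  have : PreservesFiniteLimits (pushEt hf AddCommGrpCat.{u + 1}) :=
    have : PreservesLimitsOfSize.{0, 0} (pushEt hf AddCommGrpCat.{u + 1}) :=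
      (pullPushAdjEt hf AddCommGrpCat.{u + 1}).rightAdjoint_preservesLimits
    PreservesLimitsOfSize.preservesFiniteLimits _
  have : (pushEt hf AddCommGrpCat.{u + 1}).PreservesHomology :=
    Functor.preservesHomology_of_preservesEpis_and_kernels _
  exact Functor.preservesFiniteColimits_of_preservesHomology _

include hX hY in
theorem isZero_rpushEt (hi : IsIntegralMor f) (p : ℕ) (hp : 0 < p) (F : AbEt X) :
    IsZero ((RpushEt hf p).obj F) := by
  have := preservesFiniteColimits_pushEt hf hX hY hi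
  have : PreservesFiniteLimits (pushEt hf AddCommGrpCat.{u + 1}) :=
    have : PreservesLimitsOfSize.{0, 0} (pushEt hf AddCommGrpCat.{u + 1}) :=
      (pullPushAdjEt hf AddCommGrpCat.{u + 1}).rightAdjoint_preservesLimits
    PreservesLimitsOfSize.preservesFiniteLimits _
  obtain ⟨n, rfl⟩ := Nat.exists_eq_succ_of_ne_zero hp.ne'
  exact Groth.Agent.BigEt.isZero_rightDerived_of_exact _ F n

end Groth.Agent.AlgSpc
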