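import Groth.Agent.AlgSpc.PushStalk
import Groth.Prelude.Def_AlgSpOX
import Mathlib.AlgebraicGeometry.Morphisms.ClosedImmersion

/-!
# The direct image of modules along a closed immersion is fully faithful
-/

set_option autoImplicit false
set_option linter.style.haveILetI false
set_option backward.isDefEq.respectTransparency false
set_option backward.isDefEq.respectTransparency.types false
universe u v w

open CategoryTheory CategoryTheory.Limits AlgebraicGeometry Opposite

namespace Groth.Agent.AlgSpc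

open _root_.AlgSp

variable {S : Scheme.{u}} {Z X : Sp S} {i : Z ⟶ X} (hi : RepWith @IsClosedImmersion i)
  (hZ : IsAlgSpace Z) (hX : IsAlgSpace X)

include hi in
theorem isIntegralHom_snd_of_closedImmersion (E : EtOver X) : IsIntegralHom (hi.1.snd E.obj.hom).left :=
  haveI : IsClosedImmersion (hi.1.snd E.obj.hom).left := hi.2 _ _ _ (hi.1.isPullback E.obj.hom)
  inferInstance

include hi in
theorem injective_snd_of_closedImmersion (E : EtOver X) :
    Function.Injective fun z => (hi.1.snd E.obj.hom).left z :=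
  haveI : IsClosedImmersion (hi.1.snd E.obj.hom).left := hi.2 _ _ _ (hi.1.isPullback E.obj.hom)
  (hi.1.snd E.obj.hom).left.isClosedEmbedding.injective

include hi hZ hX in
/-- Points of etale `Z`-spaces are hit from base changes of affine etale `X`-schemes. -/
theorem exists_bc_cover_affine (U : EtOver Z) (u₀ : ↥U.obj.left.left) :
    ∃ (V : EtOver X) (_ : IsAffine V.obj.left.left) (k : (EtOver.bc hi.1).obj V ⟶ U),
      u₀ ∈ Set.range k.hom.left.left := by
  obtain ⟨V, k, w, hw⟩ := exists_bc_cover hi.1 hZ hX (isIntegralHom_snd_of_closedImmersion hi)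
    (injective_snd_of_closedImmersion hi) U u₀
  obtain ⟨p, hp, y, hy⟩ := exists_geometric_lift ((EtOver.bc hi.1).obj V) w
  obtain ⟨_, ⟨O, hO, rfl⟩, hmem, -⟩ := V.obj.left.left.isBasis_affineOpens.exists_subset_of_mem_open
    (Set.mem_univ ((unBc hi.1 p y).1.left (IsLocalRing.closedPoint p.K))) isOpen_univ
  let ι : Over.mk ((Scheme.Opens.ι O) ≫ V.obj.left.hom) ⟶ V.obj.left := Over.homMk (Scheme.Opens.ι O) rfl
  let V' : EtOver X := EtOver.mk ((yon S).map ι ≫ V.obj.hom)
    (repWith_comp ((repWith_yon_map_iff (P := @Etale) _).2 (inferInstanceAs (Etale (Scheme.Opens.ι O)))) V.property)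
  let j : V' ⟶ V := EtOver.homMk ι rfl
  obtain ⟨t', ht'⟩ := exists_lift_etOver (p.map i) hp j (unBc hi.1 p y) ⟨_, hmem⟩ rfl
  refine ⟨V', hO, (EtOver.bc hi.1).map j ≫ k, (bcLift hi.1 p t').1.left (IsLocalRing.closedPoint p.K), ?_⟩
  have h1 : p.liftsTo.map ((EtOver.bc hi.1).map j) (bcLift hi.1 p t') = y := by
    rw [map_bcLift, ht', bcLift_unBc]
  rw [← hw, ← hy, ← h1]
  rfl

include hi in
theorem bcRingHom_surjective (V : EtOver X) (hV : IsAffine V.obj.left.left) :
    Function.Surjective ((bcRingHom hi.1).hom.app (op V)) := by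
  haveI : IsClosedImmersion (hi.1.snd V.obj.hom).left := hi.2 _ _ _ (hi.1.isPullback V.obj.hom)
  intro r
  obtain ⟨a, ha⟩ := (hi.1.snd V.obj.hom).left.app_surjective ⊤ (isAffineOpen_top _) r.down
  exact ⟨ULift.up a, congrArg ULift.up ha⟩

include hZ hX in
theorem faithful_pushModEt : (pushModEt hi.1).Faithful where
  map_injective {M N} φ ψ h := by
    haveI := faithful_pushEt_ab hi.1 hZ hX (isIntegralHom_snd_of_closedImmersion hi)
      (injective_snd_of_closedImmersion hi)
    apply (toAbEt Z).map_injective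
    apply (pushEt hi.1 AddCommGrpCat.{u + 1}).map_injective
    exact congrArg (toAbEt X).map h

include hZ hX in
theorem full_pushModEt : (pushModEt hi.1).Full where
  map_surjective {M N} φ := by
    have hint := isIntegralHom_snd_of_closedImmersion hi
    have hinj := injective_snd_of_closedImmersion hi
    haveI := full_pushEt_ab hi.1 hZ hX hint hinj
    obtain ⟨ψ, hψ⟩ := (pushEt hi.1 AddCommGrpCat.{u + 1}).map_surjective
      (X := (toAbEt Z).obj M) (Y := (toAbEt Z).obj N) ((toAbEt X).map φ)
    have hψ' : ∀ (V : EtOver X) (a : ↥(M.val.obj (op ((EtOver.bc hi.1).obj V)))),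
        (ψ.hom.app (op ((EtOver.bc hi.1).obj V))).hom a = φ.val.app (op V) a := fun V a =>
      ConcreteCategory.congr_hom (congrArg (fun χ : (pushEt hi.1 AddCommGrpCat.{u + 1}).obj ((toAbEt Z).obj M) ⟶
        (pushEt hi.1 AddCommGrpCat.{u + 1}).obj ((toAbEt Z).obj N) => χ.hom.app (op V)) hψ) a
    have hlin : ∀ (U : (EtOver Z)ᵒᵖ) (r : ↥((OEtRing Z).obj.obj U)) (m : ↥(M.val.obj U)),
        (ψ.hom.app U).hom (r • m) = r • (show ↥(N.val.obj U) from (ψ.hom.app U).hom m) := by
      rintro ⟨U⟩ r m
      refine ext_of_germs hZ ((sheafCompose (etTop Z) (forget AddCommGrpCat.{u + 1})).obj ((toAbEt Z).obj N)) _ _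
        fun p hp x => ?_
      obtain ⟨V, hV, k, w, hw⟩ := exists_bc_cover_affine hi hZ hX U (x.1.left (IsLocalRing.closedPoint p.K))
      obtain ⟨y, hy⟩ := exists_lift_etOver p hp k x w hw
      rw [← hy, ← germ_map, ← germ_map]
      refine congrArg _ ?_
      show N.val.map k.op ((ψ.hom.app (op U)).hom (r • m)) =
        N.val.map k.op (r • (show ↥(N.val.obj (op U)) from (ψ.hom.app (op U)).hom m))
      have hn : ∀ a : ↥(M.val.obj (op U)), N.val.map k.op ((ψ.hom.app (op U)).hom a) =
          (ψ.hom.app (op ((EtOver.bc hi.1).obj V))).hom (M.val.map k.op a) := fun a =>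
        (NatTrans.naturality_apply ψ.hom k.op a).symm
      obtain ⟨r', hr'⟩ := bcRingHom_surjective hi V hV ((OEtRing Z).obj.map k.op r)
      rw [PresheafOfModules.map_smul, hn, hn, PresheafOfModules.map_smul, hψ', hψ', ← hr']
      exact (φ.val.app (op V)).hom.map_smul r' (M.val.map k.op m)
    refine ⟨⟨PresheafOfModules.homMk ψ.hom hlin⟩, ?_⟩
    apply (toAbEt X).map_injective
    exact hψ

include hZ hX in
theorem isIso_counit_pullPushAdjModEt [(SheafOfModules.pushforward.{u + 1} (bcRingHom hi.1)).IsRightAdjoint]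
    (G : ModEt Z) : IsIso ((pullPushAdjModEt hi.1).counit.app G) := by
  haveI := full_pushModEt hi hZ hX
  haveI := faithful_pushModEt hi hZ hX
  infer_instance

end Groth.Agent.AlgSpc
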