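import Groth.Agent.AlgSpc.EtStalkElems
import Groth.Agent.AlgSpc.Universal
import Groth.Agent.EtSh.Point
import Groth.Prelude.Def_AlgSpOX2
import Mathlib.CategoryTheory.Adjunction.FullyFaithful

/-!
# Direct images along integral universally injective morphisms on small etale sites
-/

set_option autoImplicit false
set_option linter.style.haveILetI false
set_option backward.isDefEq.respectTransparency false
set_option backward.isDefEq.respectTransparency.types false
universe u v w

open CategoryTheory CategoryTheory.Limits AlgebraicGeometry Opposite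

namespace Groth.Agent.AlgSpc

open _root_.AlgSp

variable {S : Scheme.{u}} {Y X : Sp S} {f : Y ⟶ X} (hf : Representable f)

/-- The lift to a base change of a lift of the image of a point. -/
noncomputable def bcLift (p : FieldPt Y) {E : EtOver X} (t : (p.map f).liftsTo.obj E) :
    p.liftsTo.obj ((EtOver.bc hf).obj E) :=
  ⟨hf.lift p.toHom t.1 ((t.2.trans (FieldPt.toHom_map f p)).symm), hf.lift_fst _ _ _⟩

theorem bcLift_snd (p : FieldPt Y) {E : EtOver X} (t : (p.map f).liftsTo.obj E) :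
    (bcLift hf p t).1 ≫ hf.snd E.obj.hom = t.1 :=
  hf.lift_snd _ _ _

/-- The lift of the image of a point underlying a lift to a base change. -/
noncomputable def unBc (p : FieldPt Y) {E : EtOver X} (y : p.liftsTo.obj ((EtOver.bc hf).obj E)) :
    (p.map f).liftsTo.obj E :=
  ⟨y.1 ≫ hf.snd E.obj.hom, by
    show (yon S).map (y.1 ≫ hf.snd E.obj.hom) ≫ E.obj.hom = (p.map f).toHom
    rw [Functor.map_comp, Category.assoc, ← hf.w, FieldPt.toHom_map, ← Category.assoc]
    exact congrArg (· ≫ f) y.2⟩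

theorem bcLift_unBc (p : FieldPt Y) {E : EtOver X} (y : p.liftsTo.obj ((EtOver.bc hf).obj E)) :
    bcLift hf p (unBc hf p y) = y :=
  Subtype.ext (hf.hom_ext ((hf.lift_fst _ _ _).trans y.2.symm) (hf.lift_snd _ _ _))

theorem map_bcLift (p : FieldPt Y) {E E' : EtOver X} (g : E' ⟶ E) (t : (p.map f).liftsTo.obj E') :
    p.liftsTo.map ((EtOver.bc hf).map g) (bcLift hf p t) = bcLift hf p ((p.map f).liftsTo.map g t) := by
  refine Subtype.ext (hf.hom_ext ?_ ?_)
  · exact (p.liftsTo.map ((EtOver.bc hf).map g) (bcLift hf p t)).2.trans (bcLift hf p _).2.symm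
  · show ((bcLift hf p t).1 ≫ (EtOver.bcMap hf g).hom.left) ≫ hf.snd E.obj.hom = _
    rw [Category.assoc, EtOver.bcMap_snd, ← Category.assoc, bcLift_snd, bcLift_snd]
    rfl

/-- The map on etale neighbourhoods given by base change. -/
noncomputable def bcNbhd (p : FieldPt Y) : EtNbhd (p.map f) ⥤ EtNbhd p where
  obj N := ⟨(EtOver.bc hf).obj N.1, bcLift hf p N.2⟩
  map {M N} g := CategoryOfElements.homMk _ _ ((EtOver.bc hf).map g.val)
    ((map_bcLift hf p g.val M.2).trans (congrArg (bcLift hf p) g.property))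
  map_id N := CategoryOfElements.ext _ _ _ ((EtOver.bc hf).map_id N.1)
  map_comp g h := CategoryOfElements.ext _ _ _ ((EtOver.bc hf).map_comp g.val h.val)

/-- The comparison from the stalk of a direct image to the stalk. -/
noncomputable def pushStalk {A : Type v} [Category.{w} A] (p : FieldPt Y) [HasColimitsOfShape (EtNbhd p)ᵒᵖ A]
    [HasColimitsOfShape (EtNbhd (p.map f))ᵒᵖ A] (G : EtSh Y A) :
    stalkEt (p.map f) ((pushEt hf A).obj G) ⟶ stalkEt p G :=
  colimit.desc (stalkEtDiagram (p.map f) ((pushEt hf A).obj G))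
    { pt := stalkEt p G
      ι :=
        { app := fun N => stalkEtι p G ((bcNbhd hf p).obj N.unop)
          naturality := fun M N g =>
            (colimit.w (stalkEtDiagram p G) ((bcNbhd hf p).map g.unop).op).trans (Category.comp_id _).symm } }

theorem ι_pushStalk {A : Type v} [Category.{w} A] (p : FieldPt Y) [HasColimitsOfShape (EtNbhd p)ᵒᵖ A]
    [HasColimitsOfShape (EtNbhd (p.map f))ᵒᵖ A] (G : EtSh Y A) (N : EtNbhd (p.map f)) :
    stalkEtι (p.map f) ((pushEt hf A).obj G) N ≫ pushStalk hf p G = stalkEtι p G ((bcNbhd hf p).obj N) :=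
  colimit.ι_desc (F := stalkEtDiagram (p.map f) ((pushEt hf A).obj G)) _ (op N)

theorem pushStalk_ι {A : Type v} [Category.{w} A] {FA : A → A → Type*} {CA : A → Type (u + 1)}
    [∀ X Y, FunLike (FA X Y) (CA X) (CA Y)] [ConcreteCategory.{u + 1} A FA]
    (p : FieldPt Y) [HasColimitsOfShape (EtNbhd p)ᵒᵖ A] [HasColimitsOfShape (EtNbhd (p.map f))ᵒᵖ A]
    (G : EtSh Y A) (E : EtOver X) (t : (p.map f).liftsTo.obj E)
    (s : ToType (G.obj.obj (op ((EtOver.bc hf).obj E)))) :
    pushStalk hf p G (stalkEtι (p.map f) ((pushEt hf A).obj G) ⟨E, t⟩ s) =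
      stalkEtι p G ⟨(EtOver.bc hf).obj E, bcLift hf p t⟩ s :=
  (ConcreteCategory.comp_apply _ _ _).symm.trans (ConcreteCategory.congr_hom (ι_pushStalk hf p G ⟨E, t⟩) s)

/-- Germs do not change under restriction along a map of the site. -/
theorem germ_map (p : FieldPt X) (G : EtSh X (Type (u + 1))) {U V : EtOver X} (φ : V ⟶ U)
    (x : p.liftsTo.obj V) (s : G.obj.obj (op U)) :
    stalkEtι p G ⟨V, x⟩ (G.obj.map φ.op s) = stalkEtι p G ⟨U, p.liftsTo.map φ x⟩ s :=
  stalkEtι_map p G (M := ⟨V, x⟩) (N := ⟨U, p.liftsTo.map φ x⟩) (CategoryOfElements.homMk _ _ φ rfl) s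

/-- Sections of a sheaf of sets with equal germs everywhere are equal. -/
theorem ext_of_germs (hX : IsAlgSpace X) (G : EtSh X (Type (u + 1))) {U : EtOver X} (s t : G.obj.obj (op U))
    (h : ∀ p : FieldPt X, p.IsGeometric → ∀ x : p.liftsTo.obj U,
      stalkEtι p G ⟨U, x⟩ s = stalkEtι p G ⟨U, x⟩ t) : s = t := by
  have key : ∀ u : ↥U.obj.left.left, ∃ (V : EtOver X) (φ : V ⟶ U),
      u ∈ Set.range φ.hom.left.left ∧ G.obj.map φ.op s = G.obj.map φ.op t := by
    intro u
    obtain ⟨p, hp, x, hx⟩ := exists_geometric_lift U u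
    haveI := isCofiltered_etNbhd hX p hp
    obtain ⟨M, g, hg⟩ := exists_of_stalkEtι_eq p G ⟨U, x⟩ s t (h p hp x)
    refine ⟨M.1, g.val, ⟨M.2.1.left (IsLocalRing.closedPoint p.K), ?_⟩, hg⟩
    rw [← hx]
    exact congrArg (fun z : p.liftsTo.obj U => z.1.left (IsLocalRing.closedPoint p.K)) g.property
  choose V φ hu hst using key
  have hc := ofArrows_mem_etTop (X := X) V φ fun u => ⟨u, hu u⟩
  have hs := ((isSheaf_iff_isSheaf_of_type (etTop X) _).1 G.2) _ hc
  refine hs.isSeparatedFor.ext fun W k hk => ?_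
  rw [Sieve.mem_ofArrows_iff] at hk
  obtain ⟨i, g, rfl⟩ := hk
  rw [op_comp, G.obj.map_comp, ConcreteCategory.comp_apply, ConcreteCategory.comp_apply, hst i]

variable (hY : IsAlgSpace Y) (hX : IsAlgSpace X) (hint : ∀ E : EtOver X, IsIntegralHom (hf.snd E.obj.hom).left)
  (hinj : ∀ E : EtOver X, Function.Injective fun z => (hf.snd E.obj.hom).left z)

include hY hX hint hinj in
/-- Every point of an etale `Y`-space is hit from the base change of an etale `X`-space. -/
theorem exists_bc_cover (U : EtOver Y) (u₀ : ↥U.obj.left.left) :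
    ∃ (V : EtOver X) (k : (EtOver.bc hf).obj V ⟶ U), u₀ ∈ Set.range k.hom.left.left := by
  obtain ⟨p, hp, x, hx⟩ := exists_geometric_lift U u₀
  obtain ⟨U0, a, ha, has⟩ := hX.atlas
  obtain ⟨e0, he0⟩ := surjective_ofPt has (Points.mk (p.map f))
  obtain ⟨t, ht, -⟩ := OEtStalk.exists_lift (p.map f) hp ha he0
  let E0 : EtOver X := EtOver.mk a ha
  let B := (EtOver.bc hf).obj E0
  let b : p.liftsTo.obj B := bcLift hf p (E := E0) ⟨t, ht⟩
  let P := EtOver.prodObj U B
  let c : p.pt ⟶ P.obj.left := B.property.1.lift' b.1 x.1 (b.2.trans x.2.symm)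
  have hc : c ≫ (EtOver.prodFst U B).hom.left = x.1 := Functor.relativelyRepresentable.lift'_snd _ _ _ _
  let w₀ : ↥P.obj.left.left := c.left (IsLocalRing.closedPoint p.K)
  have hw₀ : (EtOver.prodFst U B).hom.left.left w₀ = u₀ := by
    rw [← hx, ← hc]
    rfl
  let f0 : B.obj.left.left ⟶ E0.obj.left.left := (hf.snd E0.obj.hom).left
  haveI : IsIntegralHom f0 := hint E0
  haveI : Etale (EtOver.prodSnd U B).hom.left.left := EtOver.etale_left _
  let P0 : B.obj.left.left.Etale :=
    MorphismProperty.Over.mk ⊤ (EtOver.prodSnd U B).hom.left.left (inferInstanceAs (Etale _))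
  obtain ⟨V', k, z, hz⟩ := Groth.Agent.EtSh.exists_bc_through f0 P0 w₀ fun y hy => hinj E0 hy
  let m : Over.mk (V'.hom ≫ E0.obj.left.hom) ⟶ E0.obj.left := Over.homMk V'.hom rfl
  let V : EtOver X := EtOver.mk ((yon S).map m ≫ a)
    (repWith_comp ((repWith_yon_map_iff (P := @Etale) _).2 V'.prop) ha)
  let g : V ⟶ E0 := EtOver.homMk m rfl
  have sq := (EtOver.isPullback_bcMap_left hf g).flip
  let kk : ((EtOver.bc hf).obj V).obj.left.left ⟶ P.obj.left.left := sq.isoPullback.hom ≫ k.left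
  have hk : kk ≫ (EtOver.prodSnd U B).hom.left.left = (EtOver.bcMap hf g).hom.left.left := by
    show (sq.isoPullback.hom ≫ k.left) ≫ P0.hom = _
    rw [Category.assoc, MorphismProperty.Over.w k]
    exact sq.isoPullback_hom_snd
  let k1 : ((EtOver.bc hf).obj V).obj.left ⟶ P.obj.left := Over.homMk kk (by
    rw [← Over.w (EtOver.prodSnd U B).hom.left, ← Category.assoc, hk]
    exact Over.w _)
  have hk1 : k1 ≫ (EtOver.prodSnd U B).hom.left = (EtOver.bcMap hf g).hom.left := Over.OverMorphism.ext hk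
  have hw : (yon S).map k1 ≫ P.obj.hom = ((EtOver.bc hf).obj V).obj.hom := by
    rw [← EtOver.w (EtOver.prodSnd U B), ← Category.assoc, ← Functor.map_comp, hk1]
    exact EtOver.w (EtOver.bcMap hf g)
  refine ⟨V, EtOver.homMk k1 hw ≫ EtOver.prodFst U B, sq.isoPullback.inv z, ?_⟩
  show (EtOver.prodFst U B).hom.left.left ((sq.isoPullback.hom ≫ k.left) (sq.isoPullback.inv z)) = u₀
  rw [← Scheme.Hom.comp_apply, Iso.inv_hom_id_assoc]
  exact (congrArg _ hz).trans hw₀

section Stalk

variable (p : FieldPt Y) (hp : p.IsGeometric) (G : EtSh Y (Type (u + 1)))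

include hY hX hint hinj hp in
theorem pushStalk_surjective : Function.Surjective (pushStalk hf p G) := by
  intro z
  haveI := isCofiltered_etNbhd hY p hp
  obtain ⟨N, s, rfl⟩ := exists_rep_stalkEt p G z
  obtain ⟨V, k, v, hv⟩ := exists_bc_cover hf hY hX hint hinj N.1 (N.2.1.left (IsLocalRing.closedPoint p.K))
  obtain ⟨y, hy⟩ := exists_lift_etOver p hp k N.2 v hv
  refine ⟨stalkEtι (p.map f) ((pushEt hf _).obj G) ⟨V, unBc hf p y⟩ (G.obj.map k.op s), ?_⟩
  rw [pushStalk_ι, bcLift_unBc, germ_map, hy]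
  rfl

include hY hX hint hinj hp in
theorem pushStalk_injective : Function.Injective (pushStalk hf p G) := by
  haveI := isCofiltered_etNbhd hY p hp
  haveI := isCofiltered_etNbhd hX (p.map f) hp
  intro z z' hzz
  obtain ⟨N₁, s₁, rfl⟩ := exists_rep_stalkEt (p.map f) ((pushEt hf _).obj G) z
  obtain ⟨N₂, s₂, rfl⟩ := exists_rep_stalkEt (p.map f) ((pushEt hf _).obj G) z'
  obtain ⟨N, g₁, g₂, -⟩ := IsCofilteredOrEmpty.cone_objs N₁ N₂
  rw [← stalkEtι_map (p.map f) ((pushEt hf _).obj G) g₁ s₁, ← stalkEtι_map (p.map f) ((pushEt hf _).obj G) g₂ s₂]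
    at hzz ⊢
  generalize ((pushEt hf _).obj G).obj.map g₁.val.op s₁ = s at hzz ⊢
  generalize ((pushEt hf _).obj G).obj.map g₂.val.op s₂ = t at hzz ⊢
  obtain ⟨E, e⟩ := N
  rw [pushStalk_ι, pushStalk_ι] at hzz
  obtain ⟨M, g, hg⟩ := exists_of_stalkEtι_eq p G ⟨(EtOver.bc hf).obj E, bcLift hf p e⟩ s t hzz
  let q := (hf.snd E.obj.hom).left
  haveI : IsIntegralHom q := hint E
  haveI := EtOver.etale_left g.val
  let y₀ := (bcLift hf p e).1.left (IsLocalRing.closedPoint p.K)
  let C := (Set.range g.val.hom.left.left)ᶜ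
  have hC : IsClosed C := g.val.hom.left.left.isOpenMap.isOpen_range.isClosed_compl
  let O : E.obj.left.left.Opens := ⟨(q '' C)ᶜ, (q.isClosedMap _ hC).isOpen_compl⟩
  have he : q y₀ = e.1.left (IsLocalRing.closedPoint p.K) := by
    rw [← bcLift_snd hf p e]
    rfl
  have heO : e.1.left (IsLocalRing.closedPoint p.K) ∈ O := by
    rintro ⟨c, hc, hce⟩
    refine hc ?_
    rw [hinj E (show q c = q y₀ from hce.trans he.symm)]
    exact ⟨M.2.1.left (IsLocalRing.closedPoint p.K),
      congrArg (fun z : p.liftsTo.obj _ => z.1.left (IsLocalRing.closedPoint p.K)) g.property⟩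
  let ι : Over.mk (O.ι ≫ E.obj.left.hom) ⟶ E.obj.left := Over.homMk O.ι rfl
  let E' : EtOver X := EtOver.mk ((yon S).map ι ≫ E.obj.hom)
    (repWith_comp ((repWith_yon_map_iff (P := @Etale) _).2 (inferInstanceAs (Etale O.ι))) E.property)
  let j : E' ⟶ E := EtOver.homMk ι rfl
  obtain ⟨e', he'⟩ := exists_lift_etOver (p.map f) hp j e ⟨_, heO⟩ rfl
  rw [← stalkEtι_map (p.map f) ((pushEt hf _).obj G) (M := ⟨E', e'⟩) (N := ⟨E, e⟩)
      (CategoryOfElements.homMk _ _ j he') s,
    ← stalkEtι_map (p.map f) ((pushEt hf _).obj G) (M := ⟨E', e'⟩) (N := ⟨E, e⟩)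
      (CategoryOfElements.homMk _ _ j he') t]
  refine congrArg _ (ext_of_germs hY G _ _ fun r hr x => ?_)
  show stalkEtι r G ⟨_, x⟩ (G.obj.map ((EtOver.bc hf).map j).op s) =
    stalkEtι r G ⟨_, x⟩ (G.obj.map ((EtOver.bc hf).map j).op t)
  rw [germ_map, germ_map]
  have hw : (r.liftsTo.map ((EtOver.bc hf).map j) x).1.left (IsLocalRing.closedPoint r.K) ∈
      Set.range g.val.hom.left.left := by
    by_contra hn
    have h1 : (EtOver.bcMap hf j).hom.left ≫ hf.snd E.obj.hom = hf.snd E'.obj.hom ≫ ι := EtOver.bcMap_snd hf j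
    have h2 : q ((EtOver.bcMap hf j).hom.left.left (x.1.left (IsLocalRing.closedPoint r.K))) =
        O.ι ((hf.snd E'.obj.hom).left (x.1.left (IsLocalRing.closedPoint r.K))) :=
      congrArg (fun k => k.left (x.1.left (IsLocalRing.closedPoint r.K))) h1
    exact ((hf.snd E'.obj.hom).left (x.1.left (IsLocalRing.closedPoint r.K))).2 ⟨_, hn, h2⟩
  obtain ⟨w, hw⟩ := hw
  obtain ⟨y, hy⟩ := exists_lift_etOver r hr g.val _ w hw
  rw [← hy, ← germ_map, ← germ_map, hg]

include hY hX hint hinj hp in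
theorem pushStalk_bijective : Function.Bijective (pushStalk hf p G) :=
  ⟨pushStalk_injective hf hY hX hint hinj p hp G, pushStalk_surjective hf hY hX hint hinj p hp G⟩

end Stalk

section Functors

include hY hX hint hinj

theorem ext_of_bc (G : EtSh Y (Type (u + 1))) {U : EtOver Y} (s t : G.obj.obj (op U))
    (h : ∀ (V : EtOver X) (k : (EtOver.bc hf).obj V ⟶ U), G.obj.map k.op s = G.obj.map k.op t) : s = t := by
  refine ext_of_germs hY G s t fun p hp x => ?_
  obtain ⟨V, k, v, hv⟩ := exists_bc_cover hf hY hX hint hinj U (x.1.left (IsLocalRing.closedPoint p.K))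
  obtain ⟨y, hy⟩ := exists_lift_etOver p hp k x v hv
  rw [← hy, ← germ_map, ← germ_map, h]

theorem faithful_pushEt : (pushEt hf (Type (u + 1))).Faithful where
  map_injective {G H} φ ψ h := by
    ext U s
    obtain ⟨U⟩ := U
    refine ext_of_bc hf hY hX hint hinj H _ _ fun V k => ?_
    exact ((NatTrans.naturality_apply φ.hom k.op s).symm.trans (ConcreteCategory.congr_hom
      (congrArg (fun χ : (pushEt hf _).obj G ⟶ (pushEt hf _).obj H => χ.hom.app (op V)) h) _)).trans
      (NatTrans.naturality_apply ψ.hom k.op s)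

theorem germ_eq_of_germ_eq {G H : EtSh Y (Type (u + 1))} (φ : (pushEt hf _).obj G ⟶ (pushEt hf _).obj H)
    (p : FieldPt Y) (hp : p.IsGeometric) (V₁ V₂ : EtOver X)
    (y₁ : p.liftsTo.obj ((EtOver.bc hf).obj V₁)) (y₂ : p.liftsTo.obj ((EtOver.bc hf).obj V₂))
    (a₁ : G.obj.obj (op ((EtOver.bc hf).obj V₁))) (a₂ : G.obj.obj (op ((EtOver.bc hf).obj V₂)))
    (h : stalkEtι p G ⟨_, y₁⟩ a₁ = stalkEtι p G ⟨_, y₂⟩ a₂) :
    stalkEtι p H ⟨_, y₁⟩ (φ.hom.app (op V₁) a₁) = stalkEtι p H ⟨_, y₂⟩ (φ.hom.app (op V₂) a₂) := by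
  rw [← bcLift_unBc hf p y₁, ← bcLift_unBc hf p y₂] at h ⊢
  erw [← pushStalk_ι, ← pushStalk_ι] at h
  erw [← pushStalk_ι, ← pushStalk_ι]
  refine congrArg _ ?_
  have h' := congrArg ((stalkEtFunctor _ (p.map f)).map φ) (pushStalk_injective hf hY hX hint hinj p hp G h)
  have key : ∀ (V : EtOver X) (t : (p.map f).liftsTo.obj V) (a : G.obj.obj (op ((EtOver.bc hf).obj V))),
      (stalkEtFunctor _ (p.map f)).map φ (stalkEtι (p.map f) ((pushEt hf _).obj G) ⟨V, t⟩ a) =
        stalkEtι (p.map f) ((pushEt hf _).obj H) ⟨V, t⟩ (φ.hom.app (op V) a) := fun V t a => by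
    have h1 : stalkEtι (p.map f) ((pushEt hf _).obj G) ⟨V, t⟩ ≫ (stalkEtFunctor _ (p.map f)).map φ =
        φ.hom.app (op V) ≫ stalkEtι (p.map f) ((pushEt hf _).obj H) ⟨V, t⟩ :=
      colimit.ι_map (Functor.whiskerLeft (EtNbhd.toEtOver (p.map f)).op φ.hom) (op (⟨V, t⟩ : EtNbhd (p.map f)))
    exact ConcreteCategory.congr_hom h1 a
  exact (key _ _ _).symm.trans (h'.trans (key _ _ _))

theorem exists_preimage_app {G H : EtSh Y (Type (u + 1))} (φ : (pushEt hf _).obj G ⟶ (pushEt hf _).obj H)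
    (U : EtOver Y) (s : G.obj.obj (op U)) :
    ∃ r : H.obj.obj (op U), ∀ (V : EtOver X) (k : (EtOver.bc hf).obj V ⟶ U),
      H.obj.map k.op r = φ.hom.app (op V) (G.obj.map k.op s) := by
  choose V k hu using exists_bc_cover hf hY hX hint hinj U
  have hc := ofArrows_mem_etTop (X := Y) (fun u => (EtOver.bc hf).obj (V u)) k fun u => ⟨u, hu u⟩
  have hs := (Presieve.isSheafFor_arrows_iff _ _).1 ((Presieve.isSheafFor_iff_generate _).2
    (((isSheaf_iff_isSheaf_of_type (etTop Y) _).1 H.2) _ hc))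
  obtain ⟨r, hr, -⟩ := hs (fun u => φ.hom.app (op (V u)) (G.obj.map (k u).op s)) (by
    intro i j W gi gj hij
    refine ext_of_germs hY H _ _ fun p hp x => ?_
    rw [germ_map, germ_map]
    refine germ_eq_of_germ_eq hf hY hX hint hinj φ p hp _ _ _ _ _ _ ?_
    rw [germ_map, germ_map, ← Functor.map_comp_apply, hij, Functor.map_comp_apply])
  refine ⟨r, fun V' k' => ext_of_germs hY H _ _ fun p hp x => ?_⟩
  obtain ⟨i, hi⟩ : ∃ i, (p.liftsTo.map k' x).1.left (IsLocalRing.closedPoint p.K) ∈ Set.range (k i).hom.left.left :=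
    ⟨_, hu _⟩
  obtain ⟨w, hw⟩ := hi
  obtain ⟨y, hy⟩ := exists_lift_etOver p hp (k i) _ w hw
  rw [germ_map, ← hy, ← germ_map, hr i]
  refine germ_eq_of_germ_eq hf hY hX hint hinj φ p hp _ _ _ _ _ _ ?_
  rw [germ_map, germ_map, hy]

theorem full_pushEt : (pushEt hf (Type (u + 1))).Full where
  map_surjective {G H} φ := by
    choose r hr using exists_preimage_app hf hY hX hint hinj φ
    refine ⟨⟨{ app := fun U => TypeCat.ofHom fun s => r U.unop s, naturality := ?_ }⟩, ?_⟩
    · rintro ⟨U⟩ ⟨U'⟩ ⟨g⟩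
      ext s
      show r U' (G.obj.map g.op s) = H.obj.map g.op (r U s)
      refine ext_of_bc hf hY hX hint hinj H _ _ fun V k => ?_
      rw [hr, ← ConcreteCategory.comp_apply, ← G.obj.map_comp, ← ConcreteCategory.comp_apply, ← H.obj.map_comp,
        ← op_comp]
      exact (hr U s V (k ≫ g)).symm
    · ext V s
      obtain ⟨V⟩ := V
      show r ((EtOver.bc hf).obj V) s = φ.hom.app (op V) s
      have h1 := hr ((EtOver.bc hf).obj V) s V (𝟙 _)
      rw [op_id, H.obj.map_id, G.obj.map_id, ConcreteCategory.id_apply, ConcreteCategory.id_apply] at h1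
      exact h1

theorem faithful_pushEt_ab : (pushEt hf AddCommGrpCat.{u + 1}).Faithful where
  map_injective {G H} φ ψ h := by
    haveI := faithful_pushEt hf hY hX hint hinj
    apply (sheafCompose (etTop Y) (forget AddCommGrpCat.{u + 1})).map_injective
    apply (pushEt hf (Type (u + 1))).map_injective
    exact congrArg (sheafCompose (etTop X) (forget AddCommGrpCat.{u + 1})).map h

theorem full_pushEt_ab : (pushEt hf AddCommGrpCat.{u + 1}).Full where
  map_surjective {G H} φ := by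
    haveI := full_pushEt hf hY hX hint hinj
    obtain ⟨ψ, hψ⟩ := (pushEt hf (Type (u + 1))).map_surjective
      (X := (sheafCompose (etTop Y) (forget AddCommGrpCat.{u + 1})).obj G)
      (Y := (sheafCompose (etTop Y) (forget AddCommGrpCat.{u + 1})).obj H)
      ((sheafCompose (etTop X) (forget AddCommGrpCat.{u + 1})).map φ)
    let ψ' : ∀ U : EtOver Y, ↥(G.obj.obj (op U)) → ↥(H.obj.obj (op U)) := fun U a => ψ.hom.app (op U) a
    have hψ' : ∀ (V : EtOver X) (a : ↥(G.obj.obj (op ((EtOver.bc hf).obj V)))),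
        ψ' ((EtOver.bc hf).obj V) a = (φ.hom.app (op V)).hom a := fun V a =>
      ConcreteCategory.congr_hom (congrArg (fun χ : (pushEt hf (Type (u + 1))).obj
        ((sheafCompose (etTop Y) (forget AddCommGrpCat.{u + 1})).obj G) ⟶ (pushEt hf (Type (u + 1))).obj
        ((sheafCompose (etTop Y) (forget AddCommGrpCat.{u + 1})).obj H) => χ.hom.app (op V)) hψ) a
    have hn : ∀ {U U' : EtOver Y} (g : U' ⟶ U) (a : ↥(G.obj.obj (op U))),
        ψ' U' ((G.obj.map g.op).hom a) = (H.obj.map g.op).hom (ψ' U a) :=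
      fun g a => NatTrans.naturality_apply ψ.hom g.op a
    have hadd : ∀ (U : EtOver Y) (a b : ↥(G.obj.obj (op U))), ψ' U (a + b) = ψ' U a + ψ' U b := fun U a b => by
      refine ext_of_bc hf hY hX hint hinj ((sheafCompose (etTop Y) (forget AddCommGrpCat.{u + 1})).obj H) _ _
        fun V k => ?_
      show (H.obj.map k.op).hom (ψ' U (a + b)) = (H.obj.map k.op).hom (_ + _)
      rw [map_add, ← hn, ← hn, ← hn, hψ', hψ', hψ', map_add, map_add]
    refine ⟨⟨{ app := fun U => AddCommGrpCat.ofHom (AddMonoidHom.mk' (fun a => ψ' U.unop a)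
        fun a b => hadd U.unop a b), naturality := ?_ }⟩, ?_⟩
    · intro U U' g
      ext a
      exact hn g.unop a
    · ext V a
      exact hψ' V.unop a

theorem pushEt_fullyFaithful :
    ((pushEt hf (Type (u + 1))).Full ∧ (pushEt hf (Type (u + 1))).Faithful) ∧
    ((pushEt hf AddCommGrpCat.{u + 1}).Full ∧ (pushEt hf AddCommGrpCat.{u + 1}).Faithful) ∧
    IsIso (pullPushAdjEt hf (Type (u + 1))).counit := by
  haveI := full_pushEt hf hY hX hint hinj
  haveI := faithful_pushEt hf hY hX hint hinj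
  exact ⟨⟨inferInstance, inferInstance⟩,
    ⟨full_pushEt_ab hf hY hX hint hinj, faithful_pushEt_ab hf hY hX hint hinj⟩, inferInstance⟩

end Functors

/-- Universally injective morphisms have injective representable base changes. -/
theorem injective_snd_of_univInjective (hu : IsUnivInjectiveMor f) (E : EtOver X) :
    Function.Injective fun z => (hf.snd E.obj.hom).left z :=
  injective_of_map _ (hu (IsAlgSpace.yon_obj _) _ _ _ (hf.isPullback E.obj.hom))

end Groth.Agent.AlgSpc
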