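import Groth.Agent.AlgStB.RepSp
import Groth.Agent.AlgSpc.FibreProd
import Mathlib.CategoryTheory.MorphismProperty.Limits

/-!
Stability of maps of presheaves representable by algebraic spaces.
-/

universe u

open CategoryTheory CategoryTheory.Limits AlgebraicGeometry Opposite

set_option backward.isDefEq.respectTransparency false

namespace Groth.Agent.AlgSpc

open _root_.AlgSp

variable {S : Scheme.{u}}

theorem repBySp_comp {F G H : PSp S} {a : F ⟶ G} {b : G ⟶ H} (ha : RepBySp a) (hb : RepBySp b) :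
    RepBySp (a ≫ b) := by
  intro U ξ F' fst snd sq
  have sqP := IsPullback.of_hasPullback b ξ
  obtain hP := hb ξ _ _ sqP
  let l := sqP.lift (fst ≫ a) snd (by rw [Category.assoc]; exact sq.w)
  have sqa : IsPullback fst l a (pullback.fst b ξ) :=
    IsPullback.of_bot (by rwa [sqP.lift_snd]) (sqP.lift_fst _ _ _).symm sqP
  exact AlgStB.isAlgSpaceP_of_repBySp l (AlgStB.repBySp_of_isPullback sqa ha) hP

instance repBySp_isStableUnderBaseChange : (RepBySp (S := S)).IsStableUnderBaseChange where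
  of_isPullback sq h := AlgStB.repBySp_of_isPullback sq h

theorem repBySp_prod_map {F₁ G₁ F₂ G₂ : PSp S} {a₁ : F₁ ⟶ G₁} {a₂ : F₂ ⟶ G₂} (h₁ : RepBySp a₁)
    (h₂ : RepBySp a₂) : RepBySp (prod.map a₁ a₂) := by
  have e : prod.map a₁ a₂ = prod.map a₁ (𝟙 F₂) ≫ prod.map (𝟙 G₁) a₂ := by simp
  rw [e]
  refine repBySp_comp (AlgStB.repBySp_of_isPullback (IsPullback.of_prod_fst_with_id a₁ F₂) h₁) ?_
  have sq : IsPullback prod.snd (prod.map (𝟙 G₁) a₂) a₂ prod.snd :=
    (IsPullback.of_prod_fst_with_id a₂ G₁).of_iso (prod.braiding _ _) (Iso.refl _) (prod.braiding _ _)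
      (Iso.refl _) (by simp) (by apply Limits.prod.hom_ext <;> simp) (by simp) (by simp)
  exact AlgStB.repBySp_of_isPullback sq h₂

theorem repBySp_of_comp_diagonal {F G H : PSp S} {a : F ⟶ G} {b : G ⟶ H}
    (hΔ : RepBySp (pullback.diagonal b)) (hab : RepBySp (a ≫ b)) : RepBySp a := by
  let gr : F ⟶ pullback (a ≫ b) b := pullback.lift (𝟙 F) a (by simp)
  rw [show a = gr ≫ pullback.snd _ _ by simp [gr]]
  exact repBySp_comp (MorphismProperty.of_isPullback (pullback_lift_diagonal_isPullback a b) hΔ)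
    (MorphismProperty.pullback_snd _ _ hab)

/-- An equalizer of two maps from a scheme to an algebraic space, at the level of presheaves. -/
theorem isAlgSpaceP_equalizer {Q : PSp S} (hQ : IsAlgSpaceP Q) {U : Over S}
    (s₁ s₂ : (pyon S).obj U ⟶ Q) {E : PSp S} (e : E ⟶ (pyon S).obj U) (we : e ≫ s₁ = e ≫ s₂)
    (hlim : IsLimit (Fork.ofι e we)) : IsAlgSpaceP E := by
  obtain ⟨hQ₁, hQ₂⟩ := hQ
  let Q' : Sp S := ⟨Q, hQ₁⟩
  let α : (yon S).obj U ⟶ Q' := ObjectProperty.homMk s₁
  let β : (yon S).obj U ⟶ Q' := ObjectProperty.homMk s₂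
  obtain ⟨W, i, hm, hi, huni⟩ := exists_equalizer hQ₂.diag α β
  choose k hk using fun s : Fork α β => huni s.ι s.condition
  have l₀ : IsLimit (Fork.ofι ((yon S).map i) hi) :=
    Fork.IsLimit.mk _ k hk fun s m h => (cancel_mono ((yon S).map i)).1 (h.trans (hk s).symm)
  have l₁ := isLimitForkMapOfIsLimit (sheafToPresheaf (J S) (Type (u + 1))) hi l₀
  exact (IsAlgSpaceP.of_iso ((isAlgSpaceP_obj_iff _).2 (IsAlgSpace.yon_obj W))
    (IsLimit.conePointUniqueUpToIso l₁ hlim))

theorem repBySp_diagonal {F G : PSp S} {a : F ⟶ G} (ha : RepBySp a) : RepBySp (pullback.diagonal a) := by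
  intro U ξ E fst snd sq
  let x := ξ ≫ pullback.fst a a
  let y := ξ ≫ pullback.snd a a
  have hxy : x ≫ a = y ≫ a := by simp [x, y, pullback.condition]
  have sqP := IsPullback.of_hasPullback a (x ≫ a)
  obtain hP := ha _ _ _ sqP
  let s₁ := sqP.lift x (𝟙 _) (by simp)
  let s₂ := sqP.lift y (𝟙 _) (by simp [hxy])
  have h₁ : snd ≫ x = fst := by simp [x, ← sq.w_assoc]
  have h₂ : snd ≫ y = fst := by simp [y, ← sq.w_assoc]
  have we : snd ≫ s₁ = snd ≫ s₂ := sqP.hom_ext (by simp [s₁, s₂, h₁, h₂]) (by simp [s₁, s₂])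
  have cond : ∀ s : Fork s₁ s₂, (s.ι ≫ x) ≫ pullback.diagonal a = s.ι ≫ ξ := fun s => by
    have h := congrArg (· ≫ pullback.fst a (x ≫ a)) s.condition
    simp only [s₁, s₂, Category.assoc, IsPullback.lift_fst] at h
    apply pullback.hom_ext
    · simp [x]
    · simpa [x, y] using h
  refine isAlgSpaceP_equalizer hP s₁ s₂ snd we (Fork.IsLimit.mk _
    (fun s => sq.lift (s.ι ≫ x) s.ι (cond s)) (fun s => sq.lift_snd _ _ _) fun s m hm => ?_)
  simp only [Fork.ι_ofι] at hm
  apply sq.hom_ext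
  · rw [sq.lift_fst, ← h₁, reassoc_of% hm]
  · rw [sq.lift_snd, hm]

theorem repBySp_diag_iff {F : PSp S} :
    RepBySp (Limits.diag F) ↔ ∀ (T : Over S) (ξ : (pyon S).obj T ⟶ F), RepBySp ξ := by
  constructor
  · intro hd T ξ U η E fst snd sq
    let P := (pyon S).obj (T ⨯ U)
    let ζ : P ⟶ F ⨯ F :=
      prod.lift ((pyon S).map prod.fst ≫ ξ) ((pyon S).map prod.snd ≫ η)
    have hT' := isLimitOfHasBinaryProductOfPreservesLimit (pyon S) T U
    obtain ⟨l, hl₁, hl₂⟩ := BinaryFan.IsLimit.lift' hT' fst snd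
    simp only [BinaryFan.mk_fst, BinaryFan.mk_snd] at hl₁ hl₂
    have w : (fst ≫ ξ) ≫ Limits.diag F = l ≫ ζ := by
      apply Limits.prod.hom_ext
      · simp [ζ, reassoc_of% hl₁]
      · simp [ζ, reassoc_of% hl₂, sq.w]
    refine hd ζ (fst ≫ ξ) l (IsPullback.of_isLimit (PullbackCone.IsLimit.mk w
      (fun s => sq.lift (s.snd ≫ (pyon S).map prod.fst) (s.snd ≫ (pyon S).map prod.snd) ?_)
      (fun s => ?_) (fun s => ?_) fun s m h₁ h₂ => ?_))
    · have h₁ := congrArg (· ≫ prod.fst) s.condition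
      have h₂ := congrArg (· ≫ prod.snd) s.condition
      simp only [ζ, Category.assoc, prod.lift_fst, prod.lift_snd, Category.comp_id] at h₁ h₂
      rw [Category.assoc, Category.assoc, ← h₁, ← h₂]
    · have h₁ := congrArg (· ≫ prod.fst) s.condition
      simp only [ζ, Category.assoc, prod.lift_fst, Category.comp_id] at h₁
      rw [sq.lift_fst_assoc, Category.assoc, ← h₁]
    · apply BinaryFan.IsLimit.hom_ext hT' <;>
        simp only [BinaryFan.mk_fst, BinaryFan.mk_snd, Category.assoc, hl₁, hl₂, IsPullback.lift_fst,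
          IsPullback.lift_snd]
    · apply sq.hom_ext
      · rw [sq.lift_fst, ← hl₁, reassoc_of% h₂]
      · rw [sq.lift_snd, ← hl₂, reassoc_of% h₂]
  · intro h U ξ E fst snd sq
    let x := ξ ≫ prod.fst
    let y := ξ ≫ prod.snd
    have sqQ := IsPullback.of_hasPullback x y
    obtain ⟨hQ₁, hQ₂⟩ := h U x y _ _ sqQ
    let i₁ := pullback.fst x y
    let i₂ := pullback.snd x y
    -- `E` is the preimage of the diagonal of the scheme `U`
    have h₁ : fst = snd ≫ x := by simp [x, ← sq.w_assoc]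
    have h₂ : fst = snd ≫ y := by simp [y, ← sq.w_assoc]
    let t : E ⟶ pullback x y := pullback.lift snd snd (by rw [← h₁, h₂])
    have hU' := isLimitOfHasBinaryProductOfPreservesLimit (pyon S) U U
    obtain ⟨j, hj₁, hj₂⟩ := BinaryFan.IsLimit.lift' hU' i₁ i₂
    simp only [BinaryFan.mk_fst, BinaryFan.mk_snd] at hj₁ hj₂
    let δ : (pyon S).obj U ⟶ (pyon S).obj (U ⨯ U) := (pyon S).map (Limits.diag U)
    have hδ₁ : δ ≫ (pyon S).map prod.fst = 𝟙 _ := by simp [δ, ← Functor.map_comp]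
    have hδ₂ : δ ≫ (pyon S).map prod.snd = 𝟙 _ := by simp [δ, ← Functor.map_comp]
    have w : t ≫ j = snd ≫ δ := by
      apply BinaryFan.IsLimit.hom_ext hU' <;>
        simp only [BinaryFan.mk_fst, BinaryFan.mk_snd, Category.assoc, hj₁, hj₂, hδ₁, hδ₂, t, i₁, i₂,
          pullback.lift_fst, pullback.lift_snd, Category.comp_id]
    have key : ∀ s : PullbackCone j δ, s.fst ≫ i₁ = s.snd ∧ s.fst ≫ i₂ = s.snd := fun s => by
      constructor
      · rw [← hj₁, reassoc_of% s.condition, hδ₁, Category.comp_id]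
      · rw [← hj₂, reassoc_of% s.condition, hδ₂, Category.comp_id]
    have kw : ∀ s : PullbackCone j δ, (s.snd ≫ x) ≫ Limits.diag F = s.snd ≫ ξ := fun s => by
      apply Limits.prod.hom_ext
      · simp [x]
      · have : s.snd ≫ x = s.snd ≫ y := by
          conv_lhs => rw [← (key s).1]
          conv_rhs => rw [← (key s).2]
          simp [i₁, i₂, pullback.condition]
        simpa [x, y] using this
    have sqE : IsPullback t snd j δ := IsPullback.of_isLimit (PullbackCone.IsLimit.mk w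
      (fun s => sq.lift (s.snd ≫ x) s.snd (kw s))
      (fun s => pullback.hom_ext (by simp [t, i₁, (key s).1.symm]) (by simp [t, i₂, (key s).2.symm]))
      (fun s => sq.lift_snd _ _ _) fun s m h₁' h₂' => sq.hom_ext
        (by rw [sq.lift_fst, h₁, reassoc_of% h₂']) (by rw [sq.lift_snd, h₂']))
    let Q : Sp S := ⟨_, hQ₁⟩
    have hE := isSheaf_of_isPullback (F := Q) (G := (yon S).obj (U ⨯ U)) (H := (yon S).obj U) sqE
    refine ⟨hE, isAlgSpace_of_isPullback hQ₂ (IsAlgSpace.yon_obj (U ⨯ U)) (IsAlgSpace.yon_obj U)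
      (fst := (ObjectProperty.homMk t : (⟨E, hE⟩ : Sp S) ⟶ Q)) (snd := ObjectProperty.homMk snd)
      (f := ObjectProperty.homMk j) (h := ObjectProperty.homMk δ)
      (IsPullback.of_map_of_faithful (sheafToPresheaf (J S) (Type (u + 1))) sqE)⟩

end Groth.Agent.AlgSpc

namespace Groth.Agent.AlgSpc

open _root_.AlgSp

/-- A map of presheaves representable by schemes is representable by algebraic spaces. -/
theorem repBySp_of_relativelyRepresentable {S : Scheme.{u}} {F G : PSp S} {a : F ⟶ G}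
    (ha : (pyon S).relativelyRepresentable a) : RepBySp a := by
  intro U ξ F' fst snd sq
  obtain ⟨V, k, l, sq'⟩ := ha ξ
  exact ((isAlgSpaceP_obj_iff _).2 (IsAlgSpace.yon_obj V)).of_iso (sq'.isoIsPullback _ _ sq)

end Groth.Agent.AlgSpc
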