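import Groth.Agent.AlgSpc.Compact
import Groth.Agent.AlgSpc.EtLocInst
import Groth.Agent.AlgSpLoc.Glue
import Groth.Agent.AlgSpLoc.EtLocMore
import Groth.Agent.BddFibLib.Bounded
import Groth.Agent.BddFibLib.FlatSurj
import Groth.Agent.BddFibLib.Comp
import Groth.Agent.BddFibLib.Points
import Groth.Agent.S7433
import Groth.Agent.S7437
import Groth.Agent.S7441
import Groth.Prelude.Def_W4decUnivBdd

/-!
Universally bounded fibres of morphisms from schemes to algebraic spaces.
-/

universe u

open CategoryTheory CategoryTheory.Limits AlgebraicGeometry Opposite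

set_option linter.style.haveILetI false
set_option backward.isDefEq.respectTransparency false

namespace Groth.Agent.AlgSpc

open _root_.AlgSp Groth.Agent.BddFibLib

variable {S : Scheme.{u}}

/-- All fibres over field valued points are finite of degree at most `n`. -/
def FibreLE (n : ℕ) {F : Sp S} {U : Over S} (a : (yon S).obj U ⟶ F) : Prop :=
  ∀ (K : Type u) [Field K] (str : Spec (CommRingCat.of K) ⟶ S) (g : (yon S).obj (Over.mk str) ⟶ F)
    (T : Over S) (fst : (yon S).obj T ⟶ (yon S).obj U) (snd : T ⟶ Over.mk str),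
    IsPullback fst ((yon S).map snd) a g → BddFib.FiniteOfDegLE (CommRingCat.of K) snd.left n

theorem degFibresLE_iff {n : ℕ} {F : Sp S} {U : Over S} {a : (yon S).obj U ⟶ F} :
    W4dec.DegFibresLE n a ↔ FibreLE n a := by
  constructor
  · intro h K _ str g T fst snd sq
    have hq : FieldPt.toHom ({ K := K, str := str, val := (J S).uliftYonedaEquiv g } : FieldPt F) = g :=
      Equiv.symm_apply_apply _ g
    exact (finiteOfDegLE_iff K snd.left n).2
      (h { K := K, str := str, val := (J S).uliftYonedaEquiv g } T snd fst (by rw [hq]; exact sq.flip))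
  · intro h q T c snd sq
    exact (finiteOfDegLE_iff q.K c.left n).1 (h q.K q.str q.toHom T snd c sq.flip)

theorem finiteOfDegLE_mono {K : CommRingCat.{u}} {T : Scheme.{u}} {p : T ⟶ Spec K} {m n : ℕ} (hmn : m ≤ n)
    (h : BddFib.FiniteOfDegLE K p m) : BddFib.FiniteOfDegLE K p n :=
  ⟨h.1, h.2.1, h.2.2.trans hmn⟩

theorem finiteOfDegLE_of_isEmpty {K : Type u} [Field K] {T : Scheme.{u}} [IsEmpty T]
    (p : T ⟶ Spec (CommRingCat.of K)) (n : ℕ) : BddFib.FiniteOfDegLE (CommRingCat.of K) p n :=
  finiteOfDegLE_mono (Nat.zero_le n) (by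
    simpa using finiteOfDegLE_of_iSup_eq_top p (ι := PEmpty.{u + 1}) (fun i => i.elim)
      (TopologicalSpace.Opens.ext (Set.eq_univ_of_forall fun x => isEmptyElim x).symm).symm
      (fun i => i.elim) (fun i => i.elim))

/-- Fibres over a field valued point may be computed in any pullback square. -/
theorem finiteOfDegLE_of_sq {n : ℕ} {F : Sp S} {U : Over S} {a : (yon S).obj U ⟶ F} {K : Type u} [Field K]
    {str : Spec (CommRingCat.of K) ⟶ S} {g : (yon S).obj (Over.mk str) ⟶ F}
    {T T' : Over S} {fst : (yon S).obj T ⟶ (yon S).obj U} {snd : T ⟶ Over.mk str}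
    {fst' : (yon S).obj T' ⟶ (yon S).obj U} {snd' : T' ⟶ Over.mk str}
    (sq : IsPullback fst ((yon S).map snd) a g) (sq' : IsPullback fst' ((yon S).map snd') a g)
    (h : BddFib.FiniteOfDegLE (CommRingCat.of K) snd'.left n) :
    BddFib.FiniteOfDegLE (CommRingCat.of K) snd.left n := by
  let e : T ≅ T' := (yon S).preimageIso (sq.isoIsPullback _ _ sq')
  have he : e.hom ≫ snd' = snd := by
    apply (yon S).map_injective
    rw [Functor.map_comp, Functor.preimageIso_hom, Functor.map_preimage, sq.isoIsPullback_hom_snd]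
  rw [show snd.left = ((Over.forget S).mapIso e).hom ≫ snd'.left by rw [← he]; rfl]
  exact (finiteOfDegLE_of_iso _ _ n).2 h

theorem fibreLE_yon_map_iff {n : ℕ} {U V : Over S} (f : U ⟶ V) :
    FibreLE n ((yon S).map f) ↔ BddFib.FibreDegLE f.left n := by
  constructor
  · intro h
    refine (Groth.Agent.S7433.result f.left n).2 fun k _ g => ?_
    let g' : Over.mk (g ≫ V.hom) ⟶ V := Over.homMk g rfl
    have s₁ := (IsPullback.of_hasPullback f g').map (yon S)
    have s₂ := (IsPullback.of_hasPullback f g').map (Over.forget S)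
    have := h k (g ≫ V.hom) ((yon S).map g') _ _ _ s₁
    refine (finiteOfDegLE_of_iso (s₂.isoPullback) (pullback.snd f.left g) n).1 ?_
    have e : s₂.isoPullback.hom ≫ pullback.snd f.left g = (pullback.snd f g').left := s₂.isoPullback_hom_snd
    exact e ▸ this
  · intro h K _ str g T fst snd sq
    rw [← map_pre fst, ← map_pre g] at sq
    exact finiteOfDegLE_of_fibreDegLE h ((IsPullback.of_map (yon S)
      ((yon S).map_injective (by simpa using sq.w)) sq).map (Over.forget S))

theorem fibreLE_comp {n m : ℕ} {F : Sp S} (hF : IsAlgSpace F) {U V : Over S} {f : V ⟶ U}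
    {a : (yon S).obj U ⟶ F} (hf : BddFib.FibreDegLE f.left n) (ha : FibreLE m a) :
    FibreLE (n * m) ((yon S).map f ≫ a) := by
  intro K _ str g T fst snd sq
  obtain ⟨T₁, fst₁, snd₁, sq₁⟩ := exists_sq (hF.representable_from_yon a) g
  have s := (IsPullback.of_hasPullback f (pre fst₁)).map (yon S)
  rw [map_pre] at s
  have sS := (IsPullback.of_hasPullback f (pre fst₁)).map (Over.forget S)
  refine finiteOfDegLE_of_sq sq (fst' := (yon S).map (pullback.fst f (pre fst₁)))
    (snd' := pullback.snd f (pre fst₁) ≫ snd₁) ?_ ?_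
  · rw [Functor.map_comp]
    exact s.paste_vert sq₁
  · rw [Over.comp_left]
    exact finiteOfDegLE_comp _ _ (ha K str g _ _ _ sq₁)
      (Groth.Agent.S7437.result _ _ _ _ sS n hf)

theorem fibreLE_of_flat_surjective {n : ℕ} {F : Sp S} (hF : IsAlgSpace F) {U V : Over S} {f : U ⟶ V}
    [Flat f.left] [Surjective f.left] {h : (yon S).obj V ⟶ F} (hg : FibreLE n ((yon S).map f ≫ h)) :
    FibreLE n h := by
  intro K _ str g T fst snd sq
  have s := (IsPullback.of_hasPullback f (pre fst)).map (yon S)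
  rw [map_pre] at s
  have := hg K str g _ _ (pullback.snd f (pre fst) ≫ snd) (by rw [Functor.map_comp]; exact s.paste_vert sq)
  rw [Over.comp_left] at this
  have sS := (IsPullback.of_hasPullback f (pre fst)).map (Over.forget S)
  haveI : Flat (pullback.snd f (pre fst)).left := MorphismProperty.of_isPullback (P := @Flat) sS ‹_›
  haveI : Surjective (pullback.snd f (pre fst)).left := MorphismProperty.of_isPullback (P := @Surjective) sS ‹_›
  exact finiteOfDegLE_of_flat_surjective (pullback.snd f (pre fst)).left _ (by assumption)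

theorem fibreLE_base_change {n : ℕ} {X Y : Sp S} {p : Y ⟶ X} {U V : Over S} {g : (yon S).obj U ⟶ X}
    {fst : (yon S).obj V ⟶ (yon S).obj U} {snd : (yon S).obj V ⟶ Y} (h : IsPullback fst snd g p)
    (hg : FibreLE n g) : FibreLE n snd := fun K _ str q T a b sq =>
  hg K str (q ≫ p) T (a ≫ fst) b (sq.paste_horiz h)

/-- Bounds descend along maps whose image contains the image of the morphism. -/
theorem fibreLE_of_baseChange {n : ℕ} {X Y : Sp S} {g : Y ⟶ X} {U V : Over S}
    {f : (yon S).obj U ⟶ X} {fst : (yon S).obj V ⟶ (yon S).obj U} {f' : (yon S).obj V ⟶ Y}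
    (h : IsPullback fst f' f g) (him : Set.range (Points.ofPt f) ⊆ Set.range (Points.map g))
    (hf' : FibreLE n f') : FibreLE n f := by
  intro K _ str q T a b sq
  rcases isEmpty_or_nonempty ↥T.left with hT | ⟨⟨t⟩⟩
  · exact finiteOfDegLE_of_isEmpty _ n
  obtain ⟨y, hy⟩ := him ⟨(pre a).left t, rfl⟩
  have hq : Points.map g y = Points.ofPt q (IsLocalRing.closedPoint K) := by
    rw [hy, ← ofPt_comp, map_pre, sq.w, ofPt_comp]
    exact congrArg _ (@Subsingleton.elim (PrimeSpectrum K) _ _ _)
  obtain ⟨z, -, -⟩ := exists_point_of_isPullback (IsPullback.of_hasPullback g q) y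
    (Points.ofScheme (Over.mk str) (IsLocalRing.closedPoint K)) (by rw [hq, Points.ofPt_eq_map_ofScheme])
  induction z using Points.ind with
  | h w =>
    let c : w.pt ⟶ Over.mk str := pre (w.toHom ≫ pullback.snd g q)
    let q' : (yon S).obj w.pt ⟶ Y := w.toHom ≫ pullback.fst g q
    have hq' : q' ≫ g = (yon S).map c ≫ q := by simp [q', c, pullback.condition]
    let T' := pullback b c
    have sq' : IsPullback ((yon S).map (pullback.fst b c) ≫ a) ((yon S).map (pullback.snd b c)) f (q' ≫ g) := by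
      rw [hq']
      exact ((IsPullback.of_hasPullback b c).map (yon S)).paste_horiz sq
    let l := h.lift ((yon S).map (pullback.fst b c) ≫ a) ((yon S).map (pullback.snd b c) ≫ q')
      (by rw [Category.assoc _ q', ← sq'.w])
    have sl : IsPullback l ((yon S).map (pullback.snd b c)) f' q' :=
      IsPullback.of_right (by rw [h.lift_fst]; exact sq') (h.lift_snd _ _ _) h
    exact (finiteOfDegLE_iff_of_isPullback ((IsPullback.of_hasPullback b c).map (Over.forget S)) n).1
      (hf' w.K w.str q' T' l _ sl)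

/-- Bounds may be checked on a finite open covering of the source. -/
theorem fibreLE_of_cover {F : Sp S} {U : Over S} {a : (yon S).obj U ⟶ F} {ι : Type u} [Fintype ι]
    (O : ι → U.left.Opens) (hO : ⨆ i, O i = ⊤) (n : ι → ℕ)
    (h : ∀ i, FibreLE (n i) ((yon S).map (AlgSpLoc.openSubι U (O i)) ≫ a)) : FibreLE (∑ i, n i) a := by
  intro K _ str g T fst snd sq
  refine finiteOfDegLE_of_iSup_eq_top _ (fun i => (pre fst).left ⁻¹ᵁ O i) ?_ n fun i => ?_
  · rw [← Scheme.Hom.preimage_iSup, hO, Scheme.Hom.preimage_top]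
  · let T' := AlgSpLoc.openSub T ((pre fst).left ⁻¹ᵁ O i)
    let j : T' ⟶ AlgSpLoc.openSub U (O i) := Over.homMk ((pre fst).left ∣_ O i) (by
      change ((pre fst).left ∣_ O i) ≫ (O i).ι ≫ U.hom = _ ≫ T.hom
      rw [morphismRestrict_ι_assoc, Over.w])
    have hs : IsPullback j (AlgSpLoc.openSubι T _) (AlgSpLoc.openSubι U (O i)) (pre fst) :=
      IsPullback.of_map (Over.forget S) (by ext; exact (morphismRestrict_ι _ _))
        (isPullback_morphismRestrict (pre fst).left (O i))
    have hs' := hs.map (yon S)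
    rw [map_pre] at hs'
    exact h i K str g T' ((yon S).map j) (AlgSpLoc.openSubι T _ ≫ snd)
      (by rw [Functor.map_comp]; exact hs'.paste_vert sq)

theorem fibreLE_comp_mono {n : ℕ} {X' X : Sp S} {U : Over S} {b : (yon S).obj U ⟶ X'} {j : X' ⟶ X} [Mono j]
    (hb : FibreLE n b) : FibreLE n (b ≫ j) := by
  intro K _ str g T fst snd sq
  rcases isEmpty_or_nonempty ↥T.left with hT | ⟨⟨t⟩⟩
  · exact finiteOfDegLE_of_isEmpty _ n
  let P : Over S := Over.mk (T.left.fromSpecResidueField t ≫ T.hom)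
  let c₀ : P ⟶ T := Over.homMk (T.left.fromSpecResidueField t) rfl
  let c : P ⟶ Over.mk str := c₀ ≫ snd
  have w : (yon S).map c ≫ g = ((yon S).map c₀ ≫ fst ≫ b) ≫ j := by
    simp [c, sq.w]
  let g' := (yon S).map c₀ ≫ fst ≫ b
  let T' := pullback snd c
  have sq' : IsPullback ((yon S).map (pullback.fst snd c) ≫ fst) ((yon S).map (pullback.snd snd c))
      (b ≫ j) (g' ≫ j) := by
    rw [← w]
    exact ((IsPullback.of_hasPullback snd c).map (yon S)).paste_horiz sq
  have w' : ((yon S).map (pullback.fst snd c) ≫ fst) ≫ b = (yon S).map (pullback.snd snd c) ≫ g' :=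
    (cancel_mono j).1 (by simpa using sq'.w)
  have s : IsPullback ((yon S).map (pullback.fst snd c) ≫ fst) ((yon S).map (pullback.snd snd c)) b g' :=
    IsPullback.of_isLimit' ⟨w'⟩ (PullbackCone.IsLimit.mk _
      (fun x => sq'.lift x.fst x.snd (by rw [← Category.assoc, x.condition, Category.assoc]))
      (fun x => sq'.lift_fst _ _ _) (fun x => sq'.lift_snd _ _ _)
      (fun x m h₁ h₂ => sq'.hom_ext (by rw [sq'.lift_fst]; exact h₁) (by rw [sq'.lift_snd]; exact h₂)))
  exact (finiteOfDegLE_iff_of_isPullback (k' := T.left.residueField t)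
    ((IsPullback.of_hasPullback snd c).map (Over.forget S)) n).1 (hb _ _ g' T' _ _ s)

/-- A morphism dominated by a family of morphisms with bounded fibres has bounded fibres. -/
theorem exists_fibreLE_of_family {X : Sp S} (hX : IsAlgSpace X) {ι : Type*} {U : ι → Over S}
    {φ : ∀ i, (yon S).obj (U i) ⟶ X} (hφ : ∀ i, RepWith @Etale (φ i))
    (hb : ∀ i, ∃ n, FibreLE n (φ i)) {V : Over S} [CompactSpace ↥V.left] {ψ : (yon S).obj V ⟶ X}
    (hψ : RepWith @Etale ψ) (hs : ∀ v, ∃ i w, Points.ofPt (φ i) w = Points.ofPt ψ v) :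
    ∃ n, FibreLE n ψ := by
  choose i w hw using hs
  choose n hn using hb
  have key : ∀ v : ↥V.left, ∃ (A : V.left.Opens) (m : ℕ), v ∈ A ∧
      FibreLE m ((yon S).map (AlgSpLoc.openSubι V A) ≫ ψ) := by
    intro v
    obtain ⟨W, fst, snd, sq⟩ := exists_sq (hφ (i v)).1 ψ
    haveI : Etale snd.left := (hφ (i v)).2 _ _ _ sq
    haveI : Etale (pre fst).left := sq_etale sq hψ
    obtain ⟨r, -, hr⟩ := exists_point_of_sq sq (Points.ofScheme (U (i v)) (w v)) v
      (by rw [← Points.ofPt_eq_map_ofScheme, hw])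
    obtain ⟨O, hO, hrO, -⟩ := exists_isAffineOpen_mem_and_subset (show r ∈ (⊤ : W.left.Opens) from trivial)
    let A : V.left.Opens := ⟨snd.left '' (O : Set W.left), snd.left.isOpenMap _ O.2⟩
    let e : AlgSpLoc.openSub W O ⟶ U (i v) := AlgSpLoc.openSubι W O ≫ pre fst
    haveI : IsAffine (AlgSpLoc.openSub W O).left := hO
    haveI : Etale e.left := inferInstanceAs (Etale ((AlgSpLoc.openSubι W O).left ≫ (pre fst).left))
    haveI : LocallyQuasiFinite e.left := AlgSpLoc.locallyQuasiFinite_of_etale _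
    obtain ⟨m, hm⟩ := Groth.Agent.S7441.result e.left
    have hc := fibreLE_comp hX hm (hn (i v))
    let d : AlgSpLoc.openSub W O ⟶ AlgSpLoc.openSub V A :=
      Over.homMk (IsOpenImmersion.lift A.ι (O.ι ≫ snd.left) (by
        rintro _ ⟨x, rfl⟩
        exact (Scheme.Opens.range_ι A).ge ⟨O.ι x, x.2, rfl⟩)) (by
        change IsOpenImmersion.lift A.ι _ _ ≫ A.ι ≫ V.hom = O.ι ≫ W.hom
        rw [IsOpenImmersion.lift_fac_assoc, Category.assoc, Over.w])
    have hd : d ≫ AlgSpLoc.openSubι V A = AlgSpLoc.openSubι W O ≫ snd := by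
      ext : 1; exact IsOpenImmersion.lift_fac _ _ _
    haveI : Etale (d.left ≫ A.ι) := by
      rw [show d.left ≫ A.ι = O.ι ≫ snd.left from congrArg CommaMorphism.left hd]; infer_instance
    haveI : Etale d.left := Etale.of_comp d.left A.ι
    haveI : Surjective d.left := ⟨fun a => by
      obtain ⟨x, hx, hxa⟩ := a.2
      refine ⟨⟨x, hx⟩, A.ι.isOpenEmbedding.injective ?_⟩
      exact ((Scheme.Hom.comp_apply d.left A.ι _).symm.trans (congrArg
        (fun k : (AlgSpLoc.openSub W O).left ⟶ V.left => k ⟨x, hx⟩) (congrArg CommaMorphism.left hd))).trans hxa⟩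
    refine ⟨A, m * n (i v), ⟨r, hrO, hr⟩, fibreLE_of_flat_surjective hX (f := d) ?_⟩
    rw [← Functor.map_comp_assoc, hd, Functor.map_comp_assoc, ← sq.w]
    rw [Functor.map_comp, map_pre] at hc
    simpa using hc
  choose A m hA hm using key
  obtain ⟨t, ht⟩ := isCompact_univ.elim_finite_subcover (fun v => (A v : Set V.left)) (fun v => (A v).2)
    (fun v _ => Set.mem_iUnion.2 ⟨v, hA v⟩)
  exact ⟨_, fibreLE_of_cover (ι := {v // v ∈ t}) (fun v => A v.1)
    (top_le_iff.1 fun x _ => by
      obtain ⟨v, hv, hx⟩ := Set.mem_iUnion₂.1 (ht (Set.mem_univ x))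
      exact TopologicalSpace.Opens.mem_iSup.2 ⟨⟨v, hv⟩, hx⟩) (fun v => m v.1) (fun v => hm v.1)⟩

end Groth.Agent.AlgSpc
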